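import Cfsg.Agent.S0394
import Cfsg.Agent.S1573
import Cfsg.Agent.S1574
import Cfsg.Agent.S0279
import Cfsg.Agent.S0280
import Cfsg.Agent.Lib.Conway.Order
import Cfsg.Agent.Lib.Conway.Trans4

set_option autoImplicit false

/-!
The order of the joint stabiliser of two minimal vectors of scalar product `-16`, and the order of
`PSU_6(2)`.
-/

namespace Cfsg.Agent.Lib.Conway.U62

open Cfsg Cfsg.Agent.Lib.Helper93.Leech Cfsg.Agent.Lib.Helper93.Golay
open Cfsg.Agent.Lib.Golay.LeechBasis Cfsg.Agent.Lib.Conway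

/-- the minimal vectors of scalar product `-16` with `v` -/
def card62_X (v : leechLattice) : Set leechLattice :=
  {w | sqNorm (w : GolayPt → Int) = 32 ∧ dotInt (v : GolayPt → Int) (w : GolayPt → Int) = -16}

theorem card62_ncard_X (v : leechLattice) (hv : sqNorm (v : GolayPt → Int) = 32) :
    (card62_X v).ncard = 4600 := by
  have h := (Cfsg.Agent.S1573.result (v : GolayPt → Int) v.2 hv).1
  rw [← h]
  have himg : ((fun w : leechLattice => (w : GolayPt → Int)) '' card62_X v) =
      {w : GolayPt → ℤ | w ∈ leechLattice ∧ sqNorm w = 32 ∧ dotInt (v : GolayPt → Int) w = -16} := by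
    ext w
    constructor
    · rintro ⟨x, ⟨hx1, hx2⟩, rfl⟩
      exact ⟨x.2, hx1, hx2⟩
    · rintro ⟨hw, h1, h2⟩
      exact ⟨⟨w, hw⟩, ⟨h1, h2⟩, rfl⟩
  rw [← himg, Set.ncard_image_of_injective _ Subtype.val_injective]

theorem card62_orbit (v w : leechLattice) (hv : sqNorm (v : GolayPt → Int) = 32)
    (hw : sqNorm (w : GolayPt → Int) = 32)
    (hd : dotInt (v : GolayPt → Int) (w : GolayPt → Int) = -16) :
    MulAction.orbit (MulAction.stabilizer Co0 v) w = card62_X v := by
  ext x
  constructor
  · rintro ⟨g, rfl⟩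
    have hg : (g : Co0) • v = v := g.2
    refine ⟨?_, ?_⟩
    · show sqNorm (((g : Co0) • w : leechLattice) : GolayPt → Int) = 32
      rw [co0_norm, hw]
    · show dotInt (v : GolayPt → Int) (((g : Co0) • w : leechLattice) : GolayPt → Int) = -16
      have := co0_dot (g : Co0) v w
      rw [hg] at this
      rw [this, hd]
  · rintro ⟨hx1, hx2⟩
    obtain ⟨g, hgv, hgw⟩ := Cfsg.Agent.S1574.result v w x hv hw hx1 hd hx2
    exact ⟨⟨g, hgv⟩, hgw⟩

/-- the minimal vectors -/
def card62_M : Set leechLattice := {w | sqNorm (w : GolayPt → Int) = 32}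

theorem card62_ncard_M : card62_M.ncard = 196560 := by
  rw [← Cfsg.Agent.S0394.result]
  have himg : ((fun w : leechLattice => (w : GolayPt → Int)) '' card62_M) =
      {w : GolayPt → ℤ | w ∈ leechLattice ∧ sqNorm w = 32} := by
    ext w
    constructor
    · rintro ⟨x, hx1, rfl⟩
      exact ⟨x.2, hx1⟩
    · rintro ⟨hw, h1⟩
      exact ⟨⟨w, hw⟩, h1, rfl⟩
  rw [← himg, Set.ncard_image_of_injective _ Subtype.val_injective]

theorem card62_orbit_M (v : leechLattice) (hv : sqNorm (v : GolayPt → Int) = 32) :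
    MulAction.orbit Co0 v = card62_M := by
  ext x
  constructor
  · rintro ⟨g, rfl⟩
    show sqNorm ((g • v : leechLattice) : GolayPt → Int) = 32
    rw [co0_norm, hv]
  · intro hx
    obtain ⟨g, hg⟩ := trans4 v x hv hx
    exact ⟨g, hg⟩

/-- the order of the stabiliser of a minimal vector -/
theorem card62_stab (v : leechLattice) (hv : sqNorm (v : GolayPt → Int) = 32) :
    Nat.card (MulAction.stabilizer Co0 v) = 42305421312000 := by
  have h1 := Subgroup.card_mul_index (MulAction.stabilizer Co0 v)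
  rw [MulAction.index_stabilizer, card62_orbit_M v hv, card62_ncard_M, card_Co0] at h1
  have h4 : (8315553613086720000 : ℕ) = 42305421312000 * 196560 := by norm_num
  rw [h4] at h1
  exact Nat.eq_of_mul_eq_mul_right (by norm_num) h1

theorem card_pairStab (v w : leechLattice) (hv : sqNorm (v : GolayPt → Int) = 32)
    (hw : sqNorm (w : GolayPt → Int) = 32)
    (hd : dotInt (v : GolayPt → Int) (w : GolayPt → Int) = -16) :
    Nat.card (MulAction.stabilizer Co0 v ⊓ MulAction.stabilizer Co0 w : Subgroup Co0) =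
      9196830720 := by
  have hS : Nat.card (MulAction.stabilizer Co0 v) = 42305421312000 := card62_stab v hv
  have h1 := Subgroup.card_mul_index
    (MulAction.stabilizer (MulAction.stabilizer Co0 v) w)
  rw [MulAction.index_stabilizer, card62_orbit v w hv hw hd, card62_ncard_X v hv, hS] at h1
  have e : MulAction.stabilizer (MulAction.stabilizer Co0 v) w ≃
      (MulAction.stabilizer Co0 v ⊓ MulAction.stabilizer Co0 w : Subgroup Co0) :=
    { toFun := fun g => ⟨g.1.1, Subgroup.mem_inf.mpr ⟨g.1.2, g.2⟩⟩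
      invFun := fun k => ⟨⟨k.1, (Subgroup.mem_inf.mp k.2).1⟩, (Subgroup.mem_inf.mp k.2).2⟩
      left_inv := fun g => rfl
      right_inv := fun k => rfl }
  rw [← Nat.card_congr e]
  have h4 : (42305421312000 : ℕ) = 9196830720 * 4600 := by norm_num
  rw [h4] at h1
  exact Nat.eq_of_mul_eq_mul_right (by norm_num) h1

theorem card62_sq {F : Type*} [Fintype F] (hF : Fintype.card F = 4) : Fintype.card F = 2 ^ 2 := by
  rw [hF]; norm_num

theorem card_center62 {F : Type*} [Field F] [Fintype F] (hF : Fintype.card F = 4) :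
    Nat.card (Subgroup.center (Cfsg.SU 6 F 2)) = 3 := by
  have := Cfsg.Agent.S0279.result (card62_sq hF) 6 (by norm_num)
  rw [this]
  rfl

theorem card_PSU62 {F : Type*} [Field F] [Fintype F] (hF : Fintype.card F = 4) :
    Nat.card (Cfsg.PSU 6 F 2) = 9196830720 := by
  have h := Cfsg.Agent.S0280.result (card62_sq hF) 6 (by norm_num)
  have h2 : (∏ i ∈ Finset.range 6, (if Even i then 2 ^ (i + 1) + 1 else 2 ^ (i + 1) - 1) : ℕ)
      = 2525985 := by decide
  rw [h2] at h
  have h3 : Nat.gcd 6 (2 + 1) = 3 := rfl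
  rw [h3] at h
  omega

end Cfsg.Agent.Lib.Conway.U62
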