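import Mathlib
import Cfsg.Agent.Lib.Helper1.HallDom
import Cfsg.Agent.Lib.Helper1.HallConj

set_option autoImplicit false
set_option linter.style.haveILetI false
set_option linter.unusedSectionVars false

/-!
# Hall subgroups of subgroups of a solvable group

Relative forms of P. Hall's theorems (dominance and conjugacy) for a subgroup `X` of a finite solvable
group, and the factorization of a positive integer into its `π`-part and `π'`-part.
-/

namespace Cfsg.Agent.Lib.Helper19.HallRel

open Subgroup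
open scoped Pointwise

/-- The factorization of a positive integer into `π`-part and `π'`-part. -/
theorem pi_factorization (π : Set ℕ) : ∀ N : ℕ, 0 < N → ∃ m n : ℕ, N = m * n ∧ m.Coprime n ∧
    (∀ p : ℕ, p.Prime → p ∣ m → p ∈ π) ∧ (∀ p : ℕ, p.Prime → p ∣ n → p ∉ π) := by
  intro N
  induction N using Nat.strong_induction_on with
  | _ N ih =>
  intro hN
  by_cases h1 : N = 1
  · subst h1
    refine ⟨1, 1, rfl, Nat.coprime_one_left 1, ?_, ?_⟩
    · intro p hp hd; exact absurd (Nat.dvd_one.1 hd) hp.one_lt.ne'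
    · intro p hp hd; exact absurd (Nat.dvd_one.1 hd) hp.one_lt.ne'
  · have hp : (Nat.minFac N).Prime := Nat.minFac_prime h1
    have hqd : Nat.minFac N ∣ N := Nat.minFac_dvd N
    generalize Nat.minFac N = q at hp hqd
    obtain ⟨e, N', hN', hNe⟩ := Nat.exists_eq_pow_mul_and_not_dvd hN.ne' q hp.ne_one
    have he : e ≠ 0 := by
      rintro rfl
      rw [pow_zero, one_mul] at hNe
      exact hN' (hNe ▸ hqd)
    have hN'pos : 0 < N' := by
      rcases Nat.eq_zero_or_pos N' with h | h
      · rw [h, mul_zero] at hNe; omega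
      · exact h
    have hlt : N' < N := by
      have h2 : 2 ≤ (q) ^ e := by
        calc 2 ≤ q := hp.two_le
          _ = (q) ^ 1 := (pow_one _).symm
          _ ≤ (q) ^ e := Nat.pow_le_pow_right hp.pos (by omega)
      rw [hNe]
      nlinarith
    obtain ⟨m', n', hmn', hcop', hm', hn'⟩ := ih N' hlt hN'pos
    have hcopm : ((q) ^ e).Coprime m' := by
      apply Nat.Coprime.pow_left
      rw [Nat.Prime.coprime_iff_not_dvd hp]
      intro hd
      exact hN' (hd.trans (hmn' ▸ Dvd.intro _ rfl))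
    have hcopn : ((q) ^ e).Coprime n' := by
      apply Nat.Coprime.pow_left
      rw [Nat.Prime.coprime_iff_not_dvd hp]
      intro hd
      exact hN' (hd.trans (hmn' ▸ Dvd.intro_left _ rfl))
    by_cases hπ : q ∈ π
    · refine ⟨(q) ^ e * m', n', ?_, ?_, ?_, hn'⟩
      · rw [hNe, hmn']; ring
      · exact Nat.Coprime.mul_left hcopn hcop'
      · intro p hpp hd
        rcases (Nat.Prime.dvd_mul hpp).1 hd with h | h
        · have := (Nat.prime_dvd_prime_iff_eq hpp hp).1 (hpp.dvd_of_dvd_pow h)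
          rw [this]; exact hπ
        · exact hm' p hpp h
    · refine ⟨m', (q) ^ e * n', ?_, ?_, hm', ?_⟩
      · rw [hNe, hmn']; ring
      · exact Nat.Coprime.mul_right hcopm.symm hcop'
      · intro p hpp hd
        rcases (Nat.Prime.dvd_mul hpp).1 hd with h | h
        · have := (Nat.prime_dvd_prime_iff_eq hpp hp).1 (hpp.dvd_of_dvd_pow h)
          rw [this]; exact hπ
        · exact hn' p hpp h

universe u

variable {S : Type u} [Group S] [Finite S]

/-- **Relative Hall theorem.** Let `X` be a subgroup of a finite solvable group with `|X| = m n`,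
`gcd(m, n) = 1`, `H₂ ≤ X` of order `m` and `U ≤ X` of order prime to `n`. Then `U` lies in an
`X`-conjugate of `H₂`. -/
theorem exists_conj_le [hs : Group.IsSolvable S] (X : Subgroup S) (m n : ℕ)
    (hX : Nat.card X = m * n) (hmn : m.Coprime n) (H₂ : Subgroup S) (hH₂X : H₂ ≤ X)
    (hH₂ : Nat.card H₂ = m) (U : Subgroup S) (hUX : U ≤ X) (hU : (Nat.card U).Coprime n) :
    ∃ g ∈ X, U ≤ MulAut.conj g • H₂ := by
  have hsX : Group.IsSolvable ↥X := inferInstance
  have hcardU : Nat.card (U.subgroupOf X) = Nat.card U :=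
    Nat.card_congr (Subgroup.subgroupOfEquivOfLe hUX).toEquiv
  have hcardH : Nat.card (H₂.subgroupOf X) = m := by
    rw [Nat.card_congr (Subgroup.subgroupOfEquivOfLe hH₂X).toEquiv, hH₂]
  obtain ⟨H', hH'card, hUH'⟩ := Cfsg.Agent.Lib.Helper1.hallDom_all ↥X hsX m n hX hmn
    (U.subgroupOf X) (by rw [hcardU]; exact hU)
  obtain ⟨g, hg⟩ := Cfsg.Agent.Lib.Helper1.hallConj_all ↥X hsX m n hX hmn
    (H₂.subgroupOf X) H' hcardH hH'card
  refine ⟨g, g.2, ?_⟩
  intro u hu
  have h1 : (⟨u, hUX hu⟩ : X) ∈ H' := hUH' (by rw [Subgroup.mem_subgroupOf]; exact hu)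
  rw [← hg, Subgroup.mem_pointwise_smul_iff_inv_smul_mem] at h1
  rw [Subgroup.mem_pointwise_smul_iff_inv_smul_mem]
  rw [Subgroup.mem_subgroupOf] at h1
  simpa using h1

/-- **Relative Hall existence with dominance.** -/
theorem exists_hall_ge [hs : Group.IsSolvable S] (X : Subgroup S) (m n : ℕ)
    (hX : Nat.card X = m * n) (hmn : m.Coprime n) (U : Subgroup S) (hUX : U ≤ X)
    (hU : (Nat.card U).Coprime n) :
    ∃ H₂ : Subgroup S, H₂ ≤ X ∧ Nat.card H₂ = m ∧ U ≤ H₂ := by
  have hsX : Group.IsSolvable ↥X := inferInstance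
  have hcardU : Nat.card (U.subgroupOf X) = Nat.card U :=
    Nat.card_congr (Subgroup.subgroupOfEquivOfLe hUX).toEquiv
  obtain ⟨H', hH'card, hUH'⟩ := Cfsg.Agent.Lib.Helper1.hallDom_all ↥X hsX m n hX hmn
    (U.subgroupOf X) (by rw [hcardU]; exact hU)
  refine ⟨H'.map X.subtype, Subgroup.map_subtype_le H', ?_, ?_⟩
  · rw [Subgroup.card_map_of_injective (Subgroup.subtype_injective X), hH'card]
  · intro u hu
    exact ⟨⟨u, hUX hu⟩, hUH' (by rw [Subgroup.mem_subgroupOf]; exact hu), rfl⟩

end Cfsg.Agent.Lib.Helper19.HallRel
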