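import Mathlib
import Cfsg.Prelude.Def_OddOrderLocal
import Cfsg.Agent.Lib.Helper23.TransCore
import Cfsg.Agent.Lib.Helper23.TypeP
import Cfsg.Agent.Lib.Helper68.BG1215a

/-!
# The standard factorisation `M = K U M_σ` (B&G section 14), abstract form

`K` a Hall `κ`-subgroup, `S` a normal Hall `σ`-subgroup, `U` a Hall `(κ ∪ σ)'`-subgroup normalized
by `K`.  Then `U` complements `K S`, `U S` is normal in `M`, and every other complement `U'` of
`K S` in `M` satisfies `U' S = U S`.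
-/

set_option autoImplicit false

open Subgroup

namespace Cfsg.Agent.Lib.Helper19.BG14

universe u
variable {G : Type u} [Group G]

/-- elements of `H ⊔ N` are products when `H` normalizes `N`. -/
theorem mul_decomp {H N : Subgroup G} (h : H ≤ normalizer (N : Set G)) {x : G}
    (hx : x ∈ H ⊔ N) : ∃ a ∈ H, ∃ n ∈ N, x = a * n := by
  let S : Subgroup G :=
    { carrier := {x | ∃ a ∈ H, ∃ n ∈ N, x = a * n}
      one_mem' := ⟨1, H.one_mem, 1, N.one_mem, by simp⟩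
      mul_mem' := by
        rintro _ _ ⟨a1, ha1, n1, hn1, rfl⟩ ⟨a2, ha2, n2, hn2, rfl⟩
        refine ⟨a1 * a2, H.mul_mem ha1 ha2, (a2⁻¹ * n1 * a2⁻¹⁻¹) * n2, N.mul_mem ?_ hn2,
          by group⟩
        exact (mem_normalizer_iff.1 (h (H.inv_mem ha2)) n1).1 hn1
      inv_mem' := by
        rintro _ ⟨a, ha, n, hn, rfl⟩
        exact ⟨a⁻¹, H.inv_mem ha, a * n⁻¹ * a⁻¹,
          (mem_normalizer_iff.1 (h ha) n⁻¹).1 (N.inv_mem hn), by group⟩ }
  have hle : H ⊔ N ≤ S :=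
    sup_le (fun a ha => ⟨a, ha, 1, N.one_mem, by simp⟩)
      (fun n hn => ⟨1, H.one_mem, n, hn, by simp⟩)
  exact hle hx

theorem le_normalizer_sup2 {X H K : Subgroup G} (h1 : X ≤ normalizer (H : Set G))
    (h2 : X ≤ normalizer (K : Set G)) : X ≤ normalizer ((H ⊔ K : Subgroup G) : Set G) := by
  intro x hx
  rw [mem_normalizer_iff_map_conj_eq, Subgroup.map_sup,
    mem_normalizer_iff_map_conj_eq.1 (h1 hx), mem_normalizer_iff_map_conj_eq.1 (h2 hx)]

theorem card_mul_relIndex' {K L : Subgroup G} (h : K ≤ L) :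
    Nat.card K * K.relIndex L = Nat.card L := by
  rw [← relIndex_bot_left, ← relIndex_bot_left (H := L)]
  exact relIndex_mul_relIndex ⊥ K L bot_le h

/-- two subgroups whose orders have no common prime divisor meet trivially -/
theorem inf_eq_bot_of_primes [Finite G] {A B : Subgroup G}
    (h : ∀ p : ℕ, p.Prime → p ∣ Nat.card A → p ∣ Nat.card B → False) : A ⊓ B = ⊥ := by
  rw [eq_bot_iff]
  intro x hx
  rw [mem_bot]
  by_contra hx1
  have ho : orderOf x ≠ 1 := fun h1 => hx1 (orderOf_eq_one_iff.1 h1)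
  obtain ⟨p, hp, hpx⟩ := Nat.exists_prime_and_dvd ho
  exact h p hp (hpx.trans (Subgroup.orderOf_dvd_natCard A hx.1))
    (hpx.trans (Subgroup.orderOf_dvd_natCard B hx.2))

variable [Finite G]

/-- **Existence half.** -/
theorem decomp_exists {M K U S : Subgroup G} {κ σ : Set ℕ}
    (hK : Cfsg.IsPiHallOf κ K M) (hS : Cfsg.IsPiHallOf σ S M)
    (hSn : M ≤ normalizer (S : Set G))
    (hU : Cfsg.IsPiHallOf {q | q.Prime ∧ q ∉ κ ∧ q ∉ σ} U M)
    (hKU : K ≤ normalizer (U : Set G)) :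
    Cfsg.IsComplIn U (K ⊔ S) M ∧ M ≤ normalizer ((U ⊔ S : Subgroup G) : Set G) := by
  have hKM := hK.1
  have hSM := hS.1
  have hUM := hU.1
  have hKS : K ≤ normalizer (S : Set G) := hKM.trans hSn
  have hUS : U ≤ normalizer (S : Set G) := hUM.trans hSn
  -- `M ≤ U ⊔ (K ⊔ S)`
  have hHM : U ⊔ (K ⊔ S) ≤ M := sup_le hUM (sup_le hKM hSM)
  have hMH : M ≤ U ⊔ (K ⊔ S) := by
    rw [← relIndex_eq_one]
    by_contra h1
    obtain ⟨p, hp, hpd⟩ := Nat.exists_prime_and_dvd h1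
    by_cases hpκ : p ∈ κ
    · exact hK.2.2 p hp hpκ
        (hpd.trans (relIndex_dvd_of_le_left M ((le_sup_left : K ≤ K ⊔ S).trans le_sup_right)))
    · by_cases hpσ : p ∈ σ
      · exact hS.2.2 p hp hpσ
          (hpd.trans (relIndex_dvd_of_le_left M ((le_sup_right : S ≤ K ⊔ S).trans le_sup_right)))
      · exact hU.2.2 p hp ⟨hp, hpκ, hpσ⟩
          (hpd.trans (relIndex_dvd_of_le_left M (le_sup_left : U ≤ U ⊔ (K ⊔ S))))
  have hKN : K ≤ normalizer ((U ⊔ S : Subgroup G) : Set G) := le_normalizer_sup2 hKU hKS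
  refine ⟨⟨hUM, sup_le hKM hSM, ?_, ?_⟩, ?_⟩
  · -- trivial intersection
    apply inf_eq_bot_of_primes
    intro p hp hpU hpKS
    have hpπ := hU.2.1 p hp hpU
    have hd := hpKS.trans (Cfsg.Agent.Lib.Helper23.card_sup_dvd_of_le_normalizer K S hKS)
    rcases (Nat.Prime.dvd_mul hp).1 hd with h | h
    · exact hpπ.2.1 (hK.2.1 p hp h)
    · exact hpπ.2.2 (hS.2.1 p hp h)
  · -- product decomposition
    intro m hm
    have hm' : m ∈ K ⊔ (U ⊔ S) := by
      have := hMH hm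
      have e : U ⊔ (K ⊔ S) = K ⊔ (U ⊔ S) := by
        rw [← sup_assoc, sup_comm U K, sup_assoc]
      rwa [e] at this
    -- `m⁻¹ = k * n`
    have hmi : m⁻¹ ∈ K ⊔ (U ⊔ S) := (K ⊔ (U ⊔ S)).inv_mem hm'
    obtain ⟨k, hk, n, hn, hkn⟩ := mul_decomp hKN hmi
    have hni : n⁻¹ ∈ U ⊔ S := (U ⊔ S).inv_mem hn
    obtain ⟨a, ha, s, hs, has⟩ := mul_decomp hUS hni
    refine ⟨a, ha, s * k⁻¹, (K ⊔ S).mul_mem (le_sup_right (a := K) hs)
      (le_sup_left (b := S) (K.inv_mem hk)), ?_⟩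
    have : m = (k * n)⁻¹ := by rw [← hkn, inv_inv]
    rw [this, mul_inv_rev, has, mul_assoc]
  · -- normality of `U S`
    refine hMH.trans (sup_le ?_ (sup_le hKN ?_))
    · exact le_normalizer_sup2 le_normalizer hUS
    · exact (le_sup_right : S ≤ U ⊔ S).trans le_normalizer

/-- **Uniqueness half**: any complement `U'` of `K S` has `U' S = U S`. -/
theorem decomp_unique {M K U U' S : Subgroup G} {κ σ : Set ℕ}
    (hdisj : ∀ p, p ∈ κ → p ∉ σ)
    (hK : Cfsg.IsPiHallOf κ K M) (hS : Cfsg.IsPiHallOf σ S M)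
    (hSn : M ≤ normalizer (S : Set G))
    (hU : Cfsg.IsPiHallOf {q | q.Prime ∧ q ∉ κ ∧ q ∉ σ} U M)
    (hN : M ≤ normalizer ((U ⊔ S : Subgroup G) : Set G))
    (h' : Cfsg.IsComplIn U' (K ⊔ S) M) : U' ⊔ S = U ⊔ S := by
  have hKM := hK.1
  have hSM := hS.1
  have hUM := hU.1
  have hU'M := h'.1
  have hKS : K ≤ normalizer (S : Set G) := hKM.trans hSn
  have hUS : U ≤ normalizer (S : Set G) := hUM.trans hSn
  have hNM : U ⊔ S ≤ M := sup_le hUM hSM
  -- `U' ≤ U ⊔ S`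
  have hU'N : U' ≤ U ⊔ S := by
    apply Cfsg.Agent.Lib.Helper68.BG1215.le_of_coprime_relIndex hNM hN hU'M
    apply Nat.coprime_of_dvd'
    intro p hp hpU' hpI
    exfalso
    have hpκ : p ∈ κ := by
      by_contra hpκ
      by_cases hpσ : p ∈ σ
      · exact hS.2.2 p hp hpσ (hpI.trans (relIndex_dvd_of_le_left M (le_sup_right : S ≤ U ⊔ S)))
      · exact hU.2.2 p hp ⟨hp, hpκ, hpσ⟩
          (hpI.trans (relIndex_dvd_of_le_left M (le_sup_left : U ≤ U ⊔ S)))
    -- `p ∣ |U'|` forces `p ∣ |M : K|`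
    have hc := Cfsg.Agent.Lib.Helper23.card_isComplIn h'
    have hKd : Nat.card K ∣ Nat.card ↥(K ⊔ S) := Subgroup.card_dvd_of_le le_sup_left
    obtain ⟨t, ht⟩ := hKd
    have hKr := card_mul_relIndex' hKM
    have hKpos : 0 < Nat.card K := Nat.card_pos
    have : K.relIndex M = Nat.card U' * t := by
      have h3 : Nat.card K * K.relIndex M = Nat.card K * (Nat.card U' * t) := by
        rw [hKr, ← hc, ht]; ring
      exact Nat.eq_of_mul_eq_mul_left hKpos h3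
    exact hK.2.2 p hp hpκ (this ▸ Dvd.dvd.mul_right hpU' t)
  have hKN0 : K ⊓ (U ⊔ S) = ⊥ := by
    apply inf_eq_bot_of_primes
    intro p hp hpK hpN
    have hpκ := hK.2.1 p hp hpK
    have hd := hpN.trans (Cfsg.Agent.Lib.Helper23.card_sup_dvd_of_le_normalizer U S hUS)
    rcases (Nat.Prime.dvd_mul hp).1 hd with h | h
    · exact (hU.2.1 p hp h).2.1 hpκ
    · exact hdisj p hpκ (hS.2.1 p hp h)
  refine le_antisymm (sup_le hU'N le_sup_right) ?_
  intro x hx
  obtain ⟨u, hu, b, hb, hxub⟩ := h'.2.2.2 x (hNM hx)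
  have hbN : b ∈ U ⊔ S := by
    have : b = u⁻¹ * x := by rw [hxub]; group
    rw [this]
    exact (U ⊔ S).mul_mem ((U ⊔ S).inv_mem (hU'N hu)) hx
  obtain ⟨k, hk, s, hs, hbks⟩ := mul_decomp hKS hb
  have hkN : k ∈ U ⊔ S := by
    have : k = b * s⁻¹ := by rw [hbks]; group
    rw [this]
    exact (U ⊔ S).mul_mem hbN ((U ⊔ S).inv_mem (le_sup_right (a := U) hs))
  have hk1 : k = 1 := by
    have : k ∈ K ⊓ (U ⊔ S) := ⟨hk, hkN⟩
    rwa [hKN0, mem_bot] at this
  rw [hxub, hbks, hk1, one_mul]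
  exact (U' ⊔ S).mul_mem (le_sup_left (b := S) hu) (le_sup_right (a := U') hs)

end Cfsg.Agent.Lib.Helper19.BG14
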