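import Mathlib
import Cfsg.Prelude.Def_Transfer
import Cfsg.Agent.S0072

set_option autoImplicit false

/-!
# Toolkit for `p`-nilpotent groups (groups with a normal `p`-complement)
-/

namespace Cfsg.Agent.Lib.Helper19

open Cfsg
open Cfsg.Agent.Lib.Helper2

section PNil

variable {p : ℕ} [Fact p.Prime]

/-- A normal `p'`-subgroup of `p`-power index gives a normal `p`-complement. -/
theorem hnpc_of_normal_hall {G : Type*} [Group G] [Finite G] (M : Subgroup G) [M.Normal]
    (hM : (Nat.card M).Coprime p) {k : ℕ} (hk : M.index = p ^ k) :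
    HasNormalPComplement p G := by
  have hp : p.Prime := Fact.out
  let P : Sylow p G := default
  refine ⟨P, M, inferInstance, ?_⟩
  obtain ⟨j, hj⟩ := IsPGroup.iff_card.mp P.2
  have h1 : Nat.card M * p ^ k = Nat.card G := by rw [← hk]; exact M.card_mul_index
  have h2 : Nat.card (P : Subgroup G) * (P : Subgroup G).index = Nat.card G :=
    (P : Subgroup G).card_mul_index
  have h3 : ¬ p ∣ (P : Subgroup G).index := P.not_dvd_index
  have h3' : (p ^ k).Coprime (P : Subgroup G).index :=
    Nat.Coprime.pow_left k ((Nat.Prime.coprime_iff_not_dvd hp).mpr h3)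
  have h4 : p ^ k ∣ p ^ j := by
    have : p ^ k ∣ (P : Subgroup G).index * p ^ j := by
      rw [Nat.mul_comm, ← hj, h2, ← h1]; exact Dvd.intro_left _ rfl
    exact h3'.dvd_of_dvd_mul_left this
  have h5 : p ^ j ∣ p ^ k := by
    have h5' : (p ^ j).Coprime (Nat.card M) := Nat.Coprime.pow_left j hM.symm
    have : p ^ j ∣ Nat.card M * p ^ k := by
      rw [h1, ← h2, hj]; exact Dvd.intro _ rfl
    exact h5'.dvd_of_dvd_mul_left this
  have h6 : p ^ j = p ^ k := Nat.dvd_antisymm h5 h4
  apply Subgroup.isComplement'_of_coprime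
  · rw [hj, h6]; exact h1
  · rw [hj]; exact Nat.Coprime.pow_right j hM

/-- Conversely a normal `p`-complement is a normal `p'`-subgroup of `p`-power index. -/
theorem normal_hall_of_hnpc {G : Type*} [Group G] [Finite G] (h : HasNormalPComplement p G) :
    ∃ M : Subgroup G, M.Normal ∧ (Nat.card M).Coprime p ∧ ∃ k : ℕ, M.index = p ^ k := by
  have hp : p.Prime := Fact.out
  obtain ⟨P, N, hN, hc⟩ := h
  refine ⟨N, hN, ?_, ?_⟩
  · have h1 : (P : Subgroup G).index = Nat.card N := hc.index_eq_card
    have h2 : ¬ p ∣ (P : Subgroup G).index := P.not_dvd_index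
    rw [h1] at h2
    exact ((Nat.Prime.coprime_iff_not_dvd hp).mpr h2).symm
  · obtain ⟨j, hj⟩ := IsPGroup.iff_card.mp P.2
    exact ⟨j, by rw [hc.symm.index_eq_card, hj]⟩

theorem hnpc_of_surjective {G G' : Type*} [Group G] [Finite G] [Group G'] [Finite G']
    (f : G →* G') (hf : Function.Surjective f) (h : HasNormalPComplement p G) :
    HasNormalPComplement p G' := by
  have hp : p.Prime := Fact.out
  obtain ⟨M, hM, hcop, k, hk⟩ := normal_hall_of_hnpc h
  have h1 : (M.map f).index ∣ p ^ k := hk ▸ M.index_map_dvd hf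
  obtain ⟨j, _, hj⟩ := (Nat.dvd_prime_pow hp).mp h1
  haveI : (M.map f).Normal := hM.map f hf
  exact hnpc_of_normal_hall (M.map f) (Nat.Coprime.coprime_dvd_left (M.card_map_dvd f) hcop) hj

theorem hnpc_of_mulEquiv {G G' : Type*} [Group G] [Finite G] [Group G'] [Finite G']
    (e : G ≃* G') (h : HasNormalPComplement p G) : HasNormalPComplement p G' :=
  hnpc_of_surjective e.toMonoidHom e.surjective h

/-- If `N` is a normal `p'`-subgroup and `G ⧸ N` has a normal `p`-complement, so does `G`. -/
theorem hnpc_of_quotient {G : Type*} [Group G] [Finite G] (N : Subgroup G) [N.Normal]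
    (hN : (Nat.card N).Coprime p) (h : HasNormalPComplement p (G ⧸ N)) :
    HasNormalPComplement p G := by
  obtain ⟨M, hM, hcop, k, hk⟩ := normal_hall_of_hnpc h
  set M' := M.comap (QuotientGroup.mk' N) with hM'
  haveI : M'.Normal := hM.comap _
  have hidx : M'.index = p ^ k := by
    rw [hM', Subgroup.index_comap_of_surjective _ (QuotientGroup.mk'_surjective N), hk]
  have h1 : Nat.card M' * p ^ k = Nat.card G := by rw [← hidx]; exact M'.card_mul_index
  have h2 : Nat.card M * p ^ k = Nat.card (G ⧸ N) := by rw [← hk]; exact M.card_mul_index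
  have h3 : Nat.card G = Nat.card (G ⧸ N) * Nat.card N :=
    Subgroup.card_eq_card_quotient_mul_card_subgroup N
  have h4 : Nat.card M' = Nat.card M * Nat.card N := by
    have hpos : 0 < p ^ k := Nat.pos_of_ne_zero (by
      intro h0; rw [h0, Nat.mul_zero] at h1
      exact (Nat.card_pos (α := G)).ne' h1.symm)
    apply Nat.eq_of_mul_eq_mul_right hpos
    rw [h1, h3, ← h2]; ring
  refine hnpc_of_normal_hall M' ?_ hidx
  rw [h4]
  exact Nat.Coprime.mul_left hcop hN

/-- relative `p`-nilpotency of a subgroup -/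
def PN (p : ℕ) {G : Type*} [Group G] (K : Subgroup G) : Prop := HasNormalPComplement p ↥K

variable {G : Type*} [Group G] [Finite G]

theorem pn_top_iff : PN p (⊤ : Subgroup G) ↔ HasNormalPComplement p G :=
  ⟨hnpc_of_mulEquiv Subgroup.topEquiv, hnpc_of_mulEquiv Subgroup.topEquiv.symm⟩

theorem PN.mono {K L : Subgroup G} (hL : PN p L) (hKL : K ≤ L) : PN p K := by
  unfold PN at hL ⊢
  have h1 : FrobCond p ↥L := (Cfsg.Agent.S0072.hasNormalPComplement_iff_frobCond p).mp hL
  have h2 : FrobCond p ↥(K.subgroupOf L) := frobCond_subgroup h1 _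
  have h3 := (Cfsg.Agent.S0072.hasNormalPComplement_iff_frobCond p).mpr h2
  exact hnpc_of_mulEquiv (Subgroup.subgroupOfEquivOfLe hKL) h3

/-- the Frobenius condition, relative form -/
theorem PN.frob {K : Subgroup G} (hK : PN p K) {Q : Subgroup G} (hQK : Q ≤ K) (hQ : IsPGroup p Q)
    {g : G} (hgK : g ∈ K) (hg : g ∈ Subgroup.normalizer (Q : Set G))
    (hgo : (orderOf g).Coprime p) : g ∈ Subgroup.centralizer (Q : Set G) := by
  have h1 : FrobCond p ↥K := (Cfsg.Agent.S0072.hasNormalPComplement_iff_frobCond p).mp hK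
  have hQ' : IsPGroup p (Q.subgroupOf K) := hQ.comap_of_injective K.subtype K.subtype_injective
  have hg' : (⟨g, hgK⟩ : ↥K) ∈ Subgroup.normalizer ((Q.subgroupOf K : Subgroup ↥K) : Set ↥K) := by
    rw [Subgroup.mem_normalizer_iff]
    intro h
    rw [Subgroup.mem_subgroupOf, Subgroup.mem_subgroupOf]
    exact Subgroup.mem_normalizer_iff.mp hg h
  have hgo' : (orderOf (⟨g, hgK⟩ : ↥K)).Coprime p := by
    rw [← Subgroup.orderOf_coe]; exact hgo
  have h2 := h1 _ hQ' _ hg' hgo'
  rw [Subgroup.mem_centralizer_iff] at h2 ⊢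
  intro q hq
  have := h2 ⟨q, hQK hq⟩ (by rw [SetLike.mem_coe, Subgroup.mem_subgroupOf]; exact hq)
  exact congrArg Subtype.val this

theorem PN.map {G' : Type*} [Group G'] [Finite G'] (f : G →* G') {K : Subgroup G}
    (hK : PN p K) : PN p (K.map f) :=
  hnpc_of_surjective (f.subgroupMap K) (f.subgroupMap_surjective K) hK

theorem PN.of_map_injective {G' : Type*} [Group G'] [Finite G'] (f : G →* G')
    (hf : Function.Injective f) {K : Subgroup G} (hK : PN p (K.map f)) : PN p K :=
  hnpc_of_mulEquiv (K.equivMapOfInjective f hf).symm hK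

end PNil

end Cfsg.Agent.Lib.Helper19
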