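import Mathlib

set_option autoImplicit false

namespace Cfsg.Agent.Lib.Helper19

open scoped BigOperators

section FrobAction

variable {F V : Type*} [Group F] [Fintype F] [CommGroup V]

/-- Core identity for a "Frobenius-like" action: `F` acts on the commutative group `V` through
`φ`; for each index `i` in a finite type `ι` we are given compatible endomorphisms `α i` of `F`
and `β i` of `V`, such that `g ↦ g * (α i g)⁻¹` is bijective. Then
`∏ i, ∏ f, φ f (β i w) = ∏ g, φ g (∏ i, β i (φ g⁻¹ w))`. -/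
theorem frob_identity {ι : Type*} [Fintype ι] (φ : F →* MulAut V) (α : ι → (F →* F))
    (β : ι → (V →* V)) (compat : ∀ i f v, β i (φ f v) = φ (α i f) (β i v))
    (hbij : ∀ i, Function.Bijective fun g : F => g * (α i g)⁻¹) (w : V) :
    ∏ i, ∏ f : F, φ f (β i w) = ∏ g : F, φ g (∏ i, β i (φ g⁻¹ w)) := by
  have h1 : ∀ i, ∏ f : F, φ f (β i w) = ∏ g : F, φ g (β i (φ g⁻¹ w)) := by
    intro i
    rw [← (Equiv.ofBijective _ (hbij i)).prod_comp]
    apply Finset.prod_congr rfl
    intro g _
    simp only [Equiv.ofBijective_apply]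
    rw [compat, map_mul, MulAut.mul_apply, map_inv (α i)]
  rw [Finset.prod_congr rfl (fun i _ => h1 i), Finset.prod_comm]
  apply Finset.prod_congr rfl
  intro g _
  rw [map_prod]

/-- If moreover `β i₀ = id`, the `α i` for `i ≠ i₀` satisfy the bijectivity condition and
`∏ i, β i w = 1` for all `w`, then `w ^ |F| = ∏ f, φ f w`. -/
theorem frob_pow_card {ι : Type*} [Fintype ι] [DecidableEq ι] (φ : F →* MulAut V)
    (α : ι → (F →* F)) (β : ι → (V →* V))
    (compat : ∀ i f v, β i (φ f v) = φ (α i f) (β i v)) (i₀ : ι)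
    (hβ₀ : β i₀ = MonoidHom.id V)
    (hbij : ∀ i, i ≠ i₀ → Function.Bijective fun g : F => g * (α i g)⁻¹)
    (htr : ∀ w : V, ∏ i, β i w = 1) (w : V) :
    w ^ Fintype.card F = ∏ f : F, φ f w := by
  classical
  -- apply the identity to the index type without i₀
  have key := frob_identity (ι := {i // i ≠ i₀}) φ (fun i => α i) (fun i => β i)
    (fun i f v => compat i f v) (fun i => hbij i i.2) w
  -- ∏ over all i = (i₀ term) * ∏ over i ≠ i₀
  have hsplit : ∀ v : V, ∏ i : {i // i ≠ i₀}, β i v = v⁻¹ := by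
    intro v
    have := htr v
    rw [← Finset.mul_prod_erase Finset.univ (fun i => β i v) (Finset.mem_univ i₀), hβ₀,
      MonoidHom.id_apply] at this
    have h2 : ∏ i : {i // i ≠ i₀}, β i v = ∏ i ∈ Finset.univ.erase i₀, β i v := by
      rw [← Finset.prod_subtype (Finset.univ.erase i₀) (by simp) (fun i => β i v)]
    rw [h2]
    exact eq_inv_of_mul_eq_one_right this
  -- left side of key
  have hL : ∏ i : {i // i ≠ i₀}, ∏ f : F, φ f (β (i : ι) w) = (∏ f : F, φ f w)⁻¹ := by
    rw [Finset.prod_comm]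
    rw [← Finset.prod_inv_distrib]
    apply Finset.prod_congr rfl
    intro f _
    rw [← map_prod, hsplit, map_inv]
  have hR : ∏ g : F, φ g (∏ i : {i // i ≠ i₀}, β (i : ι) (φ g⁻¹ w)) = (w ^ Fintype.card F)⁻¹ := by
    have : ∀ g : F, φ g (∏ i : {i // i ≠ i₀}, β (i : ι) (φ g⁻¹ w)) = w⁻¹ := by
      intro g
      rw [hsplit, map_inv, ← MulAut.mul_apply, ← map_mul, mul_inv_cancel, map_one,
        MulAut.one_apply]
    rw [Finset.prod_congr rfl (fun g _ => this g), Finset.prod_const, Finset.card_univ, inv_pow]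
  rw [hL, hR] at key
  exact (inv_injective key).symm

/-- Consequence: if `n ↦ w ^ n` with `n = |F|` is injective on `V`, `F` acts trivially. -/
theorem frob_trivial {ι : Type*} [Fintype ι] [DecidableEq ι] (φ : F →* MulAut V)
    (α : ι → (F →* F)) (β : ι → (V →* V))
    (compat : ∀ i f v, β i (φ f v) = φ (α i f) (β i v)) (i₀ : ι)
    (hβ₀ : β i₀ = MonoidHom.id V)
    (hbij : ∀ i, i ≠ i₀ → Function.Bijective fun g : F => g * (α i g)⁻¹)
    (htr : ∀ w : V, ∏ i, β i w = 1)
    (hinj : ∀ v : V, v ^ Fintype.card F = 1 → v = 1) (g : F) (w : V) : φ g w = w := by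
  have h1 := frob_pow_card φ α β compat i₀ hβ₀ hbij htr w
  have h2 : φ g (∏ f : F, φ f w) = ∏ f : F, φ f w := by
    rw [map_prod]
    have h3 : ∀ f : F, φ g (φ f w) = φ (g * f) w := by
      intro f
      rw [map_mul, MulAut.mul_apply]
    rw [Finset.prod_congr rfl (fun f _ => h3 f)]
    exact Equiv.prod_comp (Equiv.mulLeft g) (fun f => φ f w)
  rw [← h1, map_pow] at h2
  have h3 : (φ g w * w⁻¹) ^ Fintype.card F = 1 := by
    rw [mul_pow, h2, inv_pow, mul_inv_cancel]
  have := hinj _ h3
  exact mul_inv_eq_one.mp this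

end FrobAction

end Cfsg.Agent.Lib.Helper19
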