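import Mathlib
import Cfsg.Agent.Lib.Helper19.FrobAction

set_option autoImplicit false

/-!
# Quadratic action kills commutators with abelian `p'`-groups

`Γ` acts on the elementary abelian `p`-group `V` (`p` odd); `a ∈ Γ` with `a ^ p = 1` acts
quadratically; `Q ≤ Γ` is an abelian `a`-invariant `p'`-subgroup. Then `[Q, a]` acts trivially.
-/

namespace Cfsg.Agent.Lib.Helper19

open scoped BigOperators

section QuadKill

variable {Γ V : Type*} [Group Γ] [CommGroup V]

theorem quad_pow (act : Γ →* MulAut V) (a : Γ)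
    (hquad : ∀ v : V, act a (act a v * v⁻¹) = act a v * v⁻¹) (w : V) (i : ℕ) :
    act (a ^ i) w = w * (act a w * w⁻¹) ^ i := by
  induction i with
  | zero => simp
  | succ i ih =>
    rw [pow_succ', map_mul, MulAut.mul_apply, ih, map_mul, map_pow, hquad, pow_succ]
    have : act a w = w * (act a w * w⁻¹) := by
      rw [mul_comm (act a w), ← mul_assoc, mul_inv_cancel, one_mul]
    calc act a w * (act a w * w⁻¹) ^ i = w * (act a w * w⁻¹) * (act a w * w⁻¹) ^ i := by
          rw [← this]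
      _ = w * ((act a w * w⁻¹) ^ i * (act a w * w⁻¹)) := by
          rw [mul_assoc, mul_comm ((act a w * w⁻¹)) _]

theorem quad_trace {p : ℕ} (hp : p.Prime) (hp2 : p ≠ 2) (act : Γ →* MulAut V) (a : Γ)
    (hexp : ∀ v : V, v ^ p = 1)
    (hquad : ∀ v : V, act a (act a v * v⁻¹) = act a v * v⁻¹) (w : V) :
    ∏ i ∈ Finset.range p, act (a ^ i) w = 1 := by
  have h1 : ∀ i ∈ Finset.range p, act (a ^ i) w = w * (act a w * w⁻¹) ^ i :=
    fun i _ => quad_pow act a hquad w i
  rw [Finset.prod_congr rfl h1, Finset.prod_mul_distrib, Finset.prod_const, Finset.card_range,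
    hexp, one_mul, Finset.prod_pow_eq_pow_sum]
  have h2 : p ∣ ∑ i ∈ Finset.range p, i := by
    have h3 : (∑ i ∈ Finset.range p, i) * 2 = p * (p - 1) := Finset.sum_range_id_mul_two p
    have h4 : p ∣ (∑ i ∈ Finset.range p, i) * 2 := by rw [h3]; exact Dvd.intro _ rfl
    have h5 : p.Coprime 2 := by
      rw [Nat.Prime.coprime_iff_not_dvd hp]
      intro h
      exact hp2 ((Nat.prime_dvd_prime_iff_eq hp Nat.prime_two).mp h)
    exact h5.dvd_of_dvd_mul_right h4
  obtain ⟨k, hk⟩ := h2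
  rw [hk, pow_mul, hexp, one_pow]

end QuadKill

section Main

variable {Γ V : Type*} [Group Γ] [Finite Γ] [CommGroup V]

/-- conjugation by `a` on an `a`-invariant subgroup -/
def conjOn (Q : Subgroup Γ) (a : Γ) (hQn : ∀ x ∈ Q, a * x * a⁻¹ ∈ Q) : ↥Q →* ↥Q where
  toFun x := ⟨a * x * a⁻¹, hQn x x.2⟩
  map_one' := by ext; simp
  map_mul' x y := by ext; simp [mul_assoc]

/-- iterates of `conjOn` -/
def conjOnPow (Q : Subgroup Γ) (a : Γ) (hQn : ∀ x ∈ Q, a * x * a⁻¹ ∈ Q) : ℕ → (↥Q →* ↥Q)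
  | 0 => MonoidHom.id _
  | (i + 1) => (conjOn Q a hQn).comp (conjOnPow Q a hQn i)

omit [Finite Γ] in
theorem conjOnPow_coe (Q : Subgroup Γ) (a : Γ) (hQn : ∀ x ∈ Q, a * x * a⁻¹ ∈ Q) (i : ℕ)
    (x : ↥Q) : ((conjOnPow Q a hQn i x : ↥Q) : Γ) = a ^ i * x * (a ^ i)⁻¹ := by
  induction i with
  | zero => simp [conjOnPow]
  | succ i ih =>
    show a * ((conjOnPow Q a hQn i x : ↥Q) : Γ) * a⁻¹ = _
    rw [ih, pow_succ']
    group

theorem conjOnPow_succ' (Q : Subgroup Γ) (a : Γ) (hQn : ∀ x ∈ Q, a * x * a⁻¹ ∈ Q) (i : ℕ)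
    (x : ↥Q) : conjOnPow Q a hQn (i + 1) x = conjOnPow Q a hQn i (conjOn Q a hQn x) := by
  apply Subtype.ext
  rw [conjOnPow_coe, conjOnPow_coe]
  show a ^ (i + 1) * (x : Γ) * (a ^ (i + 1))⁻¹ = a ^ i * (a * (x : Γ) * a⁻¹) * (a ^ i)⁻¹
  rw [pow_succ]
  group

theorem quad_kill {p : ℕ} [hpf : Fact p.Prime] (hp2 : p ≠ 2) (act : Γ →* MulAut V) (a : Γ)
    (ha : a ^ p = 1) (hexp : ∀ v : V, v ^ p = 1)
    (hquad : ∀ v : V, act a (act a v * v⁻¹) = act a v * v⁻¹)
    (Q : Subgroup Γ) (hQc : ∀ x ∈ Q, ∀ y ∈ Q, x * y = y * x)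
    (hQn : ∀ x ∈ Q, a * x * a⁻¹ ∈ Q) (hQp : (Nat.card Q).Coprime p)
    (x : Γ) (hx : x ∈ Q) : act (x⁻¹ * (a * x * a⁻¹)) = 1 := by
  classical
  have hp : p.Prime := hpf.out
  letI : CommGroup ↥Q :=
    { (inferInstance : Group ↥Q) with
      mul_comm := fun x y => Subtype.ext (hQc x x.2 y y.2) }
  set σ := conjOn Q a hQn with hσ
  set sig := conjOnPow Q a hQn with hsig
  -- the norm map
  let N : ↥Q →* ↥Q := ∏ i ∈ Finset.range p, sig i
  have hN : ∀ y : ↥Q, N y = ∏ i ∈ Finset.range p, sig i y := fun y =>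
    MonoidHom.finsetProd_apply _ _ _
  have hsigp : ∀ y : ↥Q, sig p y = y := by
    intro y
    apply Subtype.ext
    rw [conjOnPow_coe, ha]; simp
  -- N ∘ σ = N
  have k1 : ∀ y : ↥Q, N (σ y) = N y := by
    intro y
    rw [hN, hN]
    have h1 : ∀ i ∈ Finset.range p, sig i (σ y) = sig (i + 1) y :=
      fun i _ => (conjOnPow_succ' Q a hQn i y).symm
    rw [Finset.prod_congr rfl h1]
    have h2 := Finset.prod_range_succ' (fun i => sig i y) p
    have h3 := Finset.prod_range_succ (fun i => sig i y) p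
    rw [h3] at h2
    rw [hsigp] at h2
    have h4 : sig 0 y = y := rfl
    rw [h4] at h2
    exact (mul_right_cancel h2).symm
  have k1' : ∀ (i : ℕ) (y : ↥Q), N (sig i y) = N y := by
    intro i
    induction i with
    | zero => intro y; rfl
    | succ i ih =>
      intro y
      show N (σ (sig i y)) = N y
      rw [k1, ih]
  set F : Subgroup ↥Q := N.ker with hF
  have k2 : ∀ y : ↥Q, y⁻¹ * σ y ∈ F := by
    intro y
    rw [hF, MonoidHom.mem_ker, map_mul, map_inv, k1, inv_mul_cancel]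
  have k3 : ∀ (i : ℕ) (y : ↥Q), y ∈ F → sig i y ∈ F := by
    intro i y hy
    rw [hF, MonoidHom.mem_ker] at hy ⊢
    rw [k1', hy]
  -- fixed points of `sig i` on `F`
  have k4 : ∀ i : ℕ, 0 < i → i < p → ∀ d : ↥Q, d ∈ F → sig i d = d → d = 1 := by
    intro i hi0 hip d hd hfix
    have hcop : i.Coprime p := by
      apply Nat.Coprime.symm
      rw [Nat.Prime.coprime_iff_not_dvd hp]
      intro h
      exact absurd (Nat.le_of_dvd hi0 h) (by omega)
    obtain ⟨m, -, hm⟩ := Nat.exists_mul_mod_eq_one_of_coprime hcop hp.one_lt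
    -- `a ^ i` commutes with `d`
    have c1 : a ^ i * (d : Γ) = (d : Γ) * a ^ i := by
      have := congrArg Subtype.val hfix
      rw [conjOnPow_coe] at this
      calc a ^ i * (d : Γ) = (a ^ i * (d : Γ) * (a ^ i)⁻¹) * a ^ i := by group
        _ = (d : Γ) * a ^ i := by rw [this]
    have c2 : a = (a ^ i) ^ m := by
      rw [← pow_mul, pow_eq_pow_mod (i * m) ha, hm, pow_one]
    have c3 : a * (d : Γ) = (d : Γ) * a := by
      have : Commute (a ^ i) (d : Γ) := c1
      have h := this.pow_left m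
      rw [← c2] at h
      exact h
    have c4 : ∀ k : ℕ, sig k d = d := by
      intro k
      apply Subtype.ext
      rw [conjOnPow_coe]
      have : Commute a (d : Γ) := c3
      have h := (this.pow_left k).eq
      rw [h]; group
    have c5 : d ^ p = 1 := by
      have h1 : N d = 1 := hd
      rw [hN, Finset.prod_congr rfl (fun k _ => c4 k), Finset.prod_const,
        Finset.card_range] at h1
      exact h1
    have c6 : orderOf d ∣ p := orderOf_dvd_of_pow_eq_one c5
    have c7 : orderOf d ∣ Nat.card ↥Q := orderOf_dvd_natCard d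
    have c8 : (orderOf d).Coprime p := Nat.Coprime.coprime_dvd_left c7 hQp
    have c9 : orderOf d = 1 := Nat.Coprime.eq_one_of_dvd c8 c6
    exact orderOf_eq_one_iff.mp c9
  -- set up the Frobenius-type action
  haveI : Fintype ↥F := Fintype.ofFinite _
  haveI : NeZero p := ⟨hp.ne_zero⟩
  let φ : ↥F →* MulAut V := act.comp (Q.subtype.comp F.subtype)
  let α : Fin p → (↥F →* ↥F) := fun i =>
    ((sig i).comp F.subtype).codRestrict F (fun y => k3 i y y.2)
  let β : Fin p → (V →* V) := fun i => (act (a ^ (i : ℕ))).toMonoidHom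
  have compat : ∀ (i : Fin p) (f : ↥F) (v : V), β i (φ f v) = φ (α i f) (β i v) := by
    intro i f v
    show act (a ^ (i : ℕ)) (act ((f : ↥Q) : Γ) v) =
      act (((sig i (f : ↥Q)) : ↥Q) : Γ) (act (a ^ (i : ℕ)) v)
    rw [conjOnPow_coe, ← MulAut.mul_apply, ← MulAut.mul_apply, ← map_mul, ← map_mul]
    congr 2
    group
  have hβ₀ : β 0 = MonoidHom.id V := by
    ext v
    show act (a ^ ((0 : Fin p) : ℕ)) v = v
    simp
  have hbij : ∀ i : Fin p, i ≠ 0 → Function.Bijective fun g : ↥F => g * (α i g)⁻¹ := by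
    intro i hi
    have hi0 : 0 < (i : ℕ) := Nat.pos_of_ne_zero (fun h => hi (Fin.ext h))
    rw [← Finite.injective_iff_bijective]
    intro g g' hgg
    simp only at hgg
    -- d = g * g'⁻¹ is fixed
    set d : ↥F := g * g'⁻¹ with hd
    have hfix : α i d = d := by
      have e1 : α i d = α i g * (α i g')⁻¹ := by rw [hd, map_mul, map_inv]
      have e2 : g * (α i g)⁻¹ = g' * (α i g')⁻¹ := hgg
      rw [e1, hd]
      -- in the commutative group `F`
      have comm : ∀ u v : ↥F, u * v = v * u := fun u v =>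
        Subtype.ext (mul_comm (u : ↥Q) (v : ↥Q))
      calc α i g * (α i g')⁻¹ = (g * (α i g)⁻¹)⁻¹ * g * (α i g')⁻¹ := by group
        _ = (g' * (α i g')⁻¹)⁻¹ * g * (α i g')⁻¹ := by rw [e2]
        _ = α i g' * (g'⁻¹ * g) * (α i g')⁻¹ := by group
        _ = (g'⁻¹ * g) * α i g' * (α i g')⁻¹ := by rw [comm (α i g') (g'⁻¹ * g)]
        _ = g'⁻¹ * g := by group
        _ = g * g'⁻¹ := comm _ _
    have hfix' : sig i (d : ↥Q) = (d : ↥Q) := congrArg Subtype.val hfix
    have hd1 := k4 i hi0 i.2 (d : ↥Q) d.2 hfix'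
    have hd2 : d = 1 := Subtype.ext hd1
    rw [hd] at hd2
    exact mul_inv_eq_one.mp hd2
  have htr : ∀ w : V, ∏ i, β i w = 1 := by
    intro w
    have := quad_trace hp hp2 act a hexp hquad w
    rw [← Fin.prod_univ_eq_prod_range (fun i => act (a ^ i) w) p] at this
    exact this
  have hinj : ∀ v : V, v ^ Fintype.card ↥F = 1 → v = 1 := by
    intro v hv
    have c1 : orderOf v ∣ Fintype.card ↥F := orderOf_dvd_of_pow_eq_one hv
    have c2 : orderOf v ∣ p := orderOf_dvd_of_pow_eq_one (hexp v)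
    have c3 : Fintype.card ↥F ∣ Nat.card ↥Q := by
      rw [← Nat.card_eq_fintype_card]; exact Subgroup.card_subgroup_dvd_card F
    have c4 : (orderOf v).Coprime p := Nat.Coprime.coprime_dvd_left (c1.trans c3) hQp
    exact orderOf_eq_one_iff.mp (Nat.Coprime.eq_one_of_dvd c4 c2)
  have key := frob_trivial φ α β compat 0 hβ₀ hbij htr hinj
  -- apply to `y = x⁻¹ * σ x`
  ext w
  have := key ⟨(⟨x, hx⟩ : ↥Q)⁻¹ * σ ⟨x, hx⟩, k2 ⟨x, hx⟩⟩ w
  exact this

end Main

end Cfsg.Agent.Lib.Helper19
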