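import Mathlib
import Cfsg.Prelude.Def_Transfer
import Cfsg.Prelude.Def_PLocal
import Cfsg.Agent.Lib.Helper91.Offender

set_option autoImplicit false

/-!
# Timmesfeld / Thompson replacement

`A` acts on the abelian subgroup `V` (by conjugation inside `G`) with abelian image, and
`|B| |C_V(B)| ≤ |A| |C_V(A)|` for all `B ≤ A`. Then for `U ≤ V`, `A* = C_A([U, A])` satisfies
`C_V(A*) = [U, A] C_V(A)` and `|A*| |C_V(A*)| = |A| |C_V(A)|`.
-/

namespace Cfsg.Agent.Lib.Helper19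

open scoped commutatorElement
open Cfsg

section TR

variable {G : Type*} [Group G]

/-- the subgroup generated by the commutators `⁅u, a⁆`, `u ∈ S`, `a ∈ A` -/
def commSet (S : Set G) (A : Subgroup G) : Subgroup G :=
  Subgroup.closure {g | ∃ u ∈ S, ∃ a ∈ A, ⁅u, a⁆ = g}

theorem commSet_coe (U A : Subgroup G) : commSet (U : Set G) A = ⁅U, A⁆ := by
  rw [Subgroup.commutator_def]; rfl

theorem commSet_union (S T : Set G) (A : Subgroup G) :
    commSet (S ∪ T) A = commSet S A ⊔ commSet T A := by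
  unfold commSet
  rw [← Subgroup.closure_union]
  congr 1
  ext g
  constructor
  · rintro ⟨u, hu | hu, a, ha, rfl⟩
    · exact Or.inl ⟨u, hu, a, ha, rfl⟩
    · exact Or.inr ⟨u, hu, a, ha, rfl⟩
  · rintro (⟨u, hu, a, ha, rfl⟩ | ⟨u, hu, a, ha, rfl⟩)
    · exact ⟨u, Or.inl hu, a, ha, rfl⟩
    · exact ⟨u, Or.inr hu, a, ha, rfl⟩

theorem commSet_empty (A : Subgroup G) : commSet (∅ : Set G) A = ⊥ := by
  unfold commSet
  rw [Subgroup.closure_eq_bot_iff]
  rintro g ⟨u, hu, _⟩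
  exact absurd hu (Set.notMem_empty u)

/-- The standing hypotheses: `V` abelian, normalized by `A`, and `A' ≤ C(V)`. -/
structure ActCtx (V A : Subgroup G) : Prop where
  comm : ∀ x ∈ V, ∀ y ∈ V, x * y = y * x
  norm : A ≤ Subgroup.normalizer (V : Set G)
  ab : ⁅A, A⁆ ≤ Subgroup.centralizer (V : Set G)

namespace ActCtx

variable {V A : Subgroup G}

theorem conj_mem (h : ActCtx V A) {a u : G} (ha : a ∈ A) (hu : u ∈ V) : a * u * a⁻¹ ∈ V :=
  (Subgroup.mem_normalizer_iff.mp (h.norm ha) u).mp hu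

theorem comm_mem (h : ActCtx V A) {a u : G} (ha : a ∈ A) (hu : u ∈ V) : ⁅u, a⁆ ∈ V := by
  have h1 : ⁅u, a⁆ = u * (a * u * a⁻¹)⁻¹ := by
    rw [commutatorElement_def]; group
  rw [h1]
  exact V.mul_mem hu (V.inv_mem (h.conj_mem ha hu))

theorem conj_conj (h : ActCtx V A) {a b u : G} (ha : a ∈ A) (hb : b ∈ A) (hu : u ∈ V) :
    a * (b * u * b⁻¹) * a⁻¹ = b * (a * u * a⁻¹) * b⁻¹ := by
  have h1 : ⁅a⁻¹, b⁻¹⁆ ∈ Subgroup.centralizer (V : Set G) :=
    h.ab (Subgroup.commutator_mem_commutator (A.inv_mem ha) (A.inv_mem hb))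
  have h2 : u * ⁅a⁻¹, b⁻¹⁆ = ⁅a⁻¹, b⁻¹⁆ * u := Subgroup.mem_centralizer_iff.mp h1 u hu
  have h3 : ⁅a⁻¹, b⁻¹⁆ * u * ⁅a⁻¹, b⁻¹⁆⁻¹ = u := by
    rw [← h2]; group
  calc a * (b * u * b⁻¹) * a⁻¹ = b * a * (⁅a⁻¹, b⁻¹⁆ * u * ⁅a⁻¹, b⁻¹⁆⁻¹) * a⁻¹ * b⁻¹ := by
        rw [commutatorElement_def]; group
    _ = b * (a * u * a⁻¹) * b⁻¹ := by rw [h3]; group

/-- The symmetric form of "`b` fixes `⁅u, a⁆`". -/
theorem fix_iff (h : ActCtx V A) {a b u : G} (ha : a ∈ A) (hb : b ∈ A) (hu : u ∈ V) :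
    b * ⁅u, a⁆ * b⁻¹ = ⁅u, a⁆ ↔
      (b * u * b⁻¹) * (a * u * a⁻¹) = u * (b * (a * u * a⁻¹) * b⁻¹) := by
  set x := b * u * b⁻¹ with hx
  set y := a * u * a⁻¹ with hy
  set z := b * y * b⁻¹ with hz
  have hxV : x ∈ V := h.conj_mem hb hu
  have hyV : y ∈ V := h.conj_mem ha hu
  have hzV : z ∈ V := h.conj_mem hb hyV
  have e1 : b * ⁅u, a⁆ * b⁻¹ = x * z⁻¹ := by
    rw [commutatorElement_def, hx, hz, hy]; group
  have e2 : ⁅u, a⁆ = u * y⁻¹ := by
    rw [commutatorElement_def, hy]; group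
  rw [e1, e2]
  have hzy : z * y = y * z := h.comm z hzV y hyV
  constructor
  · intro h1
    calc x * y = (x * z⁻¹) * (z * y) := by group
      _ = (u * y⁻¹) * (y * z) := by rw [h1, hzy]
      _ = u * z := by group
  · intro h1
    have hzy' : z * y⁻¹ * z⁻¹ = y⁻¹ := by
      have : z * y⁻¹ = y⁻¹ * z := by
        calc z * y⁻¹ = y⁻¹ * (y * z) * y⁻¹ := by group
          _ = y⁻¹ * (z * y) * y⁻¹ := by rw [hzy]
          _ = y⁻¹ * z := by group
      rw [this]; group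
    calc x * z⁻¹ = (x * y) * y⁻¹ * z⁻¹ := by group
      _ = (u * z) * y⁻¹ * z⁻¹ := by rw [h1]
      _ = u * (z * y⁻¹ * z⁻¹) := by group
      _ = u * y⁻¹ := by rw [hzy']

/-- `b` fixes `⁅u, a⁆` iff `a` fixes `⁅u, b⁆`. -/
theorem fix_symm (h : ActCtx V A) {a b u : G} (ha : a ∈ A) (hb : b ∈ A) (hu : u ∈ V) :
    b * ⁅u, a⁆ * b⁻¹ = ⁅u, a⁆ ↔ a * ⁅u, b⁆ * a⁻¹ = ⁅u, b⁆ := by
  rw [h.fix_iff ha hb hu, h.fix_iff hb ha hu, h.conj_conj hb ha hu,
    h.comm _ (h.conj_mem hb hu) _ (h.conj_mem ha hu)]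

end ActCtx

/-- `C_A` of the commutators with `S`. -/
def centOn (S : Set G) (A : Subgroup G) : Subgroup G :=
  A ⊓ Subgroup.centralizer (commSet S A : Set G)

theorem mem_centralizer_closure_iff (X : Set G) (b : G) :
    b ∈ Subgroup.centralizer ((Subgroup.closure X : Subgroup G) : Set G) ↔
      ∀ x ∈ X, x * b = b * x := by
  rw [Subgroup.centralizer_closure]
  exact Subgroup.mem_centralizer_iff

theorem mem_centOn_iff {V A : Subgroup G} (h : ActCtx V A) {S : Set G} (hS : S ⊆ V) (b : G) :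
    b ∈ centOn S A ↔ b ∈ A ∧ ∀ u ∈ S, ⁅u, b⁆ ∈ Subgroup.centralizer (A : Set G) := by
  unfold centOn commSet
  rw [Subgroup.mem_inf, mem_centralizer_closure_iff]
  constructor
  · rintro ⟨hb, h1⟩
    refine ⟨hb, fun u hu => ?_⟩
    rw [Subgroup.mem_centralizer_iff]
    intro a ha
    have h2 : b * ⁅u, a⁆ * b⁻¹ = ⁅u, a⁆ := by
      have := h1 ⁅u, a⁆ ⟨u, hu, a, ha, rfl⟩
      rw [← this]; group
    have h3 := (h.fix_symm ha hb (hS hu)).mp h2
    calc a * ⁅u, b⁆ = (a * ⁅u, b⁆ * a⁻¹) * a := by group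
      _ = ⁅u, b⁆ * a := by rw [h3]
  · rintro ⟨hb, h1⟩
    refine ⟨hb, ?_⟩
    rintro _ ⟨u, hu, a, ha, rfl⟩
    have h2 : a * ⁅u, b⁆ * a⁻¹ = ⁅u, b⁆ := by
      have := Subgroup.mem_centralizer_iff.mp (h1 u hu) a ha
      rw [this]; group
    have h3 := (h.fix_symm ha hb (hS hu)).mpr h2
    calc ⁅u, a⁆ * b = (b * ⁅u, a⁆ * b⁻¹) * b := by rw [h3]
      _ = b * ⁅u, a⁆ := by group

theorem centOn_union {V A : Subgroup G} (h : ActCtx V A) {S T : Set G} (hS : S ⊆ V)
    (hT : T ⊆ V) : centOn (S ∪ T) A = centOn S A ⊓ centOn T A := by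
  ext b
  rw [Subgroup.mem_inf, mem_centOn_iff h (Set.union_subset hS hT), mem_centOn_iff h hS,
    mem_centOn_iff h hT]
  constructor
  · rintro ⟨hb, h1⟩
    exact ⟨⟨hb, fun u hu => h1 u (Or.inl hu)⟩, ⟨hb, fun u hu => h1 u (Or.inr hu)⟩⟩
  · rintro ⟨⟨hb, h1⟩, ⟨_, h2⟩⟩
    refine ⟨hb, ?_⟩
    rintro u (hu | hu)
    · exact h1 u hu
    · exact h2 u hu

theorem centOn_le (S : Set G) (A : Subgroup G) : centOn S A ≤ A := inf_le_left

theorem centOn_empty (A : Subgroup G) : centOn (∅ : Set G) A = A := by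
  unfold centOn
  rw [commSet_empty]
  apply le_antisymm inf_le_left
  intro a ha
  refine ⟨ha, ?_⟩
  show a ∈ Subgroup.centralizer ((⊥ : Subgroup G) : Set G)
  rw [Subgroup.mem_centralizer_iff]
  intro g hg
  have : g = 1 := by simpa using hg
  rw [this]; simp


/-! ### The counting step -/

section Count

variable [Finite G] {V A : Subgroup G}

/-- the "measure" `|B| |C_V(B)|` -/
noncomputable def mu (V B : Subgroup G) : ℕ :=
  Nat.card B * Nat.card ↥(V ⊓ Subgroup.centralizer (B : Set G))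

theorem mu_pos (V B : Subgroup G) : 0 < mu V B :=
  Nat.mul_pos Nat.card_pos Nat.card_pos

theorem count_step (h : ActCtx V A) {u : G} (hu : u ∈ V) :
    Nat.card A * Nat.card ↥(V ⊓ Subgroup.centralizer (A : Set G)) ≤
      Nat.card ↥(centOn {u} A) *
        Nat.card ↥(commSet {u} A ⊔ (V ⊓ Subgroup.centralizer (A : Set G))) := by
  classical
  set Au := centOn {u} A with hAu
  set C := V ⊓ Subgroup.centralizer (A : Set G) with hC
  set K := commSet {u} A with hK
  have hS : ({u} : Set G) ⊆ V := by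
    intro x hx; rw [Set.mem_singleton_iff] at hx; rw [hx]; exact hu
  let rep : G → G := fun a => ((a : G ⧸ Au)).out
  have hrep : ∀ a : G, (rep a)⁻¹ * a ∈ Au := by
    intro a
    obtain ⟨k, hk⟩ := QuotientGroup.mk_out_eq_mul Au a
    have : (rep a)⁻¹ * a = (k : G)⁻¹ := by
      show (((a : G ⧸ Au)).out)⁻¹ * a = (k : G)⁻¹
      rw [hk]; group
    rw [this]
    exact Au.inv_mem k.2
  let F : ↥A × ↥C → ↥Au × ↥(K ⊔ C) := fun x =>
    (⟨(rep (x.1 : G))⁻¹ * (x.1 : G), hrep _⟩,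
     ⟨⁅u, (x.1 : G)⁆ * (x.2 : G),
       (K ⊔ C).mul_mem
        ((le_sup_left : K ≤ K ⊔ C) (Subgroup.subset_closure ⟨u, rfl, x.1, x.1.2, rfl⟩))
        ((le_sup_right : C ≤ K ⊔ C) x.2.2)⟩)
  have hF : Function.Injective F := by
    rintro ⟨⟨a, ha⟩, ⟨c, hc⟩⟩ ⟨⟨a', ha'⟩, ⟨c', hc'⟩⟩ hxy
    have h1 : (rep a)⁻¹ * a = (rep a')⁻¹ * a' := by
      have := congrArg (fun t => ((t.1 : ↥Au) : G)) hxy
      exact this
    have h2 : ⁅u, a⁆ * c = ⁅u, a'⁆ * c' := by
      have := congrArg (fun t => ((t.2 : ↥(K ⊔ C)) : G)) hxy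
      exact this
    -- `a⁻¹ a' ∈ A_u`
    have h3 : a⁻¹ * a' ∈ Au := by
      rw [hAu, mem_centOn_iff h hS]
      refine ⟨A.mul_mem (A.inv_mem ha) ha', ?_⟩
      intro v hv
      rw [Set.mem_singleton_iff] at hv
      subst hv
      set d := ⁅v, a⁆⁻¹ * ⁅v, a'⁆ with hd
      have hdC : d ∈ C := by
        have : d = c * c'⁻¹ := by
          rw [hd]
          calc ⁅v, a⁆⁻¹ * ⁅v, a'⁆ = ⁅v, a⁆⁻¹ * (⁅v, a'⁆ * c') * c'⁻¹ := by group
            _ = ⁅v, a⁆⁻¹ * (⁅v, a⁆ * c) * c'⁻¹ := by rw [h2]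
            _ = c * c'⁻¹ := by group
        rw [this]
        exact C.mul_mem hc (C.inv_mem hc')
      have h4 : ⁅v, a⁻¹ * a'⁆ = a⁻¹ * d * a := by
        rw [hd, commutatorElement_def, commutatorElement_def, commutatorElement_def]; group
      have h5 : a⁻¹ * d * a = d := by
        have := Subgroup.mem_centralizer_iff.mp hdC.2 a ha
        calc a⁻¹ * d * a = a⁻¹ * (d * a) := by group
          _ = a⁻¹ * (a * d) := by rw [← this]
          _ = d := by group
      rw [h4, h5]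
      exact hdC.2
    have h6 : rep a = rep a' := by
      show ((a : G ⧸ Au)).out = ((a' : G ⧸ Au)).out
      rw [QuotientGroup.eq.mpr h3]
    have h7 : a = a' := by
      rw [h6] at h1
      exact mul_left_cancel h1
    subst h7
    have h8 : c = c' := mul_left_cancel h2
    subst h8
    rfl
  have := Nat.card_le_card_of_injective F hF
  rwa [Nat.card_prod, Nat.card_prod] at this

/-- hypothesis (H): `A` maximizes `|B| |C_V(B)|` among its subgroups -/
def IsMuMax (V A : Subgroup G) : Prop := ∀ B : Subgroup G, B ≤ A → mu V B ≤ mu V A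

omit [Finite G] in
theorem commSet_le (h : ActCtx V A) {S : Set G} (hS : S ⊆ V) : commSet S A ≤ V := by
  unfold commSet
  rw [Subgroup.closure_le]
  rintro _ ⟨u, hu, a, ha, rfl⟩
  exact h.comm_mem ha (hS hu)

theorem single_step (h : ActCtx V A) (hmax : IsMuMax V A) {u : G} (hu : u ∈ V) :
    mu V (centOn {u} A) = mu V A ∧
      V ⊓ Subgroup.centralizer (centOn {u} A : Set G) =
        commSet {u} A ⊔ (V ⊓ Subgroup.centralizer (A : Set G)) := by
  have hS : ({u} : Set G) ⊆ V := by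
    intro x hx; rw [Set.mem_singleton_iff] at hx; rw [hx]; exact hu
  have h1 := count_step h hu
  have h2 : commSet {u} A ⊔ (V ⊓ Subgroup.centralizer (A : Set G)) ≤
      V ⊓ Subgroup.centralizer (centOn {u} A : Set G) := by
    apply sup_le
    · apply le_inf (commSet_le h hS)
      rw [Subgroup.le_centralizer_iff]
      exact inf_le_right
    · exact inf_le_inf_left V (Subgroup.centralizer_le (centOn_le _ A))
  have h3 := Subgroup.card_le_of_le h2
  have h4 : mu V (centOn {u} A) ≤ mu V A := hmax _ (centOn_le _ A)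
  have h5 : mu V A ≤ Nat.card ↥(centOn {u} A) *
      Nat.card ↥(commSet {u} A ⊔ (V ⊓ Subgroup.centralizer (A : Set G))) := h1
  have h6 : Nat.card ↥(centOn {u} A) *
      Nat.card ↥(commSet {u} A ⊔ (V ⊓ Subgroup.centralizer (A : Set G))) ≤
      mu V (centOn {u} A) := Nat.mul_le_mul_left _ h3
  have h7 : mu V (centOn {u} A) = mu V A := le_antisymm h4 (h5.trans h6)
  refine ⟨h7, ?_⟩
  have h8 : Nat.card ↥(centOn {u} A) *
      Nat.card ↥(commSet {u} A ⊔ (V ⊓ Subgroup.centralizer (A : Set G))) =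
      Nat.card ↥(centOn {u} A) *
        Nat.card ↥(V ⊓ Subgroup.centralizer (centOn {u} A : Set G)) :=
    le_antisymm h6 (h4.trans h5)
  have h9 := Nat.eq_of_mul_eq_mul_left Nat.card_pos h8
  exact (Subgroup.eq_of_le_of_card_ge h2 h9.ge).symm

theorem inter_step (hmax : IsMuMax V A) {B₁ B₂ : Subgroup G} (hB₁ : B₁ ≤ A) (hB₂ : B₂ ≤ A)
    (h₁ : mu V B₁ = mu V A) (h₂ : mu V B₂ = mu V A) :
    mu V (B₁ ⊓ B₂) = mu V A ∧
      V ⊓ Subgroup.centralizer ((B₁ ⊓ B₂ : Subgroup G) : Set G) =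
        (V ⊓ Subgroup.centralizer (B₁ : Set G)) ⊔ (V ⊓ Subgroup.centralizer (B₂ : Set G)) := by
  set W₁ := V ⊓ Subgroup.centralizer (B₁ : Set G) with hW₁
  set W₂ := V ⊓ Subgroup.centralizer (B₂ : Set G) with hW₂
  set M := mu V A with hM
  have hMpos : 0 < M := mu_pos V A
  -- containments
  have c1 : W₁ ⊔ W₂ ≤ V ⊓ Subgroup.centralizer ((B₁ ⊓ B₂ : Subgroup G) : Set G) := by
    apply sup_le
    · exact inf_le_inf_left V (Subgroup.centralizer_le (by exact_mod_cast (inf_le_left : B₁ ⊓ B₂ ≤ B₁)))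
    · exact inf_le_inf_left V (Subgroup.centralizer_le (by exact_mod_cast (inf_le_right : B₁ ⊓ B₂ ≤ B₂)))
  have c2 : W₁ ⊓ W₂ ≤ V ⊓ Subgroup.centralizer ((B₁ ⊔ B₂ : Subgroup G) : Set G) := by
    intro x hx
    refine ⟨hx.1.1, ?_⟩
    show x ∈ Subgroup.centralizer ((B₁ ⊔ B₂ : Subgroup G) : Set G)
    have hx1 : x ∈ Subgroup.centralizer (B₁ : Set G) := hx.1.2
    have hx2 : x ∈ Subgroup.centralizer (B₂ : Set G) := hx.2.2
    have : B₁ ⊔ B₂ ≤ Subgroup.centralizer ((Subgroup.zpowers x : Subgroup G) : Set G) := by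
      apply sup_le
      · rw [Subgroup.le_centralizer_iff, Subgroup.zpowers_le]; exact hx1
      · rw [Subgroup.le_centralizer_iff, Subgroup.zpowers_le]; exact hx2
    rw [Subgroup.le_centralizer_iff, Subgroup.zpowers_le] at this
    exact this
  -- cardinal inequalities
  have k1 := Cfsg.Agent.Lib.Helper91.card_mul_card_le_card_inf_mul_card_sup B₁ B₂
  have k2 := Cfsg.Agent.Lib.Helper91.card_mul_card_le_card_inf_mul_card_sup W₁ W₂
  have k3 := Subgroup.card_le_of_le c1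
  have k4 := Subgroup.card_le_of_le c2
  have k5 : mu V (B₁ ⊓ B₂) ≤ M := hmax _ (inf_le_left.trans hB₁)
  have k6 : mu V (B₁ ⊔ B₂) ≤ M := hmax _ (sup_le hB₁ hB₂)
  -- abbreviations
  set b₁ := Nat.card B₁
  set b₂ := Nat.card B₂
  set w₁ := Nat.card W₁
  set w₂ := Nat.card W₂
  set i := Nat.card (B₁ ⊓ B₂ : Subgroup G)
  set s := Nat.card (B₁ ⊔ B₂ : Subgroup G)
  set wi := Nat.card (W₁ ⊓ W₂ : Subgroup G)
  set w := Nat.card (W₁ ⊔ W₂ : Subgroup G)
  set ci := Nat.card ↥(V ⊓ Subgroup.centralizer ((B₁ ⊓ B₂ : Subgroup G) : Set G))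
  set cs := Nat.card ↥(V ⊓ Subgroup.centralizer ((B₁ ⊔ B₂ : Subgroup G) : Set G))
  have e1 : b₁ * w₁ = M := h₁
  have e2 : b₂ * w₂ = M := h₂
  have e5 : i * ci ≤ M := k5
  have e6 : s * cs ≤ M := k6
  have ipos : 0 < i := Nat.card_pos
  have spos : 0 < s := Nat.card_pos
  have cspos : 0 < cs := Nat.card_pos
  have cipos : 0 < ci := Nat.card_pos
  have wipos : 0 < wi := Nat.card_pos
  -- the chain
  have ch1 : M * M ≤ (i * s) * (wi * w) := by
    calc M * M = (b₁ * w₁) * (b₂ * w₂) := by rw [e1, e2]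
      _ = (b₁ * b₂) * (w₁ * w₂) := by ring
      _ ≤ (i * s) * (wi * w) := Nat.mul_le_mul k1 k2
  have ch2 : (i * s) * (wi * w) ≤ (i * s) * (cs * w) :=
    Nat.mul_le_mul_left _ (Nat.mul_le_mul_right _ k4)
  have ch3 : (i * s) * (cs * w) ≤ (i * s) * (cs * ci) :=
    Nat.mul_le_mul_left _ (Nat.mul_le_mul_left _ k3)
  have ch4 : (i * s) * (cs * ci) = (i * ci) * (s * cs) := by ring
  have ch5 : (i * ci) * (s * cs) ≤ M * M := Nat.mul_le_mul e5 e6
  have hEq : (i * s) * (cs * w) = (i * s) * (cs * ci) := by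
    apply le_antisymm ch3
    calc (i * s) * (cs * ci) = (i * ci) * (s * cs) := ch4
      _ ≤ M * M := ch5
      _ ≤ (i * s) * (wi * w) := ch1
      _ ≤ (i * s) * (cs * w) := ch2
  have hw : w = ci := by
    have h1 := Nat.eq_of_mul_eq_mul_left (Nat.mul_pos ipos spos) hEq
    exact Nat.eq_of_mul_eq_mul_left cspos h1
  have hi : i * ci = M := by
    by_contra hne
    have hlt : i * ci < M := lt_of_le_of_ne e5 hne
    have : (i * ci) * (s * cs) < M * M := by
      calc (i * ci) * (s * cs) ≤ (i * ci) * M := Nat.mul_le_mul_left _ e6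
        _ < M * M := Nat.mul_lt_mul_of_pos_right hlt hMpos
    have h2 : M * M ≤ (i * ci) * (s * cs) := by
      calc M * M ≤ (i * s) * (wi * w) := ch1
        _ ≤ (i * s) * (cs * w) := ch2
        _ ≤ (i * s) * (cs * ci) := ch3
        _ = (i * ci) * (s * cs) := ch4
    omega
  refine ⟨hi, ?_⟩
  exact (Subgroup.eq_of_le_of_card_ge c1 hw.ge).symm

theorem finset_step (h : ActCtx V A) (hmax : IsMuMax V A) (s : Finset G)
    (hs : (↑s : Set G) ⊆ V) :
    mu V (centOn (↑s) A) = mu V A ∧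
      V ⊓ Subgroup.centralizer (centOn (↑s) A : Set G) =
        commSet (↑s) A ⊔ (V ⊓ Subgroup.centralizer (A : Set G)) := by
  classical
  induction s using Finset.induction_on with
  | empty =>
    rw [Finset.coe_empty, centOn_empty, commSet_empty, bot_sup_eq]
    exact ⟨rfl, rfl⟩
  | insert u s hu ih =>
    rw [Finset.coe_insert, Set.insert_eq] at hs ⊢
    have hsV : (↑s : Set G) ⊆ V := (Set.subset_union_right).trans hs
    have huV : u ∈ V := hs (Or.inl rfl)
    have huS : ({u} : Set G) ⊆ V := (Set.subset_union_left).trans hs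
    obtain ⟨i1, i2⟩ := ih hsV
    obtain ⟨j1, j2⟩ := single_step h hmax huV
    obtain ⟨k1, k2⟩ := inter_step hmax (B₁ := centOn ({u} : Set G) A)
      (B₂ := centOn (↑s : Set G) A) (centOn_le ({u} : Set G) A) (centOn_le (↑s : Set G) A) j1 i1
    rw [centOn_union h huS hsV, commSet_union]
    refine ⟨k1, ?_⟩
    rw [k2, j2, i2]
    -- lattice identity
    apply le_antisymm
    · apply sup_le
      · apply sup_le
        · exact le_sup_left.trans le_sup_left
        · exact le_sup_right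
      · apply sup_le
        · exact le_sup_right.trans le_sup_left
        · exact le_sup_right
    · apply sup_le
      · apply sup_le
        · exact le_sup_left.trans le_sup_left
        · exact le_sup_left.trans le_sup_right
      · exact le_sup_right.trans le_sup_left

/-- **Timmesfeld replacement** (core form). -/
theorem timmesfeld_core (h : ActCtx V A) (hmax : IsMuMax V A) (U : Subgroup G) (hU : U ≤ V) :
    mu V (A ⊓ Subgroup.centralizer ((⁅U, A⁆ : Subgroup G) : Set G)) = mu V A ∧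
      V ⊓ Subgroup.centralizer
          ((A ⊓ Subgroup.centralizer ((⁅U, A⁆ : Subgroup G) : Set G) : Subgroup G) : Set G) =
        ⁅U, A⁆ ⊔ (V ⊓ Subgroup.centralizer (A : Set G)) := by
  classical
  have hfin : (U : Set G).Finite := Set.toFinite _
  have := finset_step h hmax hfin.toFinset (by rw [Set.Finite.coe_toFinset]; exact hU)
  rw [Set.Finite.coe_toFinset] at this
  unfold centOn at this
  rw [commSet_coe] at this
  exact this

end Count

end TR

end Cfsg.Agent.Lib.Helper19
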