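import Mathlib
import Cfsg.Agent.Lib.Helper19.TR
import Cfsg.Agent.Lib.Helper10.Card
import Cfsg.Agent.Lib.Helper91.Thompson

set_option autoImplicit false

/-!
# Thompson replacement for maximal elementary abelian subgroups
-/

namespace Cfsg.Agent.Lib.Helper19

open scoped commutatorElement
open Cfsg

section TR2

variable {G : Type*} [Group G]

/-- In a nilpotent subgroup `X`, a subgroup `W ≤ X` with `W ≤ ⁅W, A⁆`, `A ≤ X`, is trivial. -/
theorem eq_bot_of_le_commutator {X W A : Subgroup G} (hX : Group.IsNilpotent X) (hW : W ≤ X)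
    (hA : A ≤ X) (h : W ≤ ⁅W, A⁆) : W = ⊥ := by
  obtain ⟨n, hn⟩ := (Subgroup.isNilpotent_iff_lowerCentralSeries X).mp hX
  have key : ∀ k, W ≤ X.lowerCentralSeries k := by
    intro k
    induction k with
    | zero => exact hW
    | succ k ih =>
      rw [Subgroup.lowerCentralSeries_succ]
      exact h.trans (Subgroup.commutator_mono ih hA)
  rw [eq_bot_iff, ← hn]
  exact key n

theorem commutator_mul_left_of_commute {w c a : G} (hc : c * a = a * c) :
    ⁅w * c, a⁆ = ⁅w, a⁆ := by
  rw [commutatorElement_def, commutatorElement_def]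
  have : c * a * c⁻¹ = a := by rw [hc]; group
  calc w * c * a * (w * c)⁻¹ * a⁻¹ = w * (c * a * c⁻¹) * w⁻¹ * a⁻¹ := by group
    _ = w * a * w⁻¹ * a⁻¹ := by rw [this]

variable [Finite G] {p : ℕ}

/-- **Thompson replacement**: for `A` elementary abelian of maximal order and `V` a normal elementary
abelian subgroup, `A₀ = [V, A] C_A([V, A])` is again of maximal order, acts quadratically on `V`,
and nontrivially if `A` does. -/
theorem thompson_replacement [Fact p.Prime] (V : Subgroup G) [V.Normal] (hV : IsElementaryAbelian p V)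
    (A : Subgroup G) (hA : A ∈ maxElementaryAbelianSubgroups p G) :
    (⁅V, A⁆ ⊔ (A ⊓ Subgroup.centralizer ((⁅V, A⁆ : Subgroup G) : Set G))) ∈
        maxElementaryAbelianSubgroups p G ∧
      ⁅⁅V, ⁅V, A⁆ ⊔ (A ⊓ Subgroup.centralizer ((⁅V, A⁆ : Subgroup G) : Set G))⁆,
        ⁅V, A⁆ ⊔ (A ⊓ Subgroup.centralizer ((⁅V, A⁆ : Subgroup G) : Set G))⁆ = ⊥ ∧
      (⁅V, A⁆ ≠ ⊥ →
        ⁅V, ⁅V, A⁆ ⊔ (A ⊓ Subgroup.centralizer ((⁅V, A⁆ : Subgroup G) : Set G))⁆ ≠ ⊥) := by
  set W := ⁅V, A⁆ with hW
  set As := A ⊓ Subgroup.centralizer (W : Set G) with hAs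
  set A₀ := W ⊔ As with hA₀
  set C := V ⊓ Subgroup.centralizer (A : Set G) with hC
  have hVc : ∀ x ∈ V, ∀ y ∈ V, x * y = y * x := fun x hx y hy =>
    Cfsg.Agent.Lib.Helper91.IsElementaryAbelian.commute hV hx hy
  have hAc : ∀ x ∈ A, ∀ y ∈ A, x * y = y * x := fun x hx y hy =>
    Cfsg.Agent.Lib.Helper91.IsElementaryAbelian.commute hA.1 hx hy
  have hAA : ⁅A, A⁆ = ⊥ := by
    rw [Subgroup.commutator_eq_bot_iff_le_centralizer]
    intro a ha
    rw [Subgroup.mem_centralizer_iff]
    intro b hb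
    exact hAc b hb a ha
  have hctx : ActCtx V A := by
    refine ⟨hVc, ?_, ?_⟩
    · rw [Subgroup.normalizer_eq_top]; exact le_top
    · rw [hAA]; exact bot_le
  have hmax : IsMuMax V A :=
    (Cfsg.Agent.Lib.Helper91.isBestOffenderOn_of_mem_maxElementaryAbelianSubgroups V hV hA).1
  obtain ⟨h1, h2⟩ := timmesfeld_core hctx hmax V le_rfl
  rw [← hC] at h2
  have hWV : W ≤ V := Subgroup.commutator_le_left V A
  -- `C ≤ A`
  have hCA : C ≤ A := by
    intro x hx
    apply Cfsg.Agent.Lib.Helper91.mem_of_commute_maxElementaryAbelian hA (hV.2 x hx.1)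
    intro a ha
    exact (Subgroup.mem_centralizer_iff.mp hx.2 a ha)
  have hCAs : C ≤ As := by
    intro x hx
    refine ⟨hCA hx, ?_⟩
    show x ∈ Subgroup.centralizer (W : Set G)
    rw [Subgroup.mem_centralizer_iff]
    intro w hw
    exact hVc w (hWV hw) x hx.1
  -- `A₀` is elementary abelian
  have hE : IsElementaryAbelian p A₀ := by
    have : A₀ = Subgroup.closure ((W : Set G) ∪ (As : Set G)) := by
      rw [Subgroup.closure_union, Subgroup.closure_eq, Subgroup.closure_eq]
    rw [this]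
    apply Cfsg.Agent.Lib.Helper91.isElementaryAbelian_closure
    · rintro a (ha | ha) b (hb | hb)
      · exact hVc a (hWV ha) b (hWV hb)
      · exact ((Subgroup.mem_centralizer_iff.mp hb.2) a ha)
      · exact ((Subgroup.mem_centralizer_iff.mp ha.2) b hb).symm
      · exact hAc a ha.1 b hb.1
    · rintro a (ha | ha)
      · exact hV.2 a (hWV ha)
      · exact hA.1.2 a ha.1
  have hA₀c : ∀ x ∈ A₀, ∀ y ∈ A₀, x * y = y * x := fun x hx y hy =>
    Cfsg.Agent.Lib.Helper91.IsElementaryAbelian.commute hE hx hy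
  -- cardinality
  have hcard : Nat.card A ≤ Nat.card A₀ := by
    set W' := V ⊓ Subgroup.centralizer (As : Set G) with hW'
    have k1 := Cfsg.Agent.Lib.Helper91.card_mul_card_le_card_inf_mul_card_sup As W'
    have k2 : As ⊔ W' ≤ A₀ := by
      apply sup_le le_sup_right
      rw [h2]
      exact sup_le le_sup_left (hCAs.trans le_sup_right)
    have k3 : As ⊓ W' ≤ C := by
      intro x hx
      refine ⟨hx.2.1, ?_⟩
      show x ∈ Subgroup.centralizer (A : Set G)
      rw [Subgroup.mem_centralizer_iff]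
      intro a ha
      exact hAc a ha x hx.1.1
    have k4 : mu V As = mu V A := h1
    unfold mu at k4
    rw [← hW', ← hC] at k4
    have k5 : Nat.card A * Nat.card C ≤ Nat.card C * Nat.card A₀ := by
      calc Nat.card A * Nat.card C = Nat.card As * Nat.card W' := k4.symm
        _ ≤ Nat.card (As ⊓ W' : Subgroup G) * Nat.card (As ⊔ W' : Subgroup G) := k1
        _ ≤ Nat.card C * Nat.card A₀ :=
          Nat.mul_le_mul (Subgroup.card_le_of_le k3) (Subgroup.card_le_of_le k2)
    have k6 : Nat.card C * Nat.card A ≤ Nat.card C * Nat.card A₀ := by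
      rw [Nat.mul_comm (Nat.card C) (Nat.card A)]; exact k5
    exact Nat.le_of_mul_le_mul_left k6 Nat.card_pos
  have hmem : A₀ ∈ maxElementaryAbelianSubgroups p G :=
    ⟨hE, fun B hB => (hA.2 B hB).trans hcard⟩
  -- `V` normalizes `A₀`
  have hnorm : ∀ v ∈ V, ∀ x ∈ A₀, v * x * v⁻¹ ∈ A₀ := by
    intro v hv
    have : A₀ ≤ A₀.comap (MulAut.conj v).toMonoidHom := by
      apply sup_le
      · intro w hw
        rw [Subgroup.mem_comap]
        show v * w * v⁻¹ ∈ A₀
        have : v * w * v⁻¹ = w := by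
          rw [hVc v hv w (hWV hw)]; group
        rw [this]
        exact (le_sup_left : W ≤ A₀) hw
      · intro b hb
        rw [Subgroup.mem_comap]
        show v * b * v⁻¹ ∈ A₀
        have e : v * b * v⁻¹ = ⁅v, b⁆ * b := by rw [commutatorElement_def]; group
        rw [e]
        apply A₀.mul_mem
        · exact (le_sup_left : W ≤ A₀) (Subgroup.commutator_mem_commutator hv hb.1)
        · exact (le_sup_right : As ≤ A₀) hb
    intro x hx
    exact this hx
  have hVA₀ : ⁅V, A₀⁆ ≤ A₀ := by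
    rw [Subgroup.commutator_le]
    intro v hv x hx
    have e : ⁅v, x⁆ = (v * x * v⁻¹) * x⁻¹ := by rw [commutatorElement_def]
    rw [e]
    exact A₀.mul_mem (hnorm v hv x hx) (A₀.inv_mem hx)
  have hA₀A₀ : ⁅A₀, A₀⁆ = ⊥ := by
    rw [Subgroup.commutator_eq_bot_iff_le_centralizer]
    intro a ha
    rw [Subgroup.mem_centralizer_iff]
    intro b hb
    exact hA₀c b hb a ha
  refine ⟨hmem, ?_, ?_⟩
  · rw [eq_bot_iff, ← hA₀A₀]
    exact Subgroup.commutator_mono hVA₀ le_rfl
  · intro hne hbot
    apply hne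
    -- `A₀` centralizes `V`, so `V = C_V(As) = W ⊔ C`
    have g1 : V ≤ Subgroup.centralizer (A₀ : Set G) :=
      Subgroup.commutator_eq_bot_iff_le_centralizer.mp hbot
    have g2 : V ≤ V ⊓ Subgroup.centralizer (As : Set G) := by
      apply le_inf le_rfl
      exact g1.trans (Subgroup.centralizer_le (by exact_mod_cast (le_sup_right : As ≤ A₀)))
    rw [h2] at g2
    -- `W ≤ ⁅W, A⁆`
    have hCW : C ≤ Subgroup.normalizer (W : Set G) := by
      intro c hc
      have : c ∈ Subgroup.centralizer (W : Set G) := by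
        rw [Subgroup.mem_centralizer_iff]
        intro w hw
        exact hVc w (hWV hw) c hc.1
      exact Subgroup.centralizer_le_normalizer _ this
    have g3 : W ≤ ⁅W, A⁆ := by
      rw [hW, Subgroup.commutator_le]
      intro v hv a ha
      have hv' : v ∈ ((C ⊔ W : Subgroup G) : Set G) := by
        rw [sup_comm]; exact g2 hv
      rw [← Cfsg.Agent.Lib.Helper10.mul_set_eq_sup_of_le_normalizer hCW] at hv'
      obtain ⟨c, hc, w, hw, rfl⟩ := hv'
      have hcw : c * w = w * c := hVc c hc.1 w (hWV hw)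
      show ⁅c * w, a⁆ ∈ ⁅⁅V, A⁆, A⁆
      rw [hcw, commutator_mul_left_of_commute
        ((Subgroup.mem_centralizer_iff.mp hc.2 a ha).symm)]
      exact Subgroup.commutator_mem_commutator hw ha
    -- nilpotency of `V ⊔ A`
    have hX : Group.IsNilpotent ↥(V ⊔ A) := by
      have hVp : IsPGroup p V := Cfsg.Agent.Lib.Helper91.isPGroup_of_isElementaryAbelian hV
      have hAp : IsPGroup p A := Cfsg.Agent.Lib.Helper91.isPGroup_of_isElementaryAbelian hA.1
      have : IsPGroup p ↥(V ⊔ A) := by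
        rw [sup_comm]
        exact IsPGroup.to_sup_of_normal_right hAp hVp
      exact this.isNilpotent
    exact eq_bot_of_le_commutator hX (hWV.trans le_sup_left) le_sup_right g3

end TR2

end Cfsg.Agent.Lib.Helper19
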