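import Mathlib
import Cfsg.Prelude.Def_Transfer
import Cfsg.Agent.Lib.Helper10.ThompsonIn

set_option autoImplicit false

/-!
# Transport lemmas for `J(T)` and `Z(T)` inside an ambient group
-/

namespace Cfsg.Agent.Lib.Helper19

open Cfsg
open Cfsg.Agent.Lib.Helper10

section ThJ

variable {G G' : Type*} [Group G] [Group G'] {p : ℕ}

theorem card_map_of_injOn (f : G →* G') {A : Subgroup G} (h : Set.InjOn f (A : Set G)) :
    Nat.card (A.map f) = Nat.card A := by
  have hinj : Function.Injective (f.subgroupMap A) := by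
    intro x y hxy
    have := congrArg Subtype.val hxy
    exact Subtype.ext (h x.2 y.2 this)
  exact (Nat.card_congr (Equiv.ofBijective _ ⟨hinj, f.subgroupMap_surjective A⟩)).symm

/-- the part of a subgroup of `T.map f` lying over `T` -/
theorem map_comap_inf_of_le_map (f : G →* G') {T : Subgroup G} {B : Subgroup G'}
    (hB : B ≤ T.map f) : (B.comap f ⊓ T).map f = B := by
  apply le_antisymm
  · rintro _ ⟨x, hx, rfl⟩
    exact hx.1
  · intro b hb
    obtain ⟨t, ht, rfl⟩ := hB hb
    exact ⟨t, ⟨hb, ht⟩, rfl⟩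

theorem elemAb_comap_inf_of_injOn (f : G →* G') {T : Subgroup G} (hf : Set.InjOn f (T : Set G))
    {B : Subgroup G'} (hB : IsElementaryAbelian p B) :
    IsElementaryAbelian p (B.comap f ⊓ T) := by
  refine ⟨IsMulCommutative.of_setLike_mul_comm ?_, ?_⟩
  · intro a ha b hb
    apply hf (T.mul_mem ha.2 hb.2) (T.mul_mem hb.2 ha.2)
    rw [map_mul, map_mul]
    exact elemAb_comm hB _ ha.1 _ hb.1
  · intro a ha
    apply hf (T.pow_mem ha.2 p) T.one_mem
    rw [map_pow, map_one]
    exact hB.2 _ ha.1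

theorem maxElemAbIn_map_injOn (f : G →* G') {T : Subgroup G} (hf : Set.InjOn f (T : Set G)) :
    maxElemAbIn p (T.map f) = (Subgroup.map f) '' (maxElemAbIn p T) := by
  ext B
  constructor
  · intro hB
    refine ⟨B.comap f ⊓ T, ⟨inf_le_right, elemAb_comap_inf_of_injOn f hf hB.2.1, ?_⟩,
      map_comap_inf_of_le_map f hB.1⟩
    intro A hAT hA
    have h1 := hB.2.2 (A.map f) (Subgroup.map_mono hAT) (elemAb_map hA f)
    rw [card_map_of_injOn f (hf.mono (by exact_mod_cast hAT))] at h1
    have h2 : Nat.card ((B.comap f ⊓ T).map f) = Nat.card ↥(B.comap f ⊓ T) :=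
      card_map_of_injOn f (hf.mono (by exact_mod_cast (inf_le_right : B.comap f ⊓ T ≤ T)))
    rw [map_comap_inf_of_le_map f hB.1] at h2
    rw [← h2]
    exact h1
  · rintro ⟨A, hA, rfl⟩
    refine ⟨Subgroup.map_mono hA.1, elemAb_map hA.2.1 f, ?_⟩
    intro B hBT hB
    have h1 := hA.2.2 (B.comap f ⊓ T) inf_le_right (elemAb_comap_inf_of_injOn f hf hB)
    have h2 : Nat.card ((B.comap f ⊓ T).map f) = Nat.card ↥(B.comap f ⊓ T) :=
      card_map_of_injOn f (hf.mono (by exact_mod_cast (inf_le_right : B.comap f ⊓ T ≤ T)))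
    rw [map_comap_inf_of_le_map f hBT] at h2
    rw [h2, card_map_of_injOn f (hf.mono (by exact_mod_cast hA.1))]
    exact h1

/-- `J` commutes with homomorphisms injective on the subgroup. -/
theorem thompsonSubgroupOf_map_injOn (f : G →* G') {T : Subgroup G}
    (hf : Set.InjOn f (T : Set G)) :
    thompsonSubgroupOf p (T.map f) = (thompsonSubgroupOf p T).map f := by
  rw [thompsonSubgroupOf_eq_sSup, thompsonSubgroupOf_eq_sSup, maxElemAbIn_map_injOn f hf,
    sSup_image, (Subgroup.gc_map_comap f).l_sSup]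

theorem thompsonSubgroupOf_map_injective (f : G →* G') (hf : Function.Injective f)
    (T : Subgroup G) :
    thompsonSubgroupOf p (T.map f) = (thompsonSubgroupOf p T).map f :=
  thompsonSubgroupOf_map_injOn f (hf.injOn)

/-- the centre of `T`, inside `G` -/
def zOf (T : Subgroup G) : Subgroup G := T ⊓ Subgroup.centralizer (T : Set G)

theorem zOf_le (T : Subgroup G) : zOf T ≤ T := inf_le_left

theorem zOf_map_injOn (f : G →* G') {T : Subgroup G} (hf : Set.InjOn f (T : Set G)) :
    zOf (T.map f) = (zOf T).map f := by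
  unfold zOf
  apply le_antisymm
  · rintro _ ⟨⟨t, ht, rfl⟩, h2⟩
    refine ⟨t, ⟨ht, ?_⟩, rfl⟩
    show t ∈ Subgroup.centralizer (T : Set G)
    rw [Subgroup.mem_centralizer_iff]
    intro s hs
    apply hf (T.mul_mem hs ht) (T.mul_mem ht hs)
    rw [map_mul, map_mul]
    exact Subgroup.mem_centralizer_iff.mp h2 (f s) ⟨s, hs, rfl⟩
  · rintro _ ⟨t, ⟨ht, h2⟩, rfl⟩
    refine ⟨⟨t, ht, rfl⟩, ?_⟩
    show f t ∈ Subgroup.centralizer ((T.map f : Subgroup G') : Set G')
    rw [Subgroup.mem_centralizer_iff]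
    rintro _ ⟨s, hs, rfl⟩
    rw [← map_mul, ← map_mul, Subgroup.mem_centralizer_iff.mp h2 s hs]

theorem map_conj_eq_of_mem_normalizer {T : Subgroup G} {g : G}
    (hg : g ∈ Subgroup.normalizer (T : Set G)) : T.map (MulAut.conj g).toMonoidHom = T := by
  ext x
  constructor
  · rintro ⟨t, ht, rfl⟩
    exact (Subgroup.mem_normalizer_iff.mp hg t).mp ht
  · intro hx
    refine ⟨g⁻¹ * x * g, ?_, ?_⟩
    · have := (Subgroup.mem_normalizer_iff.mp (Subgroup.inv_mem _ hg) x).mp hx
      simpa using this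
    · simp [mul_assoc]

theorem mem_normalizer_of_map_conj_eq {T : Subgroup G} {g : G}
    (h : T.map (MulAut.conj g).toMonoidHom = T) : g ∈ Subgroup.normalizer (T : Set G) := by
  rw [Subgroup.mem_normalizer_iff]
  intro t
  constructor
  · intro ht
    rw [← h]
    exact ⟨t, ht, rfl⟩
  · intro ht
    rw [← h] at ht
    obtain ⟨s, hs, hst⟩ := ht
    have : s = t := by
      have := (MulAut.conj g).injective (a₁ := s) (a₂ := t)
      apply this
      exact hst
    rw [← this]; exact hs

theorem normalizer_le_normalizer_thompsonSubgroupOf (T : Subgroup G) :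
    Subgroup.normalizer (T : Set G) ≤ Subgroup.normalizer (thompsonSubgroupOf p T : Set G) := by
  intro g hg
  apply mem_normalizer_of_map_conj_eq
  rw [← thompsonSubgroupOf_map_injective _ (MulAut.conj g).injective,
    map_conj_eq_of_mem_normalizer hg]

theorem normalizer_le_normalizer_zOf (T : Subgroup G) :
    Subgroup.normalizer (T : Set G) ≤ Subgroup.normalizer (zOf T : Set G) := by
  intro g hg
  apply mem_normalizer_of_map_conj_eq
  rw [← zOf_map_injOn _ (MulAut.conj g).injective.injOn, map_conj_eq_of_mem_normalizer hg]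

theorem zOf_ne_bot [Finite G] [Fact p.Prime] {T : Subgroup G} (hT : IsPGroup p T) (hne : T ≠ ⊥) :
    zOf T ≠ ⊥ := by
  haveI : Nontrivial ↥T := (Subgroup.nontrivial_iff_ne_bot T).mpr hne
  have h1 : Nontrivial (Subgroup.center ↥T) := hT.center_nontrivial
  obtain ⟨z, hz⟩ := exists_ne (1 : Subgroup.center ↥T)
  intro hbot
  apply hz
  have hzmem : ((z : ↥T) : G) ∈ zOf T := by
    refine ⟨(z : ↥T).2, ?_⟩
    show ((z : ↥T) : G) ∈ Subgroup.centralizer (T : Set G)
    rw [Subgroup.mem_centralizer_iff]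
    intro t ht
    have := Subgroup.mem_center_iff.mp z.2 ⟨t, ht⟩
    exact congrArg Subtype.val this
  rw [hbot, Subgroup.mem_bot] at hzmem
  apply Subtype.ext
  apply Subtype.ext
  exact hzmem

theorem thompsonSubgroupOf_ne_bot [Finite G] [Fact p.Prime] {T : Subgroup G} (hT : IsPGroup p T)
    (hne : T ≠ ⊥) : thompsonSubgroupOf p T ≠ ⊥ := by
  have hp : p.Prime := Fact.out
  -- an element of order `p` in `T`
  have hcard : p ∣ Nat.card ↥T := by
    obtain ⟨n, hn⟩ := IsPGroup.iff_card.mp hT
    have hn0 : n ≠ 0 := by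
      rintro rfl
      rw [pow_zero] at hn
      exact hne (Subgroup.card_eq_one.mp hn)
    rw [hn]
    exact dvd_pow_self p hn0
  obtain ⟨x, hx⟩ := exists_prime_orderOf_dvd_card' p hcard
  -- zpowers x is elementary abelian of order p
  obtain ⟨A, hA⟩ := exists_maxElemAbIn p T
  have hZ : IsElementaryAbelian p (Subgroup.zpowers (x : G)) := by
    have : Subgroup.zpowers (x : G) = Subgroup.closure {(x : G)} := (Subgroup.zpowers_eq_closure _)
    rw [this]
    apply elemAb_closure
    · intro a ha b hb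
      rw [Set.mem_singleton_iff] at ha hb
      rw [ha, hb]
    · intro a ha
      rw [Set.mem_singleton_iff] at ha
      rw [ha, ← Subgroup.coe_pow, ← hx, pow_orderOf_eq_one]
      rfl
  have h1 := hA.2.2 (Subgroup.zpowers (x : G)) (by rw [Subgroup.zpowers_le]; exact x.2) hZ
  rw [Nat.card_zpowers, Subgroup.orderOf_coe, hx] at h1
  intro hbot
  have h2 : A ≤ thompsonSubgroupOf p T := by
    rw [thompsonSubgroupOf_eq_sSup]; exact le_sSup hA
  rw [hbot, le_bot_iff] at h2
  rw [h2, Subgroup.card_bot] at h1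
  exact absurd h1 (by have := hp.two_le; omega)

end ThJ

end Cfsg.Agent.Lib.Helper19
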