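import Mathlib
import Cfsg.Agent.S0551
import Cfsg.Agent.Lib.Helper19.PNil
import Cfsg.Agent.Lib.Helper19.ThJ
import Cfsg.Agent.Lib.Helper33.NormalPComp

set_option autoImplicit false

/-!
# Images of normalizers / centralizers of `p`-subgroups modulo normal `p'`-subgroups, and
`p`-nilpotent normal subgroups of groups with trivial `p'`-core.
-/

namespace Cfsg.Agent.Lib.Helper19

open Pointwise
open Cfsg

section Bar

variable {G : Type*} [Group G] [Finite G] {p : ℕ} [Fact p.Prime]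

theorem card_sup_of_coprime {Y K : Subgroup G} [K.Normal] (hY : IsPGroup p Y)
    (hK : (Nat.card K).Coprime p) : Nat.card ↥(Y ⊔ K) = Nat.card Y * Nat.card K := by
  have h1 : Y ≤ Subgroup.normalizer (K : Set G) := by
    rw [Subgroup.normalizer_eq_top]; exact le_top
  have h2 := Cfsg.Agent.Lib.Helper10.card_sup_mul_card_inf h1
  obtain ⟨n, hn⟩ := IsPGroup.iff_card.mp hY
  have h3 : (Nat.card Y).Coprime (Nat.card K) := by
    rw [hn]; exact Nat.Coprime.pow_left n hK.symm
  have h4 : Y ⊓ K = ⊥ := (Subgroup.disjoint_of_coprime_natCard h3).eq_bot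
  rw [h4, Subgroup.card_bot, mul_one] at h2
  exact h2

theorem not_dvd_relIndex_sup {Y K : Subgroup G} [K.Normal] (hY : IsPGroup p Y)
    (hK : (Nat.card K).Coprime p) {B : Subgroup G} (hB : B ≤ Y ⊔ K)
    (hBc : Nat.card B = Nat.card Y) : ¬ p ∣ B.relIndex (Y ⊔ K) := by
  have hp : p.Prime := Fact.out
  have h1 : Nat.card B * B.relIndex (Y ⊔ K) = Nat.card ↥(Y ⊔ K) := by
    have := (B.subgroupOf (Y ⊔ K)).card_mul_index
    rw [Cfsg.Agent.Lib.Helper10.card_subgroupOf_of_le hB] at this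
    exact this
  rw [card_sup_of_coprime hY hK, hBc] at h1
  have h2 : B.relIndex (Y ⊔ K) = Nat.card K :=
    Nat.eq_of_mul_eq_mul_left Nat.card_pos h1
  rw [h2]
  exact (Nat.Prime.coprime_iff_not_dvd hp).mp hK.symm

/-- `N_{G/K}(YK/K) = N_G(Y)K/K` for a `p`-subgroup `Y` and a normal `p'`-subgroup `K`. -/
theorem map_normalizer_of_coprime (K : Subgroup G) [K.Normal] (hK : (Nat.card K).Coprime p)
    (Y : Subgroup G) (hY : IsPGroup p Y) :
    (Subgroup.normalizer (Y : Set G)).map (QuotientGroup.mk' K) =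
      Subgroup.normalizer ((Y.map (QuotientGroup.mk' K) : Subgroup (G ⧸ K)) : Set (G ⧸ K)) := by
  apply le_antisymm (Subgroup.le_normalizer_map _)
  intro xbar hx
  obtain ⟨x, rfl⟩ := QuotientGroup.mk'_surjective K xbar
  set T := Y ⊔ K with hT
  have hTc : (Y.map (QuotientGroup.mk' K)).comap (QuotientGroup.mk' K) = T := by
    rw [Subgroup.comap_map_eq, QuotientGroup.ker_mk']
  set B := Y.map (MulAut.conj x).toMonoidHom with hB
  have hBT : B ≤ T := by
    rintro _ ⟨y, hy, rfl⟩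
    rw [← hTc, Subgroup.mem_comap]
    have := (Subgroup.mem_normalizer_iff.mp hx (QuotientGroup.mk' K y)).mp ⟨y, hy, rfl⟩
    simpa using this
  have hBc : Nat.card B = Nat.card Y :=
    Subgroup.card_map_of_injective (MulAut.conj x).injective
  have hBp : IsPGroup p B := hY.map _
  obtain ⟨m, hm, hmB⟩ := Cfsg.Agent.S0551.conj_of_sylow_in T Y B p le_sup_left hBT hY hBp
    (not_dvd_relIndex_sup hY hK le_sup_left rfl) (not_dvd_relIndex_sup hY hK hBT hBc)
  have hmB' : Y.map (MulAut.conj m).toMonoidHom = B := hmB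
  -- `n = m⁻¹ x` normalizes `Y`
  have hn : m⁻¹ * x ∈ Subgroup.normalizer (Y : Set G) := by
    apply mem_normalizer_of_map_conj_eq
    have e : (MulAut.conj (m⁻¹ * x)).toMonoidHom =
        (MulAut.conj m⁻¹).toMonoidHom.comp (MulAut.conj x).toMonoidHom := by
      ext g; simp [mul_assoc]
    rw [e, ← Subgroup.map_map, ← hB, ← hmB', Subgroup.map_map]
    have e2 : (MulAut.conj m⁻¹).toMonoidHom.comp (MulAut.conj m).toMonoidHom =
        MonoidHom.id G := by
      ext g; simp [mul_assoc]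
    rw [e2, Subgroup.map_id]
  -- the image of `m` lies in the image of `Y`
  have hmY : (QuotientGroup.mk' K) m ∈ Y.map (QuotientGroup.mk' K) := by
    have : T.map (QuotientGroup.mk' K) = Y.map (QuotientGroup.mk' K) := by
      rw [hT, Subgroup.map_sup]
      have : K.map (QuotientGroup.mk' K) = ⊥ := by
        rw [Subgroup.map_eq_bot_iff, QuotientGroup.ker_mk']
      rw [this, sup_bot_eq]
    rw [← this]
    exact ⟨m, hm, rfl⟩
  obtain ⟨y, hy, hym⟩ := hmY
  refine ⟨y * (m⁻¹ * x), Subgroup.mul_mem _ (Subgroup.le_normalizer hy) hn, ?_⟩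
  rw [map_mul, hym, ← map_mul]
  congr 1
  group


/-- the quotient map by a normal `p'`-subgroup is injective on `p`-subgroups -/
theorem injOn_mk'_of_coprime (K : Subgroup G) [K.Normal] (hK : (Nat.card K).Coprime p)
    (Y : Subgroup G) (hY : IsPGroup p Y) : Set.InjOn (QuotientGroup.mk' K) (Y : Set G) := by
  intro a ha b hb hab
  have h1 : a⁻¹ * b ∈ K := QuotientGroup.eq.mp hab
  have h2 : a⁻¹ * b ∈ Y := Y.mul_mem (Y.inv_mem ha) hb
  obtain ⟨n, hn⟩ := IsPGroup.iff_card.mp hY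
  have h3 : (Nat.card Y).Coprime (Nat.card K) := by
    rw [hn]; exact Nat.Coprime.pow_left n hK.symm
  have h4 : Y ⊓ K = ⊥ := (Subgroup.disjoint_of_coprime_natCard h3).eq_bot
  have h5 : a⁻¹ * b ∈ Y ⊓ K := ⟨h2, h1⟩
  rw [h4, Subgroup.mem_bot] at h5
  exact inv_mul_eq_one.mp h5

/-- `C_{G/K}(YK/K) = C_G(Y)K/K` for a `p`-subgroup `Y` and a normal `p'`-subgroup `K`. -/
theorem map_centralizer_of_coprime (K : Subgroup G) [K.Normal] (hK : (Nat.card K).Coprime p)
    (Y : Subgroup G) (hY : IsPGroup p Y) :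
    (Subgroup.centralizer (Y : Set G)).map (QuotientGroup.mk' K) =
      Subgroup.centralizer ((Y.map (QuotientGroup.mk' K) : Subgroup (G ⧸ K)) : Set (G ⧸ K)) := by
  apply le_antisymm
  · rintro _ ⟨c, hc, rfl⟩
    rw [Subgroup.mem_centralizer_iff]
    rintro _ ⟨y, hy, rfl⟩
    rw [← map_mul, ← map_mul, Subgroup.mem_centralizer_iff.mp hc y hy]
  · intro xbar hx
    have hx' : xbar ∈ Subgroup.normalizer
        ((Y.map (QuotientGroup.mk' K) : Subgroup (G ⧸ K)) : Set (G ⧸ K)) :=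
      Subgroup.centralizer_le_normalizer _ hx
    rw [← map_normalizer_of_coprime K hK Y hY] at hx'
    obtain ⟨n, hn, rfl⟩ := hx'
    refine ⟨n, ?_, rfl⟩
    show n ∈ Subgroup.centralizer (Y : Set G)
    rw [Subgroup.mem_centralizer_iff]
    intro y hy
    have hn : n ∈ Subgroup.normalizer (Y : Set G) := hn
    have h1 : n * y * n⁻¹ ∈ Y := (Subgroup.mem_normalizer_iff.mp hn y).mp hy
    have h2 : (QuotientGroup.mk' K) (n * y * n⁻¹) = (QuotientGroup.mk' K) y := by
      have := Subgroup.mem_centralizer_iff.mp hx (QuotientGroup.mk' K y) ⟨y, hy, rfl⟩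
      rw [map_mul, map_mul, map_inv, ← this]
      group
    have h3 := injOn_mk'_of_coprime K hK Y hY h1 hy h2
    calc y * n = (n * y * n⁻¹) * n := by rw [h3]
      _ = n * y := by group

/-- a subgroup without nontrivial `p'`-elements is a `p`-group -/
theorem isPGroup_of_forall_coprime_eq_one (X : Subgroup G)
    (h : ∀ g ∈ X, (orderOf g).Coprime p → g = 1) : IsPGroup p X := by
  have hp : p.Prime := Fact.out
  intro g
  have hn0 : orderOf (g : G) ≠ 0 := (orderOf_pos (g : G)).ne'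
  obtain ⟨e, m, hm, hem⟩ := Nat.exists_eq_pow_mul_and_not_dvd hn0 p hp.ne_one
  refine ⟨e, ?_⟩
  have h1 : ((g : G) ^ (p ^ e)) ^ m = 1 := by
    rw [← pow_mul, ← hem, pow_orderOf_eq_one]
  have h2 : orderOf ((g : G) ^ (p ^ e)) ∣ m := orderOf_dvd_of_pow_eq_one h1
  have h3 : (orderOf ((g : G) ^ (p ^ e))).Coprime p :=
    Nat.Coprime.coprime_dvd_left h2 ((Nat.Prime.coprime_iff_not_dvd hp).mpr hm).symm
  have h4 := h _ (X.pow_mem g.2 _) h3
  apply Subtype.ext
  rw [Subgroup.coe_pow, h4]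
  rfl

/-- In a group whose normal `p'`-subgroups are trivial, a `p`-nilpotent normal subgroup is a
`p`-group. -/
theorem isPGroup_of_pn_normal (hO : ∀ N : Subgroup G, N.Normal → (Nat.card N).Coprime p → N = ⊥)
    (D : Subgroup G) [hD : D.Normal] (hPN : PN p D) : IsPGroup p D := by
  obtain ⟨M, hM, hcop, k, hk⟩ := normal_hall_of_hnpc hPN
  set N := M.map D.subtype with hN
  have hchar : ∀ d : ↥D, d ∈ M ↔ (orderOf d).Coprime p := fun d =>
    Cfsg.Agent.Lib.Helper33.mem_iff_coprime_of_normal_hall M hcop hk d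
  have hNn : N.Normal := by
    refine ⟨fun n hn g => ?_⟩
    obtain ⟨d, hd, rfl⟩ := hn
    have hmem : g * (d : G) * g⁻¹ ∈ D := hD.conj_mem _ d.2 g
    refine ⟨⟨g * (d : G) * g⁻¹, hmem⟩, ?_, rfl⟩
    have hd : d ∈ M := hd
    show (⟨g * (d : G) * g⁻¹, hmem⟩ : ↥D) ∈ M
    rw [hchar] at hd ⊢
    rw [← Subgroup.orderOf_coe] at hd ⊢
    show (orderOf (g * (d : G) * g⁻¹)).Coprime p
    have hsc : SemiconjBy g (d : G) (g * (d : G) * g⁻¹) := by
      unfold SemiconjBy; group
    rw [← hsc.orderOf_eq]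
    exact hd
  have hNc : (Nat.card N).Coprime p := by
    rw [hN, Subgroup.card_map_of_injective D.subtype_injective]; exact hcop
  have hNbot := hO N hNn hNc
  have hMbot : M = ⊥ := by
    rw [hN] at hNbot
    exact (Subgroup.map_eq_bot_iff_of_injective _ D.subtype_injective).mp hNbot
  have hcard : Nat.card ↥D = p ^ k := by
    rw [← M.card_mul_index, hMbot, Subgroup.card_bot, one_mul, ← hk, hMbot]
  exact IsPGroup.of_card hcard

/-- If `X` is `p`-nilpotent, contains a `p`-subgroup `H` normalized by `X` with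
`C_X(H) ≤ H`, then `X` is a `p`-group. -/
theorem isPGroup_of_pn_of_centralizer_le {X H : Subgroup G} (hX : PN p X) (hHX : H ≤ X)
    (hH : IsPGroup p H) (hn : X ≤ Subgroup.normalizer (H : Set G))
    (hc : X ⊓ Subgroup.centralizer (H : Set G) ≤ H) : IsPGroup p X := by
  apply isPGroup_of_forall_coprime_eq_one
  intro g hg hgo
  have h1 : g ∈ Subgroup.centralizer (H : Set G) := hX.frob hHX hH hg (hn hg) hgo
  have h2 : g ∈ H := hc ⟨hg, h1⟩
  obtain ⟨k, hk⟩ := (IsPGroup.iff_orderOf.mp hH) ⟨g, h2⟩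
  rw [Subgroup.orderOf_mk] at hk
  rw [hk] at hgo
  have hp : p.Prime := Fact.out
  rcases Nat.eq_zero_or_pos k with rfl | hkpos
  · rw [pow_zero] at hk
    exact orderOf_eq_one_iff.mp hk
  · exfalso
    have : p ∣ p ^ k := dvd_pow_self p hkpos.ne'
    have h3 : p ∣ Nat.gcd (p ^ k) p := Nat.dvd_gcd this (dvd_refl p)
    rw [Nat.Coprime] at hgo
    rw [hgo] at h3
    exact hp.one_lt.ne' (Nat.dvd_one.mp h3)

end Bar

end Cfsg.Agent.Lib.Helper19
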