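import Mathlib
import Cfsg.Prelude.Def_Transfer
import Cfsg.Agent.Lib.Helper19.PNil
import Cfsg.Agent.Lib.Helper19.ThJ
import Cfsg.Agent.Lib.Helper19.Bar

set_option autoImplicit false

/-!
# Thompson's normal `p`-complement theorem: the minimal counterexample, part 1
-/

namespace Cfsg.Agent.Lib.Helper19

open Pointwise
open Cfsg
open Cfsg.Agent.Lib.Helper10

universe u

section ThNPC1

variable {p : ℕ} [Fact p.Prime]

/-- Thompson's hypothesis for a subgroup `S` (in use, a Sylow `p`-subgroup) -/
def ThHyp (p : ℕ) {G : Type*} [Group G] (S : Subgroup G) : Prop :=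
  PN p (Subgroup.normalizer (thompsonSubgroupOf p S : Set G)) ∧
    PN p (Subgroup.centralizer (zOf S : Set G))

/-- the induction hypothesis -/
def ThIH (p : ℕ) (n : ℕ) : Prop :=
  ∀ (G : Type u) [Group G] [Finite G], Nat.card G < n → ∀ S : Sylow p G,
    ThHyp p (S : Subgroup G) → HasNormalPComplement p G

theorem normal_pGroup_le_sylow' {G : Type*} [Group G] [Finite G]
    {N : Subgroup G} (hN : N.Normal) (hp : IsPGroup p N) (P : Sylow p G) : N ≤ P := by
  obtain ⟨Q, hQ⟩ := hp.exists_le_sylow
  obtain ⟨g, hg⟩ := MulAction.exists_smul_eq G Q P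
  intro x hx
  have h1 : g⁻¹ * x * g⁻¹⁻¹ ∈ N := hN.conj_mem x hx g⁻¹
  have h2 : g⁻¹ * x * g⁻¹⁻¹ ∈ (Q : Subgroup G) := hQ h1
  rw [← hg, Sylow.coe_subgroup_smul]
  refine ⟨g⁻¹ * x * g⁻¹⁻¹, h2, ?_⟩
  simp [mul_assoc]

theorem card_lt_of_ne_top {G : Type*} [Group G] [Finite G] {X : Subgroup G} (hX : X ≠ ⊤) :
    Nat.card ↥X < Nat.card G := by
  by_contra hcon
  push Not at hcon
  apply hX
  apply Subgroup.eq_top_of_card_eq
  exact le_antisymm (Subgroup.card_le_card_group X) hcon

/-- Passing Thompson's hypothesis to a subgroup -/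
theorem pn_of_thIH {G : Type u} [Group G] [Finite G] (hIH : ThIH.{u} p (Nat.card G))
    (X : Subgroup G) (hX : X ≠ ⊤) (R₀ : Sylow p ↥X)
    (h : ThHyp p ((R₀ : Subgroup ↥X).map X.subtype)) : PN p X := by
  unfold PN
  apply hIH ↥X (card_lt_of_ne_top hX) R₀
  constructor
  · apply PN.of_map_injective X.subtype X.subtype_injective
    apply h.1.mono
    rw [thompsonSubgroupOf_map_injective _ X.subtype_injective]
    exact Subgroup.le_normalizer_map _
  · apply PN.of_map_injective X.subtype X.subtype_injective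
    apply h.2.mono
    rw [zOf_map_injOn _ X.subtype_injective.injOn, Subgroup.coe_map]
    exact Subgroup.map_centralizer_le_centralizer_image _ _

theorem thHyp_conj {G : Type*} [Group G] [Finite G] {S : Subgroup G} (h : ThHyp p S) (g : G) :
    ThHyp p (S.map (MulAut.conj g).toMonoidHom) := by
  constructor
  · rw [thompsonSubgroupOf_map_injective _ (MulAut.conj g).injective,
      ← Subgroup.map_equiv_normalizer_eq]
    exact h.1.map _
  · rw [zOf_map_injOn _ (MulAut.conj g).injective.injOn]
    apply (h.2.map (MulAut.conj g).toMonoidHom).mono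
    intro x hx
    refine ⟨g⁻¹ * x * g, ?_, by simp [mul_assoc]⟩
    rw [Subgroup.mem_centralizer_iff] at hx
    show g⁻¹ * x * g ∈ Subgroup.centralizer (zOf S : Set G)
    rw [Subgroup.mem_centralizer_iff]
    intro z hz
    have := hx (g * z * g⁻¹) ⟨z, hz, rfl⟩
    calc z * (g⁻¹ * x * g) = g⁻¹ * ((g * z * g⁻¹) * x) * g := by group
      _ = g⁻¹ * (x * (g * z * g⁻¹)) * g := by rw [this]
      _ = g⁻¹ * x * g * z := by group

theorem thHyp_sylow {G : Type*} [Group G] [Finite G] {S : Sylow p G}
    (h : ThHyp p (S : Subgroup G)) (S' : Sylow p G) : ThHyp p (S' : Subgroup G) := by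
  obtain ⟨g, hg⟩ := MulAction.exists_smul_eq G S S'
  rw [← hg, Sylow.coe_subgroup_smul]
  exact thHyp_conj h g

/-- the minimal counterexample -/
structure MinCE (p : ℕ) (G : Type u) [Group G] [Finite G] : Prop where
  ih : ThIH.{u} p (Nat.card G)
  hyp : ∀ S : Sylow p G, ThHyp p (S : Subgroup G)
  not : ¬ HasNormalPComplement p G

variable {G : Type u} [Group G] [Finite G]

theorem MinCE.sub (h : MinCE p G) {X : Subgroup G} (hX : X ≠ ⊤) (S : Sylow p G)
    (hSX : (S : Subgroup G) ≤ X) : PN p X := by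
  apply pn_of_thIH h.ih X hX (S.subtype hSX)
  rw [Sylow.coe_subtype, Subgroup.map_subgroupOf_eq_of_le hSX]
  exact h.hyp S


theorem card_lt_of_lt' {H K : Subgroup G} (h : H < K) : Nat.card H < Nat.card K := by
  by_contra hcon
  push Not at hcon
  exact h.ne (Subgroup.eq_of_le_of_card_ge h.le hcon)

/-- Step A: a minimal counterexample has a nontrivial normal `p`-subgroup. -/
theorem MinCE.exists_normal_pGroup (h : MinCE p G) :
    ∃ H₁ : Subgroup G, H₁.Normal ∧ IsPGroup p H₁ ∧ H₁ ≠ ⊥ := by
  classical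
  have hp : p.Prime := Fact.out
  let 𝓗 : Set (Subgroup G) :=
    {Q | IsPGroup p Q ∧ Q ≠ ⊥ ∧ ¬ PN p (Subgroup.normalizer (Q : Set G))}
  have hne : 𝓗.Nonempty := by
    have := h.not
    rw [Cfsg.Agent.S0072.result p] at this
    push Not at this
    obtain ⟨Q, hQ, hQne, hQn⟩ := this
    exact ⟨Q, hQ, hQne, hQn⟩
  let f : Subgroup G → ℕ := fun Q =>
    (Nat.card (Subgroup.normalizer (Q : Set G))).factorization p
  obtain ⟨H₁, hH₁, hmax⟩ := Set.exists_max_image 𝓗 f (Set.toFinite 𝓗) hne
  obtain ⟨hH₁p, hH₁ne, hH₁n⟩ := hH₁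
  set N := Subgroup.normalizer (H₁ : Set G) with hN
  let R₀ : Sylow p ↥N := default
  set R := (R₀ : Subgroup ↥N).map N.subtype with hR
  have hRp : IsPGroup p R := R₀.2.map _
  have hRcard : Nat.card R = p ^ f H₁ := by
    rw [hR, Subgroup.card_map_of_injective N.subtype_injective, Sylow.card_eq_multiplicity]
  have hH₁R : H₁ ≤ R := by
    have h1 : (H₁.subgroupOf N).Normal := Subgroup.normal_in_normalizer
    have h2 : IsPGroup p (H₁.subgroupOf N) := hH₁p.comap_subtype
    have h3 := normal_pGroup_le_sylow' h1 h2 R₀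
    intro x hx
    exact ⟨⟨x, Subgroup.le_normalizer hx⟩, h3 (by rw [Subgroup.mem_subgroupOf]; exact hx), rfl⟩
  have hRne : R ≠ ⊥ := fun hb => hH₁ne (le_bot_iff.mp (hb ▸ hH₁R))
  obtain ⟨S', hS'⟩ := hRp.exists_le_sylow
  have hclaim : ThHyp p R := by
    by_cases hRS : R = S'
    · rw [hRS]; exact h.hyp S'
    · set Rp := (Subgroup.normalizer ((R.subgroupOf S' : Subgroup ↥(S' : Subgroup G)) :
          Set ↥(S' : Subgroup G))).map (S' : Subgroup G).subtype with hRp'
      have hRmap : (R.subgroupOf S').map (S' : Subgroup G).subtype = R :=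
        Subgroup.map_subgroupOf_eq_of_le hS'
      have hRR : R < Rp := by
        have hnil : Group.IsNilpotent ↥(S' : Subgroup G) := S'.2.isNilpotent
        have hnc := Group.normalizerCondition_of_isNilpotent (G := ↥(S' : Subgroup G))
        have h1 : R.subgroupOf S' < ⊤ := by
          rw [lt_top_iff_ne_top]
          intro htop
          rw [Subgroup.subgroupOf_eq_top] at htop
          exact hRS (le_antisymm hS' htop)
        have h2 := hnc _ h1
        have h3 := (Subgroup.map_lt_map_iff_of_injective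
          (S' : Subgroup G).subtype_injective).mpr h2
        rw [hRmap] at h3
        exact h3
      have hRpn : Rp ≤ Subgroup.normalizer (R : Set G) := by
        have := Subgroup.le_normalizer_map (H := R.subgroupOf S') (S' : Subgroup G).subtype
        rw [hRmap] at this
        exact this
      have hRpp : IsPGroup p Rp := S'.2.to_le (Subgroup.map_subtype_le _)
      have key : ∀ Y : Subgroup G, IsPGroup p Y → Y ≠ ⊥ →
          Subgroup.normalizer (R : Set G) ≤ Subgroup.normalizer (Y : Set G) →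
          PN p (Subgroup.normalizer (Y : Set G)) := by
        intro Y hYp hYne hYn
        by_contra hcon
        have hY𝓗 : Y ∈ 𝓗 := ⟨hYp, hYne, hcon⟩
        have h1 : f Y ≤ f H₁ := hmax Y hY𝓗
        obtain ⟨b, hb⟩ := IsPGroup.iff_card.mp hRpp
        have h2 : p ^ b ∣ Nat.card (Subgroup.normalizer (Y : Set G)) := by
          rw [← hb]; exact Subgroup.card_dvd_of_le (hRpn.trans hYn)
        have h3 : b ≤ f Y := (hp.pow_dvd_iff_le_factorization Nat.card_pos.ne').mp h2
        have h4 : f H₁ < b := by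
          have := card_lt_of_lt' hRR
          rw [hRcard, hb] at this
          exact (Nat.pow_lt_pow_iff_right hp.one_lt).mp this
        omega
      refine ⟨key _ (hRp.to_le (thompsonSubgroupOf_le_self p R))
        (thompsonSubgroupOf_ne_bot hRp hRne) (normalizer_le_normalizer_thompsonSubgroupOf R), ?_⟩
      exact (key _ (hRp.to_le (zOf_le R)) (zOf_ne_bot hRp hRne)
        (normalizer_le_normalizer_zOf R)).mono (Subgroup.centralizer_le_normalizer _)
  have hNtop : N = ⊤ := by
    by_contra hne'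
    exact hH₁n (pn_of_thIH h.ih N hne' R₀ hclaim)
  exact ⟨H₁, Subgroup.normalizer_eq_top_iff.mp hNtop, hH₁p, hH₁ne⟩

end ThNPC1

end Cfsg.Agent.Lib.Helper19
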