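import Mathlib
import Cfsg.Prelude.Def_Transfer
import Cfsg.Agent.Lib.Helper19.ThNPC1
import Cfsg.Agent.Lib.Helper76.PSolvable

set_option autoImplicit false

/-!
# Thompson's normal `p`-complement theorem: the minimal counterexample, part 2
(`O_{p'}(G) = 1`, `G / O_p(G)` is `p`-nilpotent, `C_G(O_p(G)) ≤ O_p(G)`)
-/

namespace Cfsg.Agent.Lib.Helper19

open Pointwise
open Cfsg
open Cfsg.Agent.Lib.Helper10

universe u

section ThNPC2

variable {p : ℕ} [Fact p.Prime] {G : Type u} [Group G] [Finite G]

theorem card_quotient_lt {K : Subgroup G} [K.Normal] (hK : K ≠ ⊥) :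
    Nat.card (G ⧸ K) < Nat.card G := by
  have h1 : Nat.card G = Nat.card (G ⧸ K) * Nat.card K :=
    Subgroup.card_eq_card_quotient_mul_card_subgroup K
  have h2 : 1 < Nat.card K := by
    rw [Subgroup.one_lt_card_iff_ne_bot]; exact hK
  have h3 : 0 < Nat.card (G ⧸ K) := Nat.card_pos
  rw [h1]
  nlinarith

/-- Step D: normal `p'`-subgroups of a minimal counterexample are trivial. -/
theorem MinCE.pprime_trivial (h : MinCE p G) (K : Subgroup G) (hKn : K.Normal)
    (hK : (Nat.card K).Coprime p) : K = ⊥ := by
  by_contra hne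
  let S : Sylow p G := default
  have hS := h.hyp S
  set π := QuotientGroup.mk' K with hπ
  have hsurj : Function.Surjective π := QuotientGroup.mk'_surjective K
  have hinj : Set.InjOn π ((S : Subgroup G) : Set G) := injOn_mk'_of_coprime K hK _ S.2
  have hbar : ThHyp p ((S.mapSurjective hsurj : Sylow p (G ⧸ K)) : Subgroup (G ⧸ K)) := by
    rw [Sylow.coe_mapSurjective]
    constructor
    · rw [thompsonSubgroupOf_map_injOn π hinj,
        ← map_normalizer_of_coprime K hK _ (S.2.to_le (thompsonSubgroupOf_le_self p _))]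
      exact hS.1.map π
    · rw [zOf_map_injOn π hinj,
        ← map_centralizer_of_coprime K hK _ (S.2.to_le (zOf_le _))]
      exact hS.2.map π
  have := h.ih (G ⧸ K) (card_quotient_lt hne) _ hbar
  exact h.not (hnpc_of_quotient K hK this)

theorem MinCE.pPrimeCore_eq_bot (h : MinCE p G) : pPrimeCore p G = ⊥ := by
  unfold pPrimeCore
  rw [sSup_eq_bot]
  rintro N ⟨hN, hNc⟩
  exact h.pprime_trivial N hN hNc

theorem MinCE.pCore_ne_bot (h : MinCE p G) : pCore p G ≠ ⊥ := by
  obtain ⟨H₁, hn, hp, hne⟩ := h.exists_normal_pGroup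
  intro hbot
  have := Cfsg.Agent.Lib.Helper55.le_pCore p H₁ hp
  rw [hbot, le_bot_iff] at this
  exact hne this

/-- Step E: `G / O_p(G)` has a normal `p`-complement. -/
theorem MinCE.quot_pCore (h : MinCE p G) [hHn : (pCore p G).Normal] :
    HasNormalPComplement p (G ⧸ pCore p G) := by
  set H := pCore p G with hH
  have hHp : IsPGroup p H := Cfsg.Agent.Lib.Helper55.pCore_isPGroup p
  have hHne : H ≠ ⊥ := h.pCore_ne_bot
  let S : Sylow p G := default
  have hS := h.hyp S
  have hHS : H ≤ S := normal_pGroup_le_sylow' hHn hHp S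
  set π := QuotientGroup.mk' H with hπ
  have hsurj : Function.Surjective π := QuotientGroup.mk'_surjective H
  have hker : π.ker = H := QuotientGroup.ker_mk' H
  set Sb := (S : Subgroup G).map π with hSb
  have hSbp : IsPGroup p Sb := S.2.map π
  -- the case `S = H`
  by_cases hbot : Sb = ⊥
  · exfalso
    have hSH : (S : Subgroup G) ≤ H := by
      rw [← hker]
      exact (Subgroup.map_eq_bot_iff _).mp hbot
    have hSeq : (S : Subgroup G) = H := le_antisymm hSH hHS
    have h1 : Subgroup.normalizer ((S : Subgroup G) : Set G) = ⊤ := by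
      rw [hSeq]; exact Subgroup.normalizer_eq_top H
    have h2 : Subgroup.normalizer (thompsonSubgroupOf p (S : Subgroup G) : Set G) = ⊤ := by
      rw [eq_top_iff, ← h1]
      exact normalizer_le_normalizer_thompsonSubgroupOf _
    have h3 := hS.1
    rw [h2] at h3
    exact h.not (pn_top_iff.mp h3)
  · -- a general fact on preimages
    have key : ∀ Yb : Subgroup (G ⧸ H), Yb ≤ Sb → Yb ≠ ⊥ →
        Subgroup.normalizer (Sb : Set (G ⧸ H)) ≤ Subgroup.normalizer (Yb : Set (G ⧸ H)) →
        PN p (Subgroup.normalizer (Yb : Set (G ⧸ H))) := by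
      intro Yb hYS hYne hYn
      set L := Yb.comap π with hL
      have hLp : IsPGroup p L := by
        apply IsPGroup.comap_of_ker_isPGroup (hSbp.to_le hYS)
        rw [hker]; exact hHp
      have hLn : Subgroup.normalizer (L : Set G) =
          (Subgroup.normalizer (Yb : Set (G ⧸ H))).comap π :=
        (Subgroup.comap_normalizer_eq_of_surjective Yb hsurj).symm
      have hSL : (S : Subgroup G) ≤ Subgroup.normalizer (L : Set G) := by
        rw [hLn]
        intro s hs
        rw [Subgroup.mem_comap]
        exact hYn (Subgroup.le_normalizer ⟨s, hs, rfl⟩)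
      have hLtop : Subgroup.normalizer (L : Set G) ≠ ⊤ := by
        intro htop
        have hLnorm : L.Normal := Subgroup.normalizer_eq_top_iff.mp htop
        have hLH : L ≤ H := Cfsg.Agent.Lib.Helper55.le_pCore p L hLp
        apply hYne
        rw [← Subgroup.map_comap_eq_self_of_surjective hsurj Yb, ← hL, eq_bot_iff]
        calc L.map π ≤ H.map π := Subgroup.map_mono hLH
          _ = ⊥ := by rw [Subgroup.map_eq_bot_iff, hker]
      have h1 : PN p (Subgroup.normalizer (L : Set G)) := h.sub hLtop S hSL
      have h2 := h1.map π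
      rw [hLn, Subgroup.map_comap_eq_self_of_surjective hsurj] at h2
      exact h2
    have hbar : ThHyp p ((S.mapSurjective hsurj : Sylow p (G ⧸ H)) : Subgroup (G ⧸ H)) := by
      rw [Sylow.coe_mapSurjective]
      constructor
      · exact key _ (thompsonSubgroupOf_le_self p _) (thompsonSubgroupOf_ne_bot hSbp hbot)
          (normalizer_le_normalizer_thompsonSubgroupOf _)
      · exact (key _ (zOf_le _) (zOf_ne_bot hSbp hbot) (normalizer_le_normalizer_zOf _)).mono
          (Subgroup.centralizer_le_normalizer _)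
    exact h.ih (G ⧸ H) (card_quotient_lt hHne) _ hbar

/-- Step F: `C_G(O_p(G)) ≤ O_p(G)` in a minimal counterexample. -/
theorem MinCE.centralizer_pCore_le (h : MinCE p G) :
    Subgroup.centralizer (pCore p G : Set G) ≤ pCore p G := by
  haveI hHn : (pCore p G).Normal := Cfsg.Agent.Lib.Helper55.pCore_normal' p
  obtain ⟨Mb, hMbn, hMbc, k, hk⟩ := normal_hall_of_hnpc h.quot_pCore
  set H := pCore p G with hH
  set π := QuotientGroup.mk' H with hπ
  have hsurj : Function.Surjective π := QuotientGroup.mk'_surjective H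
  set M := Mb.comap π with hM
  haveI hMn : M.Normal := hMbn.comap π
  have hHM : H ≤ M := Cfsg.Agent.Lib.Helper55.le_comap_mk' H Mb
  have hO := h.pPrimeCore_eq_bot
  have s1 : M ⊓ Subgroup.centralizer (H : Set G) ≤ H := by
    apply Cfsg.Agent.Lib.Helper76.hallHigman_step hO hHM
    · right
      have e1 : H = (⊥ : Subgroup (G ⧸ H)).comap π := by
        rw [MonoidHom.comap_bot, QuotientGroup.ker_mk']
      have : H.relIndex M = Nat.card Mb := by
        conv_lhs => rw [e1]
        rw [Subgroup.relIndex_comap, Subgroup.relIndex_bot_left, hM,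
          Subgroup.map_comap_eq_self_of_surjective hsurj]
      rw [this]
      exact hMbc
    · exact inf_le_left
  have s2 : (⊤ : Subgroup G) ⊓ Subgroup.centralizer (H : Set G) ≤ H := by
    apply Cfsg.Agent.Lib.Helper76.hallHigman_step hO (le_top : M ≤ ⊤)
    · left
      refine ⟨k, ?_⟩
      rw [Subgroup.relIndex_top_right, hM, Subgroup.index_comap_of_surjective _ hsurj, hk]
    · exact s1
  rwa [top_inf_eq] at s2

end ThNPC2

end Cfsg.Agent.Lib.Helper19
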