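import Mathlib
import Cfsg.Prelude.Def_Transfer
import Cfsg.Agent.Lib.Helper19.ThNPC2
import Cfsg.Agent.Lib.Helper68.Omega
import Cfsg.Agent.Lib.Helper64.InvSylow

set_option autoImplicit false

/-!
# Thompson's normal `p`-complement theorem: the minimal counterexample, part 3
-/

namespace Cfsg.Agent.Lib.Helper19

open Pointwise
open Cfsg
open Cfsg.Agent.Lib.Helper10

universe u

section OmZ

variable {G : Type*} [Group G]

/-- `Ω₁(Z(H))` -/
def omZ (p : ℕ) (H : Subgroup G) : Subgroup G :=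
  Subgroup.closure {x | x ∈ zOf H ∧ x ^ p = 1}

theorem zOf_comm (H : Subgroup G) : ∀ x ∈ zOf H, ∀ y ∈ zOf H, x * y = y * x := by
  intro x hx y hy
  exact (Subgroup.mem_centralizer_iff.mp hy.2 x hx.1)

theorem omZ_elemAb (p : ℕ) (H : Subgroup G) : IsElementaryAbelian p (omZ p H) := by
  apply elemAb_closure
  · intro x hx y hy
    exact zOf_comm H x hx.1 y hy.1
  · intro x hx
    exact hx.2

theorem omZ_le (p : ℕ) (H : Subgroup G) : omZ p H ≤ zOf H := by
  unfold omZ
  rw [Subgroup.closure_le]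
  intro x hx
  exact hx.1

theorem mem_omZ {p : ℕ} {H : Subgroup G} {x : G} (hx : x ∈ zOf H) (hxp : x ^ p = 1) :
    x ∈ omZ p H := Subgroup.subset_closure ⟨hx, hxp⟩

theorem zOf_normal (H : Subgroup G) [hH : H.Normal] : (zOf H).Normal := by
  rw [← Subgroup.normalizer_eq_top_iff, eq_top_iff, ← Subgroup.normalizer_eq_top H]
  exact normalizer_le_normalizer_zOf H

theorem omZ_normal (p : ℕ) (H : Subgroup G) [hH : H.Normal] : (omZ p H).Normal := by
  have hZ : (zOf H).Normal := zOf_normal H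
  refine ⟨fun n hn g => ?_⟩
  have h1 : (omZ p H).map (MulAut.conj g).toMonoidHom ≤ omZ p H := by
    unfold omZ
    rw [MonoidHom.map_closure, Subgroup.closure_le]
    rintro _ ⟨x, hx, rfl⟩
    apply Subgroup.subset_closure
    refine ⟨hZ.conj_mem x hx.1 g, ?_⟩
    show (g * x * g⁻¹) ^ p = 1
    rw [conj_pow, hx.2]; simp
  exact h1 ⟨n, hn, rfl⟩

theorem le_centralizer_omZ (p : ℕ) (H : Subgroup G) :
    H ≤ Subgroup.centralizer (omZ p H : Set G) := by
  rw [Subgroup.le_centralizer_iff]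
  exact (omZ_le p H).trans inf_le_right

end OmZ

section ThNPC3

variable {p : ℕ} [Fact p.Prime] {G : Type u} [Group G] [Finite G]

theorem eq_one_of_isPGroup_of_coprime {X : Subgroup G} (hX : IsPGroup p X) {g : G} (hg : g ∈ X)
    (hgo : (orderOf g).Coprime p) : g = 1 := by
  have hp : p.Prime := Fact.out
  obtain ⟨k, hk⟩ := (IsPGroup.iff_orderOf.mp hX) ⟨g, hg⟩
  rw [Subgroup.orderOf_mk] at hk
  rw [hk] at hgo
  rcases Nat.eq_zero_or_pos k with rfl | hkpos
  · rw [pow_zero] at hk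
    exact orderOf_eq_one_iff.mp hk
  · exfalso
    have : p ∣ p ^ k := dvd_pow_self p hkpos.ne'
    have h3 : p ∣ Nat.gcd (p ^ k) p := Nat.dvd_gcd this (dvd_refl p)
    rw [Nat.Coprime] at hgo
    rw [hgo] at h3
    exact hp.one_lt.ne' (Nat.dvd_one.mp h3)

/-- Step G: `C_G(Ω₁(Z(O_p(G)))) ≤ O_p(G)`. -/
theorem MinCE.centralizer_omZ_le (h : MinCE p G) (hp2 : p ≠ 2) :
    Subgroup.centralizer (omZ p (pCore p G) : Set G) ≤ pCore p G := by
  haveI hHn : (pCore p G).Normal := Cfsg.Agent.Lib.Helper55.pCore_normal' p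
  set H := pCore p G with hH
  have hHp : IsPGroup p H := Cfsg.Agent.Lib.Helper55.pCore_isPGroup p
  haveI hVn : (omZ p H).Normal := omZ_normal p H
  haveI hZn : (zOf H).Normal := zOf_normal H
  let S : Sylow p G := default
  have hHS : H ≤ S := normal_pGroup_le_sylow' hHn hHp S
  have hF := h.centralizer_pCore_le
  -- `Z(S) ≤ Z(H)`
  have hZZ : zOf (S : Subgroup G) ≤ zOf H := by
    intro x hx
    have h1 : x ∈ Subgroup.centralizer (H : Set G) :=
      Subgroup.centralizer_le (by exact_mod_cast hHS) hx.2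
    exact ⟨hF h1, h1⟩
  -- `C_G(Z(H))` is a `p`-group
  have hD₀ : IsPGroup p (Subgroup.centralizer (zOf H : Set G)) := by
    apply isPGroup_of_pn_normal (fun N hN hNc => h.pprime_trivial N hN hNc)
    exact (h.hyp S).2.mono (Subgroup.centralizer_le (by exact_mod_cast hZZ))
  have hDp : IsPGroup p (Subgroup.centralizer (omZ p H : Set G)) := by
    apply isPGroup_of_forall_coprime_eq_one
    intro g hg hgo
    have h1 : g ∈ Subgroup.centralizer (zOf H : Set G) := by
      apply Cfsg.Agent.Lib.Helper68.omega_theorem (zOf H) (hHp.to_le (zOf_le H)) g hgo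
      · rw [Subgroup.normalizer_eq_top]; trivial
      · intro x hx hox
        rcases hox with hox | ⟨h2, _⟩
        · have hxp : x ^ p = 1 := by rw [← hox]; exact pow_orderOf_eq_one x
          exact (Subgroup.mem_centralizer_iff.mp hg x (mem_omZ hx hxp)).symm
        · exact absurd h2 hp2
    exact eq_one_of_isPGroup_of_coprime hD₀ h1 hgo
  exact Cfsg.Agent.Lib.Helper55.le_pCore p _ hDp

/-- Step H: an abelian `p'`-subgroup `Q̄` of `G / O_p(G)` normalized by the image of `S` with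
`Q̄ S̄ = G / O_p(G)`. -/
theorem MinCE.exists_Q (h : MinCE p G) [hHn : (pCore p G).Normal] (S : Sylow p G) :
    ∃ Qb : Subgroup (G ⧸ pCore p G), (∀ x ∈ Qb, ∀ y ∈ Qb, x * y = y * x) ∧
      (Nat.card Qb).Coprime p ∧
      (S : Subgroup G).map (QuotientGroup.mk' (pCore p G)) ≤
        Subgroup.normalizer (Qb : Set (G ⧸ pCore p G)) ∧
      Qb ⊔ (S : Subgroup G).map (QuotientGroup.mk' (pCore p G)) = ⊤ := by
  have hp : p.Prime := Fact.out
  set H := pCore p G with hH
  have hHp : IsPGroup p H := Cfsg.Agent.Lib.Helper55.pCore_isPGroup p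
  have hHS : H ≤ S := normal_pGroup_le_sylow' hHn hHp S
  set π := QuotientGroup.mk' H with hπ
  have hsurj : Function.Surjective π := QuotientGroup.mk'_surjective H
  have hker : π.ker = H := QuotientGroup.ker_mk' H
  set Sb := (S : Subgroup G).map π with hSb
  have hSbp : IsPGroup p Sb := S.2.map π
  obtain ⟨Mb, hMbn, hMbc, k, hk⟩ := normal_hall_of_hnpc h.quot_pCore
  -- `Mb ≠ ⊥`
  have hMbne : Mb ≠ ⊥ := by
    intro hbot
    apply h.not
    have h1 : Nat.card (G ⧸ H) = p ^ k := by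
      rw [← Mb.card_mul_index, hbot, Subgroup.card_bot, one_mul, ← hk, hbot]
    obtain ⟨j, hj⟩ := IsPGroup.iff_card.mp hHp
    have h2 : Nat.card G = p ^ (k + j) := by
      rw [Subgroup.card_eq_card_quotient_mul_card_subgroup H, h1, hj, pow_add]
    haveI : (⊥ : Subgroup G).Normal := Subgroup.normal_bot
    apply hnpc_of_normal_hall (⊥ : Subgroup G) (k := k + j)
    · rw [Subgroup.card_bot]; exact Nat.coprime_one_left p
    · rw [Subgroup.index_bot, h2]
  have hMbcard : Nat.card Mb ≠ 1 := by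
    intro h1; exact hMbne (Subgroup.card_eq_one.mp h1)
  obtain ⟨q, hq, hqd⟩ := Nat.exists_prime_and_dvd hMbcard
  haveI : Fact q.Prime := ⟨hq⟩
  have hpM : ¬ p ∣ Nat.card Mb := (Nat.Prime.coprime_iff_not_dvd hp).mp hMbc.symm
  obtain ⟨Q₀, hQ₀⟩ := Cfsg.Agent.Lib.Helper64.exists_invariant_sylow (q := q) Mb hpM hSbp
  set Q₁ := (Q₀ : Subgroup ↥Mb).map Mb.subtype with hQ₁
  have hQ₁q : IsPGroup q Q₁ := Q₀.2.map _
  have hQ₁M : Q₁ ≤ Mb := Subgroup.map_subtype_le _
  have hQ₁ne : Q₁ ≠ ⊥ := by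
    intro hbot
    have h1 : Nat.card Q₁ = q ^ (Nat.card ↥Mb).factorization q := by
      rw [hQ₁, Subgroup.card_map_of_injective Mb.subtype_injective, Sylow.card_eq_multiplicity]
    rw [hbot, Subgroup.card_bot] at h1
    have h2 : 0 < (Nat.card ↥Mb).factorization q :=
      hq.factorization_pos_of_dvd Nat.card_pos.ne' hqd
    have h3 : 1 < q ^ (Nat.card ↥Mb).factorization q :=
      Nat.one_lt_pow h2.ne' hq.one_lt
    omega
  have hSQ₁ : Sb ≤ Subgroup.normalizer (Q₁ : Set (G ⧸ H)) := by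
    intro x hx
    rw [Subgroup.mem_normalizer_iff]
    intro b
    constructor
    · intro hb
      exact hQ₀ x hx b hb
    · intro hb
      have := hQ₀ x⁻¹ (Sb.inv_mem hx) _ hb
      simpa [mul_assoc] using this
  set Qb := zOf Q₁ with hQb
  have hQbne : Qb ≠ ⊥ := zOf_ne_bot hQ₁q hQ₁ne
  have hQbc : (Nat.card Qb).Coprime p :=
    Nat.Coprime.coprime_dvd_left (Subgroup.card_dvd_of_le ((zOf_le Q₁).trans hQ₁M)) hMbc
  have hSQb : Sb ≤ Subgroup.normalizer (Qb : Set (G ⧸ H)) :=
    hSQ₁.trans (normalizer_le_normalizer_zOf Q₁)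
  refine ⟨Qb, zOf_comm Q₁, hQbc, hSQb, ?_⟩
  -- the subgroup `X`
  set Xb := Qb ⊔ Sb with hXb
  set X := Xb.comap π with hX
  have hSX : (S : Subgroup G) ≤ X := by
    intro s hs
    rw [hX, Subgroup.mem_comap]
    exact (le_sup_right : Sb ≤ Xb) ⟨s, hs, rfl⟩
  have hHX : H ≤ X := hHS.trans hSX
  by_contra hne
  have hXtop : X ≠ ⊤ := by
    intro htop
    apply hne
    rw [← Subgroup.map_comap_eq_self_of_surjective hsurj Xb, ← hX, htop,
      ← MonoidHom.range_eq_map, MonoidHom.range_eq_top.mpr hsurj]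
  have hXPN : PN p X := h.sub hXtop S hSX
  have hXp : IsPGroup p X := by
    apply isPGroup_of_pn_of_centralizer_le hXPN hHX hHp
    · rw [Subgroup.normalizer_eq_top]; exact le_top
    · exact inf_le_right.trans h.centralizer_pCore_le
  have hXbp : IsPGroup p Xb := by
    rw [← Subgroup.map_comap_eq_self_of_surjective hsurj Xb, ← hX]
    exact hXp.map π
  have hQbp : IsPGroup p Qb := hXbp.to_le le_sup_left
  obtain ⟨j, hj⟩ := IsPGroup.iff_card.mp hQbp
  rw [hj] at hQbc
  rcases Nat.eq_zero_or_pos j with rfl | hjpos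
  · rw [pow_zero] at hj
    exact hQbne (Subgroup.card_eq_one.mp hj)
  · have : p ∣ p ^ j := dvd_pow_self p hjpos.ne'
    have h3 : p ∣ Nat.gcd (p ^ j) p := Nat.dvd_gcd this (dvd_refl p)
    rw [Nat.Coprime] at hQbc
    rw [hQbc] at h3
    exact hp.one_lt.ne' (Nat.dvd_one.mp h3)

end ThNPC3

end Cfsg.Agent.Lib.Helper19
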