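import Mathlib
import Cfsg.Prelude.Def_Transfer
import Cfsg.Agent.Lib.Helper19.ThNPC3
import Cfsg.Agent.Lib.Helper19.TR2
import Cfsg.Agent.Lib.Helper19.QuadKill

set_option autoImplicit false

/-!
# Thompson's normal `p`-complement theorem: the final contradiction and the theorem
-/

namespace Cfsg.Agent.Lib.Helper19

open Pointwise
open scoped commutatorElement
open Cfsg
open Cfsg.Agent.Lib.Helper10

universe u

section ThNPC4

variable {p : ℕ} [Fact p.Prime] {G : Type u} [Group G] [Finite G]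

theorem coe_commutatorElement' (S : Subgroup G) (x y : ↥S) :
    ((⁅x, y⁆ : ↥S) : G) = ⁅(x : G), (y : G)⁆ := rfl

/-- Step I: there is no minimal counterexample for odd `p`. -/
theorem MinCE.false (h : MinCE p G) (hp2 : p ≠ 2) : False := by
  classical
  have hp : p.Prime := Fact.out
  haveI hHn : (pCore p G).Normal := Cfsg.Agent.Lib.Helper55.pCore_normal' p
  set H := pCore p G with hH
  have hHp : IsPGroup p H := Cfsg.Agent.Lib.Helper55.pCore_isPGroup p
  let S : Sylow p G := default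
  have hHS : H ≤ S := normal_pGroup_le_sylow' hHn hHp S
  set V := omZ p H with hV
  haveI hVn : V.Normal := omZ_normal p H
  have hVe : IsElementaryAbelian p V := omZ_elemAb p H
  have hVH : V ≤ H := (omZ_le p H).trans (zOf_le H)
  have hCV : Subgroup.centralizer (V : Set G) ≤ H := h.centralizer_omZ_le hp2
  have hHC : H ≤ Subgroup.centralizer (V : Set G) := le_centralizer_omZ p H
  -- `J(S) ≰ H`
  have hJ : ¬ thompsonSubgroupOf p (S : Subgroup G) ≤ H := by
    intro hle
    have h1 := thompsonSubgroupOf_eq_of_le p hle hHS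
    have h2 : Subgroup.normalizer (thompsonSubgroupOf p (S : Subgroup G) : Set G) = ⊤ := by
      rw [← h1, eq_top_iff, ← Subgroup.normalizer_eq_top H]
      exact normalizer_le_normalizer_thompsonSubgroupOf H
    have h3 := (h.hyp S).1
    rw [h2] at h3
    exact h.not (pn_top_iff.mp h3)
  obtain ⟨A, hA, hAH⟩ : ∃ A ∈ maxElemAbIn p (S : Subgroup G), ¬ A ≤ H := by
    by_contra hcon
    push Not at hcon
    apply hJ
    rw [thompsonSubgroupOf_eq_sSup]
    exact sSup_le hcon
  -- replacement inside `S`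
  set Ss : Subgroup G := (S : Subgroup G) with hSs
  have hAS : A ≤ Ss := hA.1
  have hVS : V ≤ Ss := hVH.trans hHS
  haveI hVsn : (V.subgroupOf Ss).Normal := hVn.subgroupOf Ss
  have hVse : IsElementaryAbelian p (V.subgroupOf Ss) := elemAb_subgroupOf hVe Ss
  have hAs := sub_of_maxElemAbIn hA
  obtain ⟨r1, r2, r3⟩ := thompson_replacement (V.subgroupOf Ss) hVse (A.subgroupOf Ss) hAs
  generalize hA₀ : (⁅V.subgroupOf Ss, A.subgroupOf Ss⁆ ⊔ (A.subgroupOf Ss ⊓
    Subgroup.centralizer ((⁅V.subgroupOf Ss, A.subgroupOf Ss⁆ : Subgroup ↥Ss) : Set ↥Ss))) = A₀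
    at r1 r2 r3
  have hne : ⁅V.subgroupOf Ss, A.subgroupOf Ss⁆ ≠ ⊥ := by
    intro hbot
    apply hAH
    rw [Subgroup.commutator_eq_bot_iff_le_centralizer] at hbot
    intro a ha
    apply hCV
    rw [Subgroup.mem_centralizer_iff]
    intro v hv
    have h1 : (⟨v, hVS hv⟩ : ↥Ss) ∈ V.subgroupOf Ss := by
      rw [Subgroup.mem_subgroupOf]; exact hv
    have h2 : (⟨a, hAS ha⟩ : ↥Ss) ∈ A.subgroupOf Ss := by
      rw [Subgroup.mem_subgroupOf]; exact ha
    have h3 := Subgroup.mem_centralizer_iff.mp (hbot h1) _ h2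
    exact (congrArg Subtype.val h3).symm
  have r3' := r3 hne
  obtain ⟨v₀, hv₀, a', ha', hva⟩ : ∃ v ∈ V.subgroupOf Ss, ∃ a' ∈ A₀, ⁅v, a'⁆ ≠ 1 := by
    by_contra hcon
    push Not at hcon
    apply r3'
    rw [eq_bot_iff, Subgroup.commutator_le]
    intro v hv a' ha'
    rw [Subgroup.mem_bot]
    exact hcon v hv a' ha'
  set a : G := (a' : G) with ha
  have haS : a ∈ Ss := a'.2
  have hap : a ^ p = 1 := by
    have := r1.1.2 a' ha'
    have h2 := congrArg Subtype.val this
    simpa using h2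
  have haH : a ∉ H := by
    intro haH
    apply hva
    have h1 := hHC haH
    have hv₀' : (v₀ : G) ∈ V := by
      rw [Subgroup.mem_subgroupOf] at hv₀; exact hv₀
    have h2 := Subgroup.mem_centralizer_iff.mp h1 (v₀ : G) hv₀'
    apply Subtype.ext
    rw [coe_commutatorElement', commutatorElement_def]
    show (v₀ : G) * a * (v₀ : G)⁻¹ * a⁻¹ = 1
    rw [h2]; group
  have hquad : ∀ v ∈ V, ⁅⁅v, a⁆, a⁆ = 1 := by
    intro v hv
    have hv' : (⟨v, hVS hv⟩ : ↥Ss) ∈ V.subgroupOf Ss := by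
      rw [Subgroup.mem_subgroupOf]; exact hv
    have h1 : ⁅⁅(⟨v, hVS hv⟩ : ↥Ss), a'⁆, a'⁆ ∈ ⁅⁅V.subgroupOf Ss, A₀⁆, A₀⁆ :=
      Subgroup.commutator_mem_commutator (Subgroup.commutator_mem_commutator hv' ha') ha'
    rw [r2, Subgroup.mem_bot] at h1
    have h2 := congrArg Subtype.val h1
    exact h2
  -- the quotient
  set π := QuotientGroup.mk' H with hπ
  obtain ⟨Qb, hQc, hQp, hSQ, hQS⟩ := h.exists_Q S
  letI : CommGroup ↥V :=
    { (inferInstance : Group ↥V) with
      mul_comm := fun x y => Subtype.ext (elemAb_comm hVe x x.2 y y.2) }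
  let act0 : G →* MulAut ↥V := MulAut.conjNormal
  have hker : H ≤ act0.ker := by
    intro x hx
    rw [MonoidHom.mem_ker]
    ext v
    rw [MulAut.conjNormal_apply]
    have := Subgroup.mem_centralizer_iff.mp (hHC hx) v v.2
    show x * (v : G) * x⁻¹ = (v : G)
    rw [← this]; group
  let act : G ⧸ H →* MulAut ↥V := QuotientGroup.lift H act0 hker
  have hact : ∀ (g : G) (v : ↥V), ((act (π g) v : ↥V) : G) = g * v * g⁻¹ := by
    intro g v
    show ((QuotientGroup.lift H act0 hker (QuotientGroup.mk g)) v : G) = g * v * g⁻¹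
    rw [QuotientGroup.lift_mk]
    exact MulAut.conjNormal_apply g v
  set ab := π a with hab'
  have hab : ab ^ p = 1 := by rw [hab', ← map_pow, hap, map_one]
  have hexp : ∀ v : ↥V, v ^ p = 1 := by
    intro v
    apply Subtype.ext
    rw [Subgroup.coe_pow]
    exact hVe.2 v v.2
  have hq : ∀ v : ↥V, act ab (act ab v * v⁻¹) = act ab v * v⁻¹ := by
    intro v
    apply Subtype.ext
    rw [hact]
    have e : ((act ab v * v⁻¹ : ↥V) : G) = a * v * a⁻¹ * (v : G)⁻¹ := by
      rw [Subgroup.coe_mul, hact, Subgroup.coe_inv]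
    rw [e]
    have h1 := hquad v v.2
    rw [commutatorElement_def, commutatorElement_def] at h1
    -- c = v a v⁻¹ a⁻¹ commutes with a
    set c := (v : G) * a * (v : G)⁻¹ * a⁻¹ with hc
    have h2 : c * a = a * c := by
      calc c * a = (c * a * c⁻¹ * a⁻¹) * a * c := by group
        _ = a * c := by rw [h1]; group
    have h3 : a * (v : G) * a⁻¹ * (v : G)⁻¹ = c⁻¹ := by rw [hc]; group
    rw [h3]
    calc a * c⁻¹ * a⁻¹ = c⁻¹ * (c * a) * c⁻¹ * a⁻¹ := by group
      _ = c⁻¹ * (a * c) * c⁻¹ * a⁻¹ := by rw [h2]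
      _ = c⁻¹ := by group
  have habn : ab ∈ Subgroup.normalizer (Qb : Set (G ⧸ H)) := hSQ ⟨a, haS, rfl⟩
  have hQn : ∀ x ∈ Qb, ab * x * ab⁻¹ ∈ Qb := by
    intro x hx
    exact (Subgroup.mem_normalizer_iff.mp habn x).mp hx
  have kill := quad_kill hp2 act ab hab hexp hq Qb hQc hQn hQp
  -- `ab` centralizes `Qb`
  have hcent : ∀ x ∈ Qb, ab * x * ab⁻¹ = x := by
    intro x hx
    obtain ⟨g, rfl⟩ := QuotientGroup.mk'_surjective H x
    have h1 := kill (π g) hx
    have h2 : g⁻¹ * (a * g * a⁻¹) ∈ Subgroup.centralizer (V : Set G) := by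
      rw [Subgroup.mem_centralizer_iff]
      intro v hv
      have h3 : act (π (g⁻¹ * (a * g * a⁻¹))) ⟨v, hv⟩ = ⟨v, hv⟩ := by
        have e : π (g⁻¹ * (a * g * a⁻¹)) = (π g)⁻¹ * (ab * π g * ab⁻¹) := by
          rw [hab']; simp only [map_mul, map_inv]
        rw [e, h1]; rfl
      have h4 := congrArg Subtype.val h3
      rw [hact] at h4
      simp only at h4
      set y := g⁻¹ * (a * g * a⁻¹) with hy
      calc v * y = (y * v * y⁻¹) * y := by rw [h4]
        _ = y * v := by group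
    have h5 : π (g⁻¹ * (a * g * a⁻¹)) = 1 := (QuotientGroup.eq_one_iff _).mpr (hCV h2)
    have e : π (g⁻¹ * (a * g * a⁻¹)) = (π g)⁻¹ * (ab * π g * ab⁻¹) := by
      rw [hab']; simp only [map_mul, map_inv]
    rw [e] at h5
    exact (inv_mul_eq_one.mp h5).symm
  -- the normal closure of `ab` lies in `Sb`
  set Sb := (S : Subgroup G).map π with hSb
  have hSbp : IsPGroup p Sb := S.2.map π
  have habS : ab ∈ Sb := ⟨a, haS, rfl⟩
  set Lb := Subgroup.normalClosure ({ab} : Set (G ⧸ H)) with hLb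
  have hLbS : Lb ≤ Sb := by
    rw [hLb, Subgroup.normalClosure, Subgroup.closure_le]
    intro x hx
    rw [Group.mem_conjugatesOfSet_iff] at hx
    obtain ⟨y, hy, hyx⟩ := hx
    rw [Set.mem_singleton_iff] at hy
    subst hy
    rw [isConj_iff] at hyx
    obtain ⟨c, rfl⟩ := hyx
    have hc : c ∈ ((Sb ⊔ Qb : Subgroup (G ⧸ H)) : Set (G ⧸ H)) := by
      rw [sup_comm, hQS]; trivial
    rw [← mul_set_eq_sup_of_le_normalizer hSQ] at hc
    obtain ⟨s, hs, q, hq', rfl⟩ := hc
    have h1 : q * ab * q⁻¹ = ab := by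
      have := hcent q hq'
      calc q * ab * q⁻¹ = q * (ab * q * ab⁻¹)⁻¹ * ab := by group
        _ = q * q⁻¹ * ab := by rw [this]
        _ = ab := by group
    have h2 : s * q * ab * (s * q)⁻¹ = s * (q * ab * q⁻¹) * s⁻¹ := by group
    show s * q * ab * (s * q)⁻¹ ∈ Sb
    rw [h2, h1]
    exact Sb.mul_mem (Sb.mul_mem hs habS) (Sb.inv_mem hs)
  have hLbn : Lb.Normal := Subgroup.normalClosure_normal
  set L := Lb.comap π with hL
  haveI hLn : L.Normal := hLbn.comap π
  have hLp : IsPGroup p L := by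
    apply IsPGroup.comap_of_ker_isPGroup (hSbp.to_le hLbS)
    rw [QuotientGroup.ker_mk']; exact hHp
  have hLH : L ≤ H := Cfsg.Agent.Lib.Helper55.le_pCore p L hLp
  apply haH
  apply hLH
  rw [hL, Subgroup.mem_comap]
  exact Subgroup.subset_normalClosure (Set.mem_singleton ab)

/-- **Thompson's normal `p`-complement theorem** (induction form). -/
theorem thompson_npc_aux (hp2 : p ≠ 2) : ∀ n : ℕ, ∀ (G : Type u) [Group G] [Finite G],
    Nat.card G = n → ∀ S : Sylow p G, ThHyp p (S : Subgroup G) → HasNormalPComplement p G := by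
  intro n
  induction n using Nat.strong_induction_on with
  | _ n ih =>
    intro G _ _ hn S hS
    by_contra hnot
    have hmin : MinCE p G := by
      refine ⟨?_, fun S' => thHyp_sylow hS S', hnot⟩
      intro G' _ _ hlt S' hS'
      rw [hn] at hlt
      exact ih _ hlt G' rfl S' hS'
    exact hmin.false hp2

theorem thompson_npc (hp2 : p ≠ 2) (S : Sylow p G) (h : ThHyp p (S : Subgroup G)) :
    HasNormalPComplement p G :=
  thompson_npc_aux hp2 _ G rfl S h

end ThNPC4

end Cfsg.Agent.Lib.Helper19
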