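import Mathlib
import Cfsg.Agent.S0031
import Cfsg.Agent.S0032
import Cfsg.Agent.S0132
import Cfsg.Agent.Lib.Helper19.ThNPC4
import Cfsg.Agent.Lib.Helper10.MinNormal

set_option autoImplicit false

/-!
# Thompson's theorem: a finite group with a fixed-point-free automorphism of prime order is
nilpotent.
-/

namespace Cfsg.Agent.Lib.Helper19

open Pointwise
open Cfsg
open Cfsg.Agent.Lib.Helper10

universe u

section Fpf

/-- `φ` is fixed-point-free with `φ ^ p = 1` -/
structure Fpf (p : ℕ) {G : Type*} [Group G] (φ : G ≃* G) : Prop where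
  fpf : ∀ g, φ g = g → g = 1
  pow : ∀ g, (⇑φ)^[p] g = g

variable {p : ℕ} {G : Type*} [Group G]

/-- restriction of an automorphism to an invariant subgroup -/
def resAut (φ : G ≃* G) (K : Subgroup G) (hK : K.map φ.toMonoidHom = K) : ↥K ≃* ↥K :=
  (φ.subgroupMap K).trans (MulEquiv.subgroupCongr hK)

theorem resAut_coe (φ : G ≃* G) (K : Subgroup G) (hK : K.map φ.toMonoidHom = K) (x : ↥K) :
    ((resAut φ K hK x : ↥K) : G) = φ x := rfl

theorem resAut_iterate (φ : G ≃* G) (K : Subgroup G) (hK : K.map φ.toMonoidHom = K) (i : ℕ)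
    (x : ↥K) : (((⇑(resAut φ K hK))^[i] x : ↥K) : G) = (⇑φ)^[i] (x : G) := by
  induction i generalizing x with
  | zero => rfl
  | succ i ih =>
    rw [Function.iterate_succ_apply, Function.iterate_succ_apply, ih, resAut_coe]

theorem Fpf.restrict {φ : G ≃* G} (h : Fpf p φ) (K : Subgroup G)
    (hK : K.map φ.toMonoidHom = K) : Fpf p (resAut φ K hK) := by
  constructor
  · intro x hx
    have := congrArg Subtype.val hx
    rw [resAut_coe] at this
    exact Subtype.ext (h.fpf _ this)
  · intro x
    apply Subtype.ext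
    rw [resAut_iterate, h.pow]

theorem quot_iterate (φ : G ≃* G) (N : Subgroup G) [N.Normal] (hN : N.map φ.toMonoidHom = N)
    (i : ℕ) (x : G) : (⇑(QuotientGroup.congr N N φ hN))^[i] (QuotientGroup.mk x) =
      QuotientGroup.mk ((⇑φ)^[i] x) := by
  induction i generalizing x with
  | zero => rfl
  | succ i ih =>
    rw [Function.iterate_succ_apply, Function.iterate_succ_apply, ← ih]
    rfl

theorem Fpf.quot [Finite G] {φ : G ≃* G} (h : Fpf p φ) (N : Subgroup G) [N.Normal]
    (hN : N.map φ.toMonoidHom = N) : Fpf p (QuotientGroup.congr N N φ hN) := by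
  constructor
  · intro xb hx
    obtain ⟨x, rfl⟩ := QuotientGroup.mk_surjective xb
    have h1 : (QuotientGroup.mk (φ x) : G ⧸ N) = QuotientGroup.mk x := hx
    have h2 : (φ x)⁻¹ * x ∈ N := QuotientGroup.eq.mp h1
    have h3 : x ∈ N := by
      apply Cfsg.Agent.S0032.result φ (fun g hg => h.fpf g hg) N _ x h2
      intro n hn
      rw [← hN]
      exact ⟨n, hn, rfl⟩
    exact (QuotientGroup.eq_one_iff x).mpr h3
  · intro xb
    obtain ⟨x, rfl⟩ := QuotientGroup.mk_surjective xb
    rw [quot_iterate, h.pow]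

/-- fixed points of nontrivial powers -/
theorem Fpf.iterate_fpf {φ : G ≃* G} (h : Fpf p φ) (hp : p.Prime) {i : ℕ} (hi0 : 0 < i)
    (hip : i < p) (g : G) (hg : (⇑φ)^[i] g = g) : g = 1 := by
  have hcop : i.Coprime p := by
    apply Nat.Coprime.symm
    rw [Nat.Prime.coprime_iff_not_dvd hp]
    intro hd
    exact absurd (Nat.le_of_dvd hi0 hd) (by omega)
  obtain ⟨m, -, hm⟩ := Nat.exists_mul_mod_eq_one_of_coprime hcop hp.one_lt
  have h1 : (⇑φ)^[i * m] g = g := by
    rw [Function.iterate_mul]
    exact Function.iterate_fixed hg m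
  have h2 : ∀ k : ℕ, (⇑φ)^[p * k] g = g := by
    intro k
    rw [Function.iterate_mul]
    exact Function.iterate_fixed (h.pow g) k
  have h3 : i * m = p * (i * m / p) + 1 := by
    have := Nat.div_add_mod (i * m) p
    omega
  rw [h3, Function.iterate_add_apply, Function.iterate_one] at h1
  have h4 : φ g = (⇑φ)^[p * (i * m / p)] (φ g) := by
    have : ∀ k : ℕ, (⇑φ)^[p * k] (φ g) = φ g := by
      intro k
      rw [Function.iterate_mul]
      exact Function.iterate_fixed (h.pow (φ g)) k
    rw [this]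
  apply h.fpf
  rw [h4]
  exact h1

end Fpf

section Main

variable {p : ℕ}

/-- the induction hypothesis -/
def FpfIH (p n : ℕ) : Prop :=
  ∀ (G : Type u) [Group G] [Finite G], Nat.card G < n → ∀ φ : G ≃* G, Fpf p φ →
    Group.IsNilpotent G

variable {G : Type u} [Group G] [Finite G]

theorem nilpotent_sub (hIH : FpfIH.{u} p (Nat.card G)) {φ : G ≃* G} (h : Fpf p φ)
    (K : Subgroup G) (hK : K.map φ.toMonoidHom = K) (hne : K ≠ ⊤) : Group.IsNilpotent ↥K :=
  hIH ↥K (card_lt_of_ne_top hne) _ (h.restrict K hK)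

theorem nilpotent_quot (hIH : FpfIH.{u} p (Nat.card G)) {φ : G ≃* G} (h : Fpf p φ)
    (N : Subgroup G) [N.Normal] (hN : N.map φ.toMonoidHom = N) (hne : N ≠ ⊥) :
    Group.IsNilpotent (G ⧸ N) :=
  hIH (G ⧸ N) (card_quotient_lt hne) _ (h.quot N hN)

/-- nilpotent subgroups are `r`-nilpotent -/
theorem pn_of_isNilpotent {r : ℕ} [Fact r.Prime] (K : Subgroup G) (hK : Group.IsNilpotent ↥K) :
    PN r K := by
  unfold PN
  rw [Cfsg.Agent.S0072.hasNormalPComplement_iff_frobCond]
  intro Q hQ g _ hgo
  let R : Sylow r ↥K := default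
  haveI hRn : (R : Subgroup ↥K).Normal := inferInstance
  obtain ⟨R', hR'⟩ := hQ.exists_le_sylow
  haveI := Sylow.unique_of_normal R hRn
  have hRR : R' = R := Subsingleton.elim _ _
  rw [hRR] at hR'
  have h1 := Cfsg.Agent.S0132.cent_of_nilpotent hK (R : Subgroup ↥K) R.2 g hgo
  exact Subgroup.centralizer_le (by exact_mod_cast hR') h1


theorem mulAut_pow_apply {X : Type*} [Group X] (ψ : MulAut X) (i : ℕ) (x : X) :
    (ψ ^ i) x = (⇑ψ)^[i] x := by
  induction i generalizing x with
  | zero => rfl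
  | succ i ih =>
    rw [pow_succ, MulAut.mul_apply, Function.iterate_succ_apply, ih]

theorem trace_eq_one {V : Type*} [CommGroup V] {n : ℕ} (ψ : MulAut V)
    (hfpf : ∀ v, ψ v = v → v = 1) (hpow : ∀ v, (ψ ^ n) v = v) (w : V) :
    ∏ i ∈ Finset.range n, (ψ ^ i) w = 1 := by
  apply hfpf
  rw [map_prod]
  have h1 : ∀ i ∈ Finset.range n, ψ ((ψ ^ i) w) = (ψ ^ (i + 1)) w := by
    intro i _
    rw [pow_succ', MulAut.mul_apply]
  rw [Finset.prod_congr rfl h1]
  have h2 := Finset.prod_range_succ' (fun i => (ψ ^ i) w) n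
  have h3 := Finset.prod_range_succ (fun i => (ψ ^ i) w) n
  rw [h3] at h2
  simp only [pow_zero, MulAut.one_apply] at h2
  rw [hpow] at h2
  exact (mul_right_cancel h2).symm

theorem resAut_pow_coe {X : Type*} [Group X] (φ : X ≃* X) (K : Subgroup X)
    (hK : K.map φ.toMonoidHom = K) (i : ℕ) (x : ↥K) :
    ((((resAut φ K hK : MulAut ↥K) ^ i) x : ↥K) : X) = ((φ : MulAut X) ^ i) (x : X) := by
  rw [mulAut_pow_apply, mulAut_pow_apply]
  exact resAut_iterate φ K hK i x

theorem pCore_map_eq (q : ℕ) {X : Type*} [Group X] (φ : X ≃* X) :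
    (pCore q X).map φ.toMonoidHom = pCore q X := by
  have key : ∀ ψ : X ≃* X, (pCore q X).map ψ.toMonoidHom ≤ pCore q X := by
    intro ψ
    rw [Subgroup.map_le_iff_le_comap]
    unfold Cfsg.pCore
    apply sSup_le
    intro N hN
    rw [← Subgroup.map_le_iff_le_comap]
    apply le_sSup
    exact ⟨Subgroup.Normal.map hN.1 _ ψ.surjective, hN.2.map _⟩
  apply le_antisymm (key φ)
  have := Subgroup.map_mono (f := φ.toMonoidHom) (key φ.symm)
  rw [Subgroup.map_map] at this
  have e : φ.toMonoidHom.comp φ.symm.toMonoidHom = MonoidHom.id X := by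
    ext x; simp
  rwa [e, Subgroup.map_id] at this

/-- the key application of the Frobenius-type action lemma: an invariant `r`-subgroup centralizes
an invariant abelian normal `q`-subgroup. -/
theorem fpf_centralizes {q : ℕ} [Fact q.Prime] (hp : p.Prime) {φ : G ≃* G} (h : Fpf p φ)
    (V : Subgroup G) [hVn : V.Normal] (hVc : ∀ x ∈ V, ∀ y ∈ V, x * y = y * x)
    (hVq : IsPGroup q V) (hVφ : V.map φ.toMonoidHom = V)
    (R : Subgroup G) (hRφ : R.map φ.toMonoidHom = R) (hRq : (Nat.card R).Coprime q) :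
    R ≤ Subgroup.centralizer (V : Set G) := by
  classical
  letI : CommGroup ↥V :=
    { (inferInstance : Group ↥V) with
      mul_comm := fun x y => Subtype.ext (hVc x x.2 y y.2) }
  haveI : Fintype ↥R := Fintype.ofFinite _
  haveI : NeZero p := ⟨hp.ne_zero⟩
  let act : ↥R →* MulAut ↥V := (MulAut.conjNormal (H := V)).comp R.subtype
  let ψR : MulAut ↥R := resAut φ R hRφ
  let ψV : MulAut ↥V := resAut φ V hVφ
  let α : Fin p → (↥R →* ↥R) := fun i => (ψR ^ (i : ℕ)).toMonoidHom
  let β : Fin p → (↥V →* ↥V) := fun i => (ψV ^ (i : ℕ)).toMonoidHom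
  have hR' := h.restrict R hRφ
  have hV' := h.restrict V hVφ
  have compat : ∀ (i : Fin p) (f : ↥R) (v : ↥V), β i (act f v) = act (α i f) (β i v) := by
    intro i f v
    apply Subtype.ext
    show ((ψV ^ (i : ℕ)) (act f v) : G) = ((act ((ψR ^ (i : ℕ)) f)) ((ψV ^ (i : ℕ)) v) : G)
    rw [resAut_pow_coe]
    show ((φ : MulAut G) ^ (i : ℕ)) ((MulAut.conjNormal (f : G) v : ↥V) : G) =
      ((MulAut.conjNormal (((ψR ^ (i : ℕ)) f : ↥R) : G) ((ψV ^ (i : ℕ)) v) : ↥V) : G)
    rw [MulAut.conjNormal_apply, MulAut.conjNormal_apply, resAut_pow_coe, resAut_pow_coe,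
      map_mul, map_mul, map_inv]
  have hβ₀ : β 0 = MonoidHom.id ↥V := by
    ext v
    show (((ψV ^ ((0 : Fin p) : ℕ)) v : ↥V) : G) = v
    simp
  have hbij : ∀ i : Fin p, i ≠ 0 → Function.Bijective fun g : ↥R => g * (α i g)⁻¹ := by
    intro i hi
    have hi0 : 0 < (i : ℕ) := Nat.pos_of_ne_zero (fun h0 => hi (Fin.ext h0))
    rw [← Finite.injective_iff_bijective]
    have hfp : MonoidHom.FixedPointFree (α i) := by
      intro g hg
      have h1 : (ψR ^ (i : ℕ)) g = g := hg
      rw [mulAut_pow_apply] at h1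
      exact hR'.iterate_fpf hp hi0 i.2 g h1
    have := MonoidHom.FixedPointFree.commutatorMap_injective hfp
    intro a b hab
    apply this
    simp only [MonoidHom.commutatorMap_apply, div_eq_mul_inv]
    exact hab
  have htr : ∀ w : ↥V, ∏ i, β i w = 1 := by
    intro w
    have := trace_eq_one (n := p) ψV hV'.fpf
      (fun v => by rw [mulAut_pow_apply]; exact hV'.pow v) w
    rw [← Fin.prod_univ_eq_prod_range (fun i => (ψV ^ i) w) p] at this
    exact this
  have hinj : ∀ v : ↥V, v ^ Fintype.card ↥R = 1 → v = 1 := by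
    intro v hv
    have c1 : orderOf v ∣ Fintype.card ↥R := orderOf_dvd_of_pow_eq_one hv
    rw [← Nat.card_eq_fintype_card] at c1
    obtain ⟨k, hk⟩ := (IsPGroup.iff_orderOf.mp hVq) v
    have c2 : (orderOf v).Coprime q := Nat.Coprime.coprime_dvd_left c1 hRq
    rw [hk] at c2
    have hq : q.Prime := Fact.out
    rcases Nat.eq_zero_or_pos k with rfl | hkpos
    · rw [pow_zero] at hk
      exact orderOf_eq_one_iff.mp hk
    · exfalso
      have : q ∣ q ^ k := dvd_pow_self q hkpos.ne'
      have h3 : q ∣ Nat.gcd (q ^ k) q := Nat.dvd_gcd this (dvd_refl q)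
      rw [Nat.Coprime] at c2
      rw [c2] at h3
      exact hq.one_lt.ne' (Nat.dvd_one.mp h3)
  have key := frob_trivial act α β compat 0 hβ₀ hbij htr hinj
  intro g hg
  rw [Subgroup.mem_centralizer_iff]
  intro v hv
  have h1 := key ⟨g, hg⟩ ⟨v, hv⟩
  have h2 := congrArg Subtype.val h1
  have h3 : g * v * g⁻¹ = v := h2
  calc v * g = (g * v * g⁻¹) * g := by rw [h3]
    _ = g * v := by group


/-- the solvable case -/
theorem nilpotent_of_solvable (hp : p.Prime) (hIH : FpfIH.{u} p (Nat.card G)) {φ : G ≃* G}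
    (h : Fpf p φ) [hsol : Group.IsSolvable G] : Group.IsNilpotent G := by
  classical
  rcases subsingleton_or_nontrivial G with hG | hG
  · exact Group.isNilpotent_of_subsingleton
  obtain ⟨q, N, hq, hNn, hNne, hNq, -, -, -⟩ := exists_min_normal_pgroup_of_solvable (G := G)
  haveI : Fact q.Prime := ⟨hq⟩
  set H := pCore q G with hH
  haveI hHn : H.Normal := Cfsg.Agent.Lib.Helper55.pCore_normal' q
  have hHq : IsPGroup q H := Cfsg.Agent.Lib.Helper55.pCore_isPGroup q
  have hHne : H ≠ ⊥ := by
    intro hbot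
    have := Cfsg.Agent.Lib.Helper55.le_pCore q N hNq
    rw [← hH, hbot, le_bot_iff] at this
    exact hNne this
  have hHφ : H.map φ.toMonoidHom = H := pCore_map_eq q φ
  set V := zOf H with hV
  haveI hVn : V.Normal := zOf_normal H
  have hVne : V ≠ ⊥ := zOf_ne_bot hHq hHne
  have hVq : IsPGroup q V := hHq.to_le (zOf_le H)
  have hVc := zOf_comm H
  have hVφ : V.map φ.toMonoidHom = V := by
    rw [hV, ← zOf_map_injOn _ φ.injective.injOn, hHφ]
  have hQuot : Group.IsNilpotent (G ⧸ V) := nilpotent_quot hIH h V hVφ hVne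
  set π := QuotientGroup.mk' V with hπ
  have hsurj : Function.Surjective π := QuotientGroup.mk'_surjective V
  have tfaeQ := (Group.isNilpotent_of_finite_tfae (G := G ⧸ V)).out 0 3
  have hQs := tfaeQ.mp hQuot
  have tfaeG := (Group.isNilpotent_of_finite_tfae (G := G)).out 0 3
  rw [tfaeG]
  intro r hr P
  have hT : (P ⊔ V : Subgroup G).Normal := by
    have h1 : ((P.mapSurjective hsurj : Sylow r (G ⧸ V)) : Subgroup (G ⧸ V)).Normal := hQs r hr _
    have h2 := h1.comap π
    rw [Sylow.coe_mapSurjective, Subgroup.comap_map_eq, QuotientGroup.ker_mk'] at h2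
    exact h2
  by_cases hrq : r = q
  · subst hrq
    have hVP : V ≤ P := normal_pGroup_le_sylow' hVn hVq P
    rw [sup_eq_left.mpr hVP] at hT
    exact hT
  · obtain ⟨R, hR⟩ := Cfsg.Agent.S0031.result φ (fun g hg => h.fpf g hg) r
    have hRφ : (R : Subgroup G).map φ.toMonoidHom = R := hR
    have hRcop : (Nat.card (R : Subgroup G)).Coprime q := by
      obtain ⟨k, hk⟩ := IsPGroup.iff_card.mp R.2
      rw [hk]
      exact Nat.Coprime.pow_left k ((Nat.coprime_primes hr.out hq).mpr hrq)
    have hcent := fpf_centralizes hp h V hVc hVq hVφ (R : Subgroup G) hRφ hRcop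
    have hTR : (R ⊔ V : Subgroup G).Normal := by
      have h1 : ((R.mapSurjective hsurj : Sylow r (G ⧸ V)) : Subgroup (G ⧸ V)).Normal :=
        hQs r hr _
      have h2 := h1.comap π
      rw [Sylow.coe_mapSurjective, Subgroup.comap_map_eq, QuotientGroup.ker_mk'] at h2
      exact h2
    set T : Subgroup G := R ⊔ V with hTdef
    have hRT : (R : Subgroup G) ≤ T := le_sup_left
    have hTn : T ≤ Subgroup.normalizer ((R : Subgroup G) : Set G) := by
      apply sup_le Subgroup.le_normalizer
      have : V ≤ Subgroup.centralizer ((R : Subgroup G) : Set G) :=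
        Subgroup.le_centralizer_iff.mp hcent
      exact this.trans (Subgroup.centralizer_le_normalizer _)
    have hRTn : ((R : Subgroup G).subgroupOf T).Normal :=
      Subgroup.normal_subgroupOf_of_le_normalizer hTn
    have hRTs : ((R.subtype hRT : Sylow r ↥T) : Subgroup ↥T).Normal := by
      rw [Sylow.coe_subtype]; exact hRTn
    haveI hchar : ((R.subtype hRT : Sylow r ↥T) : Subgroup ↥T).Characteristic :=
      Sylow.characteristic_of_normal _ hRTs
    have hRn : (((R.subtype hRT : Sylow r ↥T) : Subgroup ↥T).map T.subtype).Normal :=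
      ConjAct.normal_of_characteristic_of_normal
    rw [Sylow.coe_subtype, Subgroup.map_subgroupOf_eq_of_le hRT] at hRn
    obtain ⟨g, hg⟩ := MulAction.exists_smul_eq G R P
    haveI := hRn
    rw [← hg, Sylow.smul_eq_of_normal]
    exact hRn

theorem solvable_of_normal_inv (hIH : FpfIH.{u} p (Nat.card G)) {φ : G ≃* G} (h : Fpf p φ)
    {r : ℕ} [Fact r.Prime] (Y : Subgroup G) (hYn : Y.Normal) (hYφ : Y.map φ.toMonoidHom = Y)
    (hYne : Y ≠ ⊥) (hYr : IsPGroup r Y) : Group.IsSolvable G := by
  haveI := hYn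
  haveI h1 : Group.IsNilpotent (G ⧸ Y) := nilpotent_quot hIH h Y hYφ hYne
  haveI h2 : Group.IsNilpotent ↥Y := hYr.isNilpotent
  apply Group.isSolvable_of_ker_le_range Y.subtype (QuotientGroup.mk' Y)
  rw [QuotientGroup.ker_mk', Subgroup.range_subtype]

/-- a minimal situation is solvable -/
theorem solvable_of_fpf (hIH : FpfIH.{u} p (Nat.card G)) {φ : G ≃* G}
    (h : Fpf p φ) : Group.IsSolvable G := by
  classical
  by_cases hodd : ∃ r : ℕ, r.Prime ∧ r ≠ 2 ∧ r ∣ Nat.card G
  · obtain ⟨r, hr, hr2, hrd⟩ := hodd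
    haveI : Fact r.Prime := ⟨hr⟩
    obtain ⟨R, hR⟩ := Cfsg.Agent.S0031.result φ (fun g hg => h.fpf g hg) r
    have hRφ : (R : Subgroup G).map φ.toMonoidHom = R := hR
    have hRne : (R : Subgroup G) ≠ ⊥ := R.ne_bot_of_dvd_card hrd
    set J := thompsonSubgroupOf r (R : Subgroup G) with hJ
    set Z := zOf (R : Subgroup G) with hZ
    have hJφ : J.map φ.toMonoidHom = J := by
      rw [hJ, ← thompsonSubgroupOf_map_injective _ φ.injective, hRφ]
    have hZφ : Z.map φ.toMonoidHom = Z := by
      rw [hZ, ← zOf_map_injOn _ φ.injective.injOn, hRφ]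
    have hJr : IsPGroup r J := R.2.to_le (thompsonSubgroupOf_le_self r _)
    have hZr : IsPGroup r Z := R.2.to_le (zOf_le _)
    have hJne : J ≠ ⊥ := thompsonSubgroupOf_ne_bot R.2 hRne
    have hZne : Z ≠ ⊥ := zOf_ne_bot R.2 hRne
    by_cases h1 : Subgroup.normalizer (J : Set G) = ⊤
    · exact solvable_of_normal_inv hIH h J (Subgroup.normalizer_eq_top_iff.mp h1) hJφ hJne hJr
    by_cases h2 : Subgroup.centralizer (Z : Set G) = ⊤
    · have hZn : Z.Normal := by
        refine ⟨fun z hz g => ?_⟩
        have hg : g ∈ Subgroup.centralizer (Z : Set G) := by rw [h2]; trivial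
        have := Subgroup.mem_centralizer_iff.mp hg z hz
        have e : g * z * g⁻¹ = z := by rw [← this]; group
        rw [e]; exact hz
      exact solvable_of_normal_inv hIH h Z hZn hZφ hZne hZr
    -- both are proper invariant subgroups
    have hNφ : (Subgroup.normalizer (J : Set G)).map φ.toMonoidHom =
        Subgroup.normalizer (J : Set G) := by
      rw [Subgroup.map_equiv_normalizer_eq, hJφ]
    have hCφ : (Subgroup.centralizer (Z : Set G)).map φ.toMonoidHom =
        Subgroup.centralizer (Z : Set G) := by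
      have key : ∀ ψ : G ≃* G, Z.map ψ.toMonoidHom = Z →
          (Subgroup.centralizer (Z : Set G)).map ψ.toMonoidHom ≤
            Subgroup.centralizer (Z : Set G) := by
        intro ψ hψ
        have := Subgroup.map_centralizer_le_centralizer_image (Z : Set G) ψ.toMonoidHom
        rw [← Subgroup.coe_map, hψ] at this
        exact this
      apply le_antisymm (key φ hZφ)
      have hZsymm : Z.map φ.symm.toMonoidHom = Z := by
        conv_lhs => rw [← hZφ]
        rw [Subgroup.map_map]
        have e : φ.symm.toMonoidHom.comp φ.toMonoidHom = MonoidHom.id G := by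
          ext x; simp
        rw [e, Subgroup.map_id]
      have := Subgroup.map_mono (f := φ.toMonoidHom) (key φ.symm hZsymm)
      rw [Subgroup.map_map] at this
      have e : φ.toMonoidHom.comp φ.symm.toMonoidHom = MonoidHom.id G := by
        ext x; simp
      rwa [e, Subgroup.map_id] at this
    have hN1 := pn_of_isNilpotent (r := r) _ (nilpotent_sub hIH h _ hNφ h1)
    have hC1 := pn_of_isNilpotent (r := r) _ (nilpotent_sub hIH h _ hCφ h2)
    have hnpc : HasNormalPComplement r G := thompson_npc hr2 R ⟨hN1, hC1⟩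
    obtain ⟨M, hMn, hMc, k, hk⟩ := normal_hall_of_hnpc hnpc
    have hMchar : ∀ x : G, x ∈ M ↔ (orderOf x).Coprime r := fun x =>
      Cfsg.Agent.Lib.Helper33.mem_iff_coprime_of_normal_hall M hMc hk x
    have hMφ : M.map φ.toMonoidHom = M := by
      have hle : M.map φ.toMonoidHom ≤ M := by
        rintro _ ⟨x, hx, rfl⟩
        have hx : x ∈ M := hx
        rw [hMchar] at hx ⊢
        show (orderOf (φ x)).Coprime r
        rw [MulEquiv.orderOf_eq]
        exact hx
      apply Subgroup.eq_of_le_of_card_ge hle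
      rw [Subgroup.card_map_of_injective φ.injective]
    have hMne : M ≠ ⊤ := by
      intro htop
      rw [htop, Subgroup.card_top] at hMc
      exact (Nat.Prime.coprime_iff_not_dvd hr).mp hMc.symm hrd
    haveI hM1 : Group.IsNilpotent ↥M := nilpotent_sub hIH h M hMφ hMne
    haveI hM2 : Group.IsNilpotent (G ⧸ M) := by
      have : IsPGroup r (G ⧸ M) := by
        apply IsPGroup.of_card (n := k)
        rw [← hk, Subgroup.index_eq_card]
      exact this.isNilpotent
    apply Group.isSolvable_of_ker_le_range M.subtype (QuotientGroup.mk' M)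
    rw [QuotientGroup.ker_mk', Subgroup.range_subtype]
  · push Not at hodd
    have h2 : Nat.card G = 2 ^ (Nat.card G).primeFactorsList.length := by
      apply Nat.eq_prime_pow_of_unique_prime_dvd Nat.card_pos.ne'
      intro d hd hdd
      by_contra hne
      exact hodd d hd hne hdd
    haveI : Fact (Nat.Prime 2) := ⟨Nat.prime_two⟩
    have : IsPGroup 2 G := IsPGroup.of_card h2
    haveI := this.isNilpotent
    infer_instance

/-- **Thompson**: fixed-point-free automorphism of prime order implies nilpotent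
(induction form). -/
theorem thompson_fpf_aux (hp : p.Prime) : ∀ n : ℕ, ∀ (G : Type u) [Group G] [Finite G],
    Nat.card G = n → ∀ φ : G ≃* G, Fpf p φ → Group.IsNilpotent G := by
  intro n
  induction n using Nat.strong_induction_on with
  | _ n ih =>
    intro G _ _ hn φ h
    have hIH : FpfIH.{u} p (Nat.card G) := by
      intro G' _ _ hlt φ' h'
      rw [hn] at hlt
      exact ih _ hlt G' rfl φ' h'
    haveI := solvable_of_fpf hIH h
    exact nilpotent_of_solvable hp hIH h

theorem thompson_fpf (hp : p.Prime) (φ : G ≃* G) (h : Fpf p φ) : Group.IsNilpotent G :=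
  thompson_fpf_aux hp _ G rfl φ h

end Main

end Cfsg.Agent.Lib.Helper19
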