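import Cfsg.Agent.Lib.Helper47.BG11b
import Cfsg.Agent.S1403
import Cfsg.Agent.S1405
import Cfsg.Agent.S1350
import Cfsg.Agent.S1451
import Cfsg.Agent.Lib.Helper23.BetaMain
import Cfsg.Agent.Lib.Helper24.WardC

set_option autoImplicit false
set_option linter.style.haveILetI false
set_option linter.unusedSectionVars false

/-!
# Bender–Glauberman Proposition 12.4, part A: general facts on maximal subgroups

* `exists_mem_sigma`, `sigmaCore_ne_bot` : `σ(M) ≠ ∅` and `M_σ ≠ 1` (B&G 10.2(e));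
* `commutator_nilpotent_of_alphaCore_eq_bot` : `M_α = 1 → M'` nilpotent;
* `le_normalizer_of_le_commutator` : a Sylow subgroup of `G` inside the nilpotent `M'` is normal in `M`;
* `mem_sigma_of_normal_sylow`.
-/

namespace Cfsg.Agent.Lib.Helper19.BG124

open Subgroup Cfsg Cfsg.Agent.Lib.Helper33 Cfsg.Agent.Lib.Helper24 Cfsg.Agent.Lib.Helper32
open Cfsg.Agent.Lib.Helper24.BG Cfsg.Agent.Lib.Helper23 Cfsg.Agent.Lib.Helper63
open Cfsg.Agent.Lib.Helper47.BG11

universe u

variable {G : Type u} [Group G] [Finite G]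

theorem uniqStmt (hG : IsMinSimpleOddOrder G) : BG10.UniqStmt G :=
  fun K hK hK2 hK3 => Cfsg.Agent.S1403.result hG K hK hK2 hK3

theorem sigmaHallIn (hG : IsMinSimpleOddOrder G) {M : Subgroup G} (hM : IsCoatom M) :
    SigmaHallIn M := (Cfsg.Agent.S1350.result hG M hM).1

/-- `M ≤ N_G(N)` for `N` (the image of) a normal subgroup of `M` -/
theorem le_normalizer_map_of_normal (M : Subgroup G) (N : Subgroup ↥M) [hN : N.Normal] :
    M ≤ normalizer ((N.map M.subtype : Subgroup G) : Set G) := by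
  have h1 : (normalizer (N : Set ↥M)).map M.subtype ≤
      normalizer ((N.map M.subtype : Subgroup G) : Set G) := Subgroup.le_normalizer_map M.subtype
  rw [normalizer_eq_top_iff.mpr hN, ← MonoidHom.range_eq_map, Subgroup.range_subtype] at h1
  exact h1

/-- a nontrivial proper subgroup normalized by the maximal subgroup `M` has normalizer `M` -/
theorem normalizer_eq_of_le (hG : IsMinSimpleOddOrder G) {M X : Subgroup G} (hM : IsCoatom M)
    (hX1 : X ≠ ⊥) (hXM : X ≤ M) (hMX : M ≤ normalizer (X : Set G)) :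
    normalizer (X : Set G) = M := by
  have hXtop : X ≠ ⊤ := fun h => hM.1 (top_le_iff.mp (h ▸ hXM))
  have hne := BG10.normalizer_ne_top hG hX1 hXtop
  by_contra h
  exact hne (hM.2 _ (lt_of_le_of_ne hMX (Ne.symm h)))

/-- if a Sylow `p`-subgroup `X` of `M` is normalized by `M` then `p ∈ σ(M)` -/
theorem mem_sigma_of_normal_sylow (hG : IsMinSimpleOddOrder G) {M X : Subgroup G} (hM : IsCoatom M)
    {p : ℕ} [hp : Fact p.Prime] (hXp : IsPGroup p X) (hX1 : X ≠ ⊥) (hXM : X ≤ M)
    (hXi : ¬ p ∣ X.relIndex M) (hMX : M ≤ normalizer (X : Set G)) : p ∈ sigma M := by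
  obtain ⟨P, hP⟩ := exists_sylow_map_eq M X hXM hXp hXi
  have hdvd : p ∣ Nat.card M := by
    have h1 : Nat.card X ∣ Nat.card M := Subgroup.card_dvd_of_le hXM
    refine dvd_trans ?_ h1
    obtain ⟨n, hn⟩ := IsPGroup.iff_card.mp hXp
    rw [hn]
    rcases n with _ | n
    · exfalso
      rw [pow_zero] at hn
      exact hX1 (Subgroup.card_eq_one.mp hn)
    · exact dvd_pow_self p (Nat.succ_ne_zero n)
  refine ⟨hp.out, hdvd, P, ?_⟩
  rw [hP, normalizer_eq_of_le hG hM hX1 hXM hMX]

/-- **B&G 10.2(e)**, first half: `σ(M)` is not empty. -/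
theorem exists_mem_sigma (hG : IsMinSimpleOddOrder G) {M : Subgroup G} (hM : IsCoatom M) :
    ∃ q : ℕ, q ∈ sigma M := by
  by_contra hcon
  push Not at hcon
  have hU := uniqStmt hG
  -- `M` has rank at most `2`
  have hr : RankLE 2 ↥M := by
    intro q hq
    by_contra h
    exact hcon q (alpha_subset_sigma hG hU hM ⟨hq, h⟩)
  haveI : Group.IsSolvable ↥M := isSolvable_of_ne_top hG hM.1
  have hodd : Odd (Nat.card ↥M) := odd_card_subgroup hG M
  -- `M ≠ 1`
  have hM1 : Nat.card ↥M ≠ 1 := by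
    intro h
    have hMbot : M = ⊥ := Subgroup.card_eq_one.mp h
    -- then `G` has prime order, hence is commutative
    obtain ⟨hs, hnc, -⟩ := hG.2
    haveI := hs
    apply hnc
    have hcyc : ∀ x : G, x ≠ 1 → zpowers x = ⊤ := by
      intro x hx
      by_contra hne
      obtain ⟨L, hL, hxL⟩ := (eq_top_or_exists_le_coatom (zpowers x)).resolve_left hne
      have hbot : (⊥ : Subgroup G) < L :=
        lt_of_lt_of_le (bot_lt_iff_ne_bot.mpr (fun h => hx (zpowers_eq_bot.mp h))) hxL
      have := hM.2 L (hMbot ▸ hbot)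
      exact hL.1 this
    refine ⟨⟨fun a b => ?_⟩⟩
    by_cases ha : a = 1
    · rw [ha, one_mul, mul_one]
    · have hb : b ∈ zpowers a := by rw [hcyc a ha]; exact mem_top b
      obtain ⟨k, rfl⟩ := mem_zpowers_iff.mp hb
      exact (Commute.zpow_right (Commute.refl a) k).eq
  obtain ⟨q, hqmem, hqmax⟩ : ∃ q ∈ (Nat.card ↥M).primeFactors, ∀ r ∈ (Nat.card ↥M).primeFactors, r ≤ q := by
    have hne : (Nat.card ↥M).primeFactors.Nonempty :=
      Nat.nonempty_primeFactors.mpr (by have := Nat.card_pos (α := ↥M); omega)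
    exact ⟨_, Finset.max'_mem _ hne, fun r hr => Finset.le_max' _ r hr⟩
  have hq : q.Prime := Nat.prime_of_mem_primeFactors hqmem
  have hqd : q ∣ Nat.card ↥M := Nat.dvd_of_mem_primeFactors hqmem
  haveI : Fact q.Prime := ⟨hq⟩
  obtain ⟨-, -, h3⟩ := Cfsg.Agent.S1451.result (G := ↥M) hodd (Or.inl hr)
  obtain ⟨N, hNchar, hNπ, hNi⟩ := h3 (q - 1)
  haveI := hNchar
  haveI hNn : N.Normal := inferInstance
  have hNp : IsPGroup q N := by
    have h : ∀ {d : ℕ}, d.Prime → d ∣ Nat.card N → d = q := by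
      intro d hd hdd
      have h1 := hNπ d hd hdd
      have h2 : d ≤ q := hqmax d (Nat.mem_primeFactors.mpr
        ⟨hd, dvd_trans hdd (Subgroup.card_subgroup_dvd_card N), (Nat.card_pos (α := ↥M)).ne'⟩)
      have h3 : q - 1 < d := h1.2
      omega
    exact IsPGroup.of_card (Nat.eq_prime_pow_of_unique_prime_dvd (Nat.card_pos (α := N)).ne' h)
  have hNidx : ¬ q ∣ N.index := hNi q hq ⟨hq, by have := hq.one_lt; omega⟩
  set X := N.map M.subtype with hX
  have hXp : IsPGroup q X := hNp.map _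
  have hXM : X ≤ M := map_subtype_le N
  have hXi : ¬ q ∣ X.relIndex M := by
    rw [hX, relIndex, ← Subgroup.comap_subtype, Subgroup.comap_map_eq_self_of_injective M.subtype_injective]
    exact hNidx
  have hX1 : X ≠ ⊥ := by
    intro h
    have h1 : N = ⊥ := (Subgroup.map_eq_bot_iff_of_injective N M.subtype_injective).mp h
    apply hNidx
    rw [h1, Subgroup.index_bot]
    exact hqd
  exact hcon q (mem_sigma_of_normal_sylow hG hM hXp hX1 hXM hXi (le_normalizer_map_of_normal M N))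

/-- **B&G 10.2(e)**: `M_σ ≠ 1`. -/
theorem sigmaCore_ne_bot (hG : IsMinSimpleOddOrder G) {M : Subgroup G} (hM : IsCoatom M) :
    sigmaCore M ≠ ⊥ := by
  obtain ⟨q, hq⟩ := exists_mem_sigma hG hM
  intro h
  have hσ := sigmaHallIn hG hM
  have h1 := hσ.2.2 q hq.1 hq
  apply h1
  rw [h, relIndex_bot_left]
  exact hq.2.1

/-- if `M_α = 1` then `M'` is nilpotent (B&G 10.2(d)). -/
theorem commutator_nilpotent_of_alphaCore_eq_bot (hG : IsMinSimpleOddOrder G) {M : Subgroup G}
    (hM : IsCoatom M) (hα : alphaCore M = ⊥) : Group.IsNilpotent ↥⁅M, M⁆ := by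
  obtain ⟨-, -, -, -, hnil⟩ := Cfsg.Agent.S1405.result hG M hM
  have hbot : piCore (alpha M) ↥M = ⊥ :=
    (Subgroup.map_eq_bot_iff_of_injective _ M.subtype_injective).mp hα
  have hinj : Function.Injective (QuotientGroup.mk' (piCore (alpha M) ↥M)) := by
    rw [← MonoidHom.ker_eq_bot_iff, QuotientGroup.ker_mk', hbot]
  have e1 := (commutator ↥M).equivMapOfInjective _ hinj
  haveI := hnil
  haveI h1 : Group.IsNilpotent ↥(commutator ↥M) := Group.nilpotent_of_mulEquiv e1.symm
  have e2 := (commutator ↥M).equivMapOfInjective M.subtype M.subtype_injective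
  rw [← Cfsg.Agent.Lib.Helper23.Beta.map_commutator_subtype]
  exact Group.nilpotent_of_mulEquiv e2

/-- a Sylow `p`-subgroup of `G` contained in the nilpotent group `M'` is normalized by `M` -/
theorem le_normalizer_of_le_commutator {M P : Subgroup G} {p : ℕ} [hp : Fact p.Prime]
    (hnil : Group.IsNilpotent ↥⁅M, M⁆) (hPp : IsPGroup p P) (hPi : ¬ p ∣ P.index)
    (hPK : P ≤ ⁅M, M⁆) : M ≤ normalizer (P : Set G) := by
  set K : Subgroup G := ⁅M, M⁆ with hK
  obtain ⟨S⟩ : Nonempty (Sylow p ↥K) := inferInstance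
  set Q := (S : Subgroup ↥K).map K.subtype with hQ
  have hall : ∀ X : Subgroup G, X ≤ K → IsPGroup p X → X ≤ Q := by
    intro X hXK hX x hx
    have hxo : ∃ k : ℕ, orderOf (⟨x, hXK hx⟩ : ↥K) = p ^ k := by
      obtain ⟨k, hk⟩ := (IsPGroup.iff_orderOf.mp hX) ⟨x, hx⟩
      refine ⟨k, ?_⟩
      rw [← hk, ← Subgroup.orderOf_coe, ← Subgroup.orderOf_coe]
    have := mem_of_not_dvd_index (S : Subgroup ↥K) S.not_dvd_index hxo
    exact ⟨⟨x, hXK hx⟩, this, rfl⟩
  have hQp : IsPGroup p Q := S.2.map _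
  -- `P = Q`
  have hPQ : P = Q := by
    apply eq_of_le_of_card_ge (hall P hPK hPp)
    -- `|Q|` is a power of `p` dividing `|G|`, `|P|` is the full `p`-part
    have hPsyl : Nat.card P = p ^ (Nat.card G).factorization p :=
      (hPp.toSylow hPi).card_eq_multiplicity
    obtain ⟨n, hn⟩ := IsPGroup.iff_card.mp hQp
    rw [hn, hPsyl]
    have hdvd : p ^ n ∣ Nat.card G := hn ▸ Subgroup.card_subgroup_dvd_card Q
    exact Nat.pow_le_pow_right hp.out.pos
      ((hp.out.pow_dvd_iff_le_factorization (Nat.card_pos (α := G)).ne').mp hdvd)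
  intro m hm
  rw [← cj_eq_self_iff]
  apply eq_of_le_of_card_ge
  · have h1 : cj m P ≤ K := by
      have h2 : cj m K = K := cj_eq_self_iff.mpr (le_normalizer_commutator_left M M hm)
      rw [← h2]
      exact cj_mono hPK
    calc cj m P ≤ Q := hall _ h1 (isPGroup_cj hPp)
      _ = P := hPQ.symm
  · rw [card_cj]

end Cfsg.Agent.Lib.Helper19.BG124
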