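import Mathlib
import Cfsg.Prelude.Def_Local
import Cfsg.Agent.Lib.Helper63.PLength

/-!
# B&G Theorem 3.6, reductions: series of `p`-length one over a normal subgroup

`SerOver p N H`: there are normal subgroups `N ≤ A ≤ B ≤ H` of the ambient group with `A/N` a
`p'`-group, `B/A` a `p`-group and `H/B` a `p'`-group (elementwise).  With `N = ⊥` this says that
`H` has `p`-length at most one, with a series made of subgroups normal in the ambient group.
-/

set_option autoImplicit false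
set_option linter.style.haveILetI false
set_option linter.unusedSectionVars false

namespace Cfsg.Agent.Lib.Helper19.BG36

open Subgroup Cfsg

variable {G : Type*} [Group G]

/-- a `p`-length-one series of ambient-normal subgroups between `N` and `H` -/
def SerOver (p : ℕ) (N H : Subgroup G) : Prop :=
  ∃ A B : Subgroup G, A.Normal ∧ B.Normal ∧ N ≤ A ∧ A ≤ B ∧ B ≤ H ∧
    (∀ a ∈ A, ∃ n : ℕ, n.Coprime p ∧ a ^ n ∈ N) ∧ (∀ b ∈ B, ∃ m : ℕ, b ^ (p ^ m) ∈ A) ∧
    (∀ h ∈ H, ∃ n : ℕ, n.Coprime p ∧ h ^ n ∈ B)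

theorem serOver_bot_of_bot (p : ℕ) : SerOver p (⊥ : Subgroup G) ⊥ :=
  ⟨⊥, ⊥, inferInstance, inferInstance, le_rfl, le_rfl, le_rfl,
    fun a ha => ⟨1, Nat.coprime_one_left p, by simpa using ha⟩,
    fun b hb => ⟨0, by simpa using hb⟩,
    fun h hh => ⟨1, Nat.coprime_one_left p, by simpa using hh⟩⟩

/-- a normal `p'`-subgroup at the bottom can be absorbed -/
theorem serOver_bot_of_coprime [Finite G] {p : ℕ} {N H : Subgroup G} (h : SerOver p N H)
    (hN : (Nat.card N).Coprime p) : SerOver p ⊥ H := by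
  obtain ⟨A, B, hA, hB, hNA, hAB, hBH, h1, h2, h3⟩ := h
  refine ⟨A, B, hA, hB, bot_le, hAB, hBH, ?_, h2, h3⟩
  intro a ha
  obtain ⟨n, hn, han⟩ := h1 a ha
  refine ⟨n * Nat.card N, Nat.Coprime.mul_left hn hN, ?_⟩
  rw [pow_mul, mem_bot]
  have := pow_card_eq_one' (G := N) (x := ⟨a ^ n, han⟩)
  exact congrArg Subtype.val this

/-- subdirect products -/
theorem serOver_bot_of_inf_eq_bot {p : ℕ} {N₁ N₂ H : Subgroup G} (h₁ : SerOver p N₁ H)
    (h₂ : SerOver p N₂ H) (h : N₁ ⊓ N₂ = ⊥) : SerOver p ⊥ H := by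
  obtain ⟨A₁, B₁, hA₁, hB₁, hNA₁, hAB₁, hBH₁, a1, a2, a3⟩ := h₁
  obtain ⟨A₂, B₂, hA₂, hB₂, hNA₂, hAB₂, hBH₂, b1, b2, b3⟩ := h₂
  haveI := hA₁; haveI := hA₂; haveI := hB₁; haveI := hB₂
  refine ⟨A₁ ⊓ A₂, B₁ ⊓ B₂, inferInstance, inferInstance, bot_le, inf_le_inf hAB₁ hAB₂,
    inf_le_left.trans hBH₁, ?_, ?_, ?_⟩
  · rintro a ⟨ha1, ha2⟩
    obtain ⟨n₁, hn₁, h1⟩ := a1 a ha1
    obtain ⟨n₂, hn₂, h2⟩ := b1 a ha2
    refine ⟨n₁ * n₂, Nat.Coprime.mul_left hn₁ hn₂, ?_⟩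
    rw [← h]
    refine ⟨?_, ?_⟩
    · rw [pow_mul]; exact N₁.pow_mem h1 _
    · rw [mul_comm, pow_mul]; exact N₂.pow_mem h2 _
  · rintro b ⟨hb1, hb2⟩
    obtain ⟨m₁, h1⟩ := a2 b hb1
    obtain ⟨m₂, h2⟩ := b2 b hb2
    refine ⟨m₁ + m₂, ?_, ?_⟩
    · rw [pow_add, pow_mul]; exact A₁.pow_mem h1 _
    · rw [pow_add, mul_comm, pow_mul]; exact A₂.pow_mem h2 _
  · intro x hx
    obtain ⟨n₁, hn₁, h1⟩ := a3 x hx
    obtain ⟨n₂, hn₂, h2⟩ := b3 x hx
    refine ⟨n₁ * n₂, Nat.Coprime.mul_left hn₁ hn₂, ?_, ?_⟩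
    · rw [pow_mul]; exact B₁.pow_mem h1 _
    · rw [mul_comm, pow_mul]; exact B₂.pow_mem h2 _

/-- pulling a series back from a quotient -/
theorem serOver_of_quotient {p : ℕ} (N H : Subgroup G) [hN : N.Normal] (hNH : N ≤ H)
    (h : SerOver p (⊥ : Subgroup (G ⧸ N)) (H.map (QuotientGroup.mk' N))) : SerOver p N H := by
  obtain ⟨A, B, hA, hB, -, hAB, hBH, h1, h2, h3⟩ := h
  haveI := hA; haveI := hB
  refine ⟨A.comap (QuotientGroup.mk' N), B.comap (QuotientGroup.mk' N), inferInstance,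
    inferInstance, ?_, comap_mono hAB, ?_, ?_, ?_, ?_⟩
  · intro n hn
    rw [mem_comap]
    have : QuotientGroup.mk' N n = 1 := (QuotientGroup.eq_one_iff n).2 hn
    rw [this]; exact A.one_mem
  · intro b hb
    rw [mem_comap] at hb
    obtain ⟨h', hh', he⟩ := hBH hb
    have : h'⁻¹ * b ∈ N := by
      rw [← QuotientGroup.eq_one_iff, ← QuotientGroup.mk'_apply, map_mul, map_inv, he]
      simp
    have h4 : b = h' * (h'⁻¹ * b) := by group
    rw [h4]
    exact H.mul_mem hh' (hNH this)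
  · intro a ha
    obtain ⟨n, hn, han⟩ := h1 _ (mem_comap.1 ha)
    refine ⟨n, hn, ?_⟩
    rw [mem_bot, ← map_pow] at han
    exact (QuotientGroup.eq_one_iff _).1 han
  · intro b hb
    obtain ⟨m, hm⟩ := h2 _ (mem_comap.1 hb)
    refine ⟨m, ?_⟩
    rw [mem_comap, map_pow]; exact hm
  · intro x hx
    obtain ⟨n, hn, hxn⟩ := h3 _ (mem_map_of_mem _ hx)
    refine ⟨n, hn, ?_⟩
    rw [mem_comap, map_pow]; exact hxn

/-- the four-term series `⊥, A, B, ⊤, ⊤, …` -/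
def ser4 {K : Type*} [Group K] (A B : Subgroup K) : ℕ → Subgroup K
  | 0 => ⊥
  | 1 => A
  | 2 => B
  | _ + 3 => ⊤

/-- a series over `⊥` gives `p`-length at most one -/
theorem pLengthLE_of_serOver_bot [Finite G] {p : ℕ} [Fact p.Prime] {H : Subgroup G}
    (h : SerOver p ⊥ H) : PLengthLE p 1 ↥H := by
  obtain ⟨A, B, hA, hB, -, hAB, hBH, h1, h2, h3⟩ := h
  haveI := hA; haveI := hB
  rw [Cfsg.Agent.Lib.Helper63.pLengthLE_iff]
  refine ⟨ser4 (A.subgroupOf H) (B.subgroupOf H), ⟨rfl, ?_, ?_, ?_⟩, rfl⟩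
  · intro i
    match i with
    | 0 => exact (inferInstance : (⊥ : Subgroup H).Normal)
    | 1 => exact (inferInstance : (A.subgroupOf H).Normal)
    | 2 => exact (inferInstance : (B.subgroupOf H).Normal)
    | (j + 3) => exact (inferInstance : (⊤ : Subgroup H).Normal)
  · intro i hi
    match i with
    | 0 =>
      intro x hx
      obtain ⟨n, hn, hxn⟩ := h1 x hx
      refine ⟨n, hn, ?_⟩
      show x ^ n ∈ (⊥ : Subgroup H)
      rw [mem_bot] at hxn ⊢
      apply Subtype.ext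
      simpa using hxn
    | 1 => exact absurd hi (by decide)
    | 2 =>
      intro x _
      obtain ⟨n, hn, hxn⟩ := h3 x x.2
      refine ⟨n, hn, ?_⟩
      show x ^ n ∈ B.subgroupOf H
      rw [mem_subgroupOf]; simpa using hxn
    | (j + 3) =>
      intro x _
      exact ⟨1, Nat.coprime_one_left p, mem_top _⟩
  · intro i hi
    match i with
    | 0 => exact absurd (by decide : Even 0) hi
    | 1 =>
      intro x hx
      obtain ⟨m, hm⟩ := h2 x hx
      refine ⟨m, ?_⟩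
      show x ^ (p ^ m) ∈ A.subgroupOf H
      rw [mem_subgroupOf]; simpa using hm
    | 2 => exact absurd (by decide : Even 2) hi
    | (j + 3) =>
      intro x _
      exact ⟨0, mem_top _⟩

end Cfsg.Agent.Lib.Helper19.BG36
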