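import Mathlib
import Cfsg.Prelude.Def_Local
import Cfsg.Agent.Lib.Helper19.BG36Ser
import Cfsg.Agent.Lib.Helper24.Coprime
import Cfsg.Agent.Lib.Helper24.Factor

/-!
# B&G Theorem 3.6, reductions: the configuration and its quotients
-/

set_option autoImplicit false
set_option linter.style.haveILetI false
set_option linter.unusedSectionVars false

namespace Cfsg.Agent.Lib.Helper19.BG36

open Subgroup Cfsg

universe u

variable {G : Type u} [Group G]

/-- The configuration of B&G 3.6 after replacing `H` by `[H, R]`. -/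
structure Cfg (H R : Subgroup G) (x : G) : Prop where
  hn : H.Normal
  cop : (Nat.card H).Coprime (Nat.card R)
  sup : H ⊔ R = ⊤
  xR : x ∈ R
  xr : (orderOf x).Prime
  zg : IsZGroup ↥(H ⊓ centralizer ({x} : Set G))
  comm : ⁅H, R⁆ = H

/-- the conclusion for all configurations in `G` -/
def Concl (p : ℕ) (G : Type u) [Group G] : Prop :=
  ∀ (H R : Subgroup G) (x : G), Cfg H R x → SerOver p ⊥ H

/-- the induction hypothesis -/
def IHyp (p n : ℕ) : Prop :=
  ∀ (G : Type u) [Group G] [Finite G] [Group.IsSolvable G], Nat.card G < n → Odd (Nat.card G) →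
    Concl p G

section basic
variable {H R : Subgroup G} {x : G}

theorem Cfg.inf_eq_bot (c : Cfg H R x) : H ⊓ R = ⊥ := (disjoint_of_coprime_natCard c.cop).eq_bot

theorem Cfg.x_ne_one (c : Cfg H R x) : x ≠ 1 := by
  intro h
  have := c.xr
  rw [h, orderOf_one] at this
  exact Nat.not_prime_one this

theorem Cfg.x_notMem (c : Cfg H R x) : x ∉ H := by
  intro h
  have : x ∈ H ⊓ R := ⟨h, c.xR⟩
  rw [c.inf_eq_bot, mem_bot] at this
  exact c.x_ne_one this

theorem Cfg.orderOf_dvd [Finite G] (c : Cfg H R x) : orderOf x ∣ Nat.card R := by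
  have := orderOf_dvd_natCard (⟨x, c.xR⟩ : R)
  rwa [Subgroup.orderOf_mk] at this

theorem Cfg.coprime_orderOf [Finite G] (c : Cfg H R x) {N : Subgroup G} (hN : N ≤ H) :
    (Nat.card N).Coprime (orderOf x) :=
  Nat.Coprime.coprime_dvd_left (card_dvd_of_le hN)
    (Nat.Coprime.coprime_dvd_right c.orderOf_dvd c.cop)

end basic

/-- The configuration passes to quotients by normal subgroups inside `H`. -/
theorem Cfg.quotient [Finite G] [Group.IsSolvable G] {H R : Subgroup G} {x : G} (c : Cfg H R x)
    (N : Subgroup G) [hN : N.Normal] (hNH : N ≤ H) :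
    Cfg (H.map (QuotientGroup.mk' N)) (R.map (QuotientGroup.mk' N)) (QuotientGroup.mk' N x) := by
  have hsurj := QuotientGroup.mk'_surjective N
  haveI := c.hn
  refine ⟨c.hn.map _ hsurj, ?_, ?_, mem_map_of_mem _ c.xR, ?_, ?_, ?_⟩
  · exact Nat.Coprime.coprime_dvd_left (card_map_dvd H _)
      (Nat.Coprime.coprime_dvd_right (card_map_dvd R _) c.cop)
  · rw [← Subgroup.map_sup, c.sup, map_top_of_surjective _ hsurj]
  · have hdvd : orderOf (QuotientGroup.mk' N x) ∣ orderOf x := orderOf_map_dvd _ x
    rcases (Nat.dvd_prime c.xr).1 hdvd with h1 | h1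
    · exfalso
      rw [orderOf_eq_one_iff] at h1
      have : x ∈ N := (QuotientGroup.eq_one_iff x).1 h1
      exact c.x_notMem (hNH this)
    · rw [h1]; exact c.xr
  · -- Z-group: fixed points lift
    haveI := c.zg
    let φ : ↥(H ⊓ centralizer ({x} : Set G)) →*
        ↥(H.map (QuotientGroup.mk' N) ⊓ centralizer ({QuotientGroup.mk' N x} : Set (G ⧸ N))) :=
      { toFun := fun y => ⟨QuotientGroup.mk' N (y : G), mem_map_of_mem _ y.2.1, by
          show QuotientGroup.mk' N (y : G) ∈ centralizer ({QuotientGroup.mk' N x} : Set (G ⧸ N))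
          rw [mem_centralizer_singleton_iff]
          have := mem_centralizer_singleton_iff.1 y.2.2
          rw [← map_mul, ← map_mul, this]⟩
        map_one' := by apply Subtype.ext; simp
        map_mul' := fun a b => by
          apply Subtype.ext
          show QuotientGroup.mk' N ((a : G) * (b : G)) =
            QuotientGroup.mk' N (a : G) * QuotientGroup.mk' N (b : G)
          exact map_mul _ _ _ }
    have hφ : Function.Surjective φ := by
      rintro ⟨y', hy1, hy2⟩
      obtain ⟨k, hkH, rfl⟩ := hy1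
      have hcomm : x * k * x⁻¹ * k⁻¹ ∈ N := by
        rw [← QuotientGroup.eq_one_iff, ← QuotientGroup.mk'_apply]
        have := mem_centralizer_singleton_iff.1 hy2
        simp only [map_mul, map_inv]
        rw [← this, mul_inv_cancel_right, mul_inv_cancel]
      have hxN : x ∈ normalizer (N : Set G) := by
        rw [normalizer_eq_top]; exact mem_top x
      have hall := Cfsg.Agent.Lib.Helper24.comm_mem_of_mem_zpowers N x k hxN hcomm
      have hcopA : (Nat.card (zpowers x)).Coprime (Nat.card N) := by
        rw [Nat.card_zpowers]; exact (c.coprime_orderOf hNH).symm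
      have hAN : zpowers x ≤ normalizer (N : Set G) := by
        rw [normalizer_eq_top]; exact le_top
      obtain ⟨n, hn, hnk⟩ := Cfsg.Agent.Lib.Helper24.fixed_point_lemma N (zpowers x) hAN hcopA
        (Or.inl inferInstance) k hall
      refine ⟨⟨n⁻¹ * k, H.mul_mem (H.inv_mem (hNH hn)) hkH, ?_⟩, ?_⟩
      · show n⁻¹ * k ∈ centralizer ({x} : Set G)
        rw [mem_centralizer_singleton_iff]
        exact (mem_centralizer_iff.1 hnk _ (mem_zpowers _)).symm
      · apply Subtype.ext
        show QuotientGroup.mk' N (n⁻¹ * k) = QuotientGroup.mk' N k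
        have h1 : QuotientGroup.mk' N n = 1 := (QuotientGroup.eq_one_iff n).2 hn
        rw [map_mul, map_inv, h1]
        simp
    exact IsZGroup.of_surjective hφ
  · rw [← map_commutator, c.comm]

/-- the induction hypothesis applied to a proper quotient -/
theorem Cfg.serOver_quot [Finite G] [Group.IsSolvable G] (hodd : Odd (Nat.card G)) {p : ℕ}
    (ih : IHyp.{u} p (Nat.card G)) {H R : Subgroup G} {x : G} (c : Cfg H R x)
    (N : Subgroup G) [hN : N.Normal] (hNH : N ≤ H) (hN1 : N ≠ ⊥) : SerOver p N H := by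
  apply serOver_of_quotient N H hNH
  have hcard : Nat.card G = Nat.card (G ⧸ N) * Nat.card N :=
    card_eq_card_quotient_mul_card_subgroup N
  have hN2 : 1 < Nat.card N := (one_lt_card_iff_ne_bot N).2 hN1
  have hpos : 0 < Nat.card (G ⧸ N) := Nat.card_pos
  refine ih (G ⧸ N) ?_ ?_ _ _ _ (c.quotient N hNH)
  · rw [hcard]; nlinarith
  · exact Odd.of_dvd_nat hodd ⟨_, hcard⟩

end Cfsg.Agent.Lib.Helper19.BG36
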