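import Mathlib
import Cfsg.Prelude.Def_Local
import Cfsg.Agent.Lib.Helper19.BG36Quot
import Cfsg.Agent.Lib.Helper24.InvCompl
import Cfsg.Agent.Lib.Helper24.RelSZ
import Cfsg.Agent.Lib.Helper24.Glauberman
import Cfsg.Agent.Lib.Helper33.Conj

/-!
# B&G Theorem 3.6, reductions: the complement of the minimal normal subgroup
-/

set_option autoImplicit false
set_option linter.style.haveILetI false
set_option linter.unusedSectionVars false

namespace Cfsg.Agent.Lib.Helper19.BG36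

open Subgroup Cfsg
open Cfsg.Agent.Lib.Helper33 (cj)

universe u

variable {G : Type u} [Group G]

/-- a subgroup normalized by both factors of a factorization `G = V L` is normal -/
theorem normal_of_factor {V Ls C : Subgroup G}
    (hfac : ∀ g : G, ∃ v ∈ V, ∃ l ∈ Ls, g = v * l) (hV : V ≤ normalizer (C : Set G))
    (hL : Ls ≤ normalizer (C : Set G)) : C.Normal := by
  rw [← normalizer_eq_top_iff, eq_top_iff]
  intro g _
  obtain ⟨v, hv, l, hl, rfl⟩ := hfac g
  exact (normalizer (C : Set G)).mul_mem (hV hv) (hL hl)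

/-- **The complement.** -/
theorem exists_complement [Finite G] [Group.IsSolvable G] {p : ℕ} [hp : Fact p.Prime]
    {H R : Subgroup G} {x : G} (c : Cfg H R x)
    (V T : Subgroup G) [hVn : V.Normal] [hTn : T.Normal]
    (hVT : V ≤ T) (hTH : T ≤ H) (hVp : IsPGroup p V) (hVab : ∀ a ∈ V, ∀ b ∈ V, a * b = b * a)
    (hV1 : V ≠ ⊥) (hne : ¬ T ≤ V) (hcop : (V.relIndex T).Coprime p)
    (hmin : ∀ N : Subgroup G, N.Normal → N ≤ V → N = ⊥ ∨ N = V)
    (huniq : ∀ N : Subgroup G, N.Normal → N ≤ H → N ≠ ⊥ → V ≤ N) :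
    ∃ Ls : Subgroup G, R ≤ Ls ∧ V ⊓ Ls = ⊥ ∧ ∀ g : G, ∃ v ∈ V, ∃ l ∈ Ls, g = v * l := by
  have hnormV : normalizer (V : Set G) = ⊤ := normalizer_eq_top V
  have hnormT : normalizer (T : Set G) = ⊤ := normalizer_eq_top T
  obtain ⟨k, hk⟩ := IsPGroup.iff_card.1 hVp
  have hcopVT : (Nat.card V).Coprime (V.relIndex T) := by
    rw [hk]; exact Nat.Coprime.pow_left _ hcop.symm
  have hcopRV : (Nat.card R).Coprime (Nat.card V) :=
    (Nat.Coprime.coprime_dvd_left (card_dvd_of_le (hVT.trans hTH)) c.cop).symm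
  obtain ⟨Q₀, hQT, hQcard, hRQ, -⟩ := Cfsg.Agent.Lib.Helper24.inv_complement_containing R V T ⊥
    hVT (by rw [hnormV]; exact le_top) (by rw [hnormV]; exact le_top)
    (by rw [hnormT]; exact le_top) (by intro r _; rw [mem_normalizer_iff]; intro y; simp)
    bot_le hcopRV inferInstance hcopVT (by simp)
  have hQcop : (Nat.card Q₀).Coprime (Nat.card V) := by rw [hQcard]; exact hcopVT.symm
  have hQV : Q₀ ⊓ V = ⊥ := (disjoint_of_coprime_natCard hQcop).eq_bot
  have hQ1 : Q₀ ≠ ⊥ := by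
    intro h
    rw [h, card_bot] at hQcard
    exact hne (relIndex_eq_one.1 hQcard.symm)
  have hQnV : Q₀ ≤ normalizer (V : Set G) := by rw [hnormV]; exact le_top
  have hsupeq : Q₀ ⊔ V = T := by
    have h1 := Cfsg.Agent.Lib.Helper24.relIndex_sup_eq_card Q₀ V hQnV hQV
    have hle : Q₀ ⊔ V ≤ T := sup_le hQT hVT
    have h2 : V.relIndex (Q₀ ⊔ V) * (Q₀ ⊔ V).relIndex T = V.relIndex T :=
      relIndex_mul_relIndex V (Q₀ ⊔ V) T le_sup_right hle
    rw [h1, hQcard] at h2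
    have hpos : 0 < V.relIndex T := by
      rw [← hQcard]; exact Nat.card_pos
    have h3 : (Q₀ ⊔ V).relIndex T = 1 := by
      have : V.relIndex T * (Q₀ ⊔ V).relIndex T = V.relIndex T * 1 := by rw [h2, mul_one]
      exact Nat.eq_of_mul_eq_mul_left hpos this
    exact le_antisymm hle (relIndex_eq_one.1 h3)
  -- Frattini
  have hfac : ∀ g : G, ∃ v ∈ V, ∃ l ∈ normalizer (Q₀ : Set G), g = v * l := by
    intro g
    have h₂ : cj g Q₀ ≤ Q₀ ⊔ V := by
      rw [hsupeq]
      have : cj g T = T := Cfsg.Agent.Lib.Helper33.cj_eq_self_iff.2 (by rw [hnormT]; exact mem_top g)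
      rw [← this]
      exact Cfsg.Agent.Lib.Helper33.cj_mono hQT
    obtain ⟨n, hn, hnQ⟩ := Cfsg.Agent.Lib.Helper24.rel_sz_conj V Q₀ (cj g Q₀) hQnV hQcop
      (Or.inl inferInstance) h₂ (Cfsg.Agent.Lib.Helper33.card_cj g Q₀)
    refine ⟨n, hn, n⁻¹ * g, ?_, by group⟩
    rw [← Cfsg.Agent.Lib.Helper33.cj_eq_self_iff, Cfsg.Agent.Lib.Helper33.cj_mul, ← hnQ,
      Cfsg.Agent.Lib.Helper33.cj_inv_cj]
  -- C_V(Q₀)
  set C₀ : Subgroup G := V ⊓ centralizer (Q₀ : Set G) with hC₀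
  have hVC : V ≤ normalizer (C₀ : Set G) := by
    intro v hv
    rw [mem_normalizer_iff]
    intro y
    have key : ∀ w ∈ V, ∀ z : G, z ∈ C₀ → w * z * w⁻¹ ∈ C₀ := by
      intro w hw z hz
      have : w * z * w⁻¹ = z := by
        rw [hVab w hw z hz.1, mul_inv_cancel_right]
      rw [this]; exact hz
    constructor
    · exact key v hv y
    · intro h
      have := key v⁻¹ (V.inv_mem hv) _ h
      have e : v⁻¹ * (v * y * v⁻¹) * v⁻¹⁻¹ = y := by group
      rwa [e] at this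
  have hLC : normalizer (Q₀ : Set G) ≤ normalizer (C₀ : Set G) := by
    intro l hl
    rw [mem_normalizer_iff]
    have key : ∀ m ∈ normalizer (Q₀ : Set G), ∀ z : G, z ∈ C₀ → m * z * m⁻¹ ∈ C₀ := by
      intro m hm z hz
      refine mem_inf.2 ⟨hVn.conj_mem z hz.1 m, ?_⟩
      rw [mem_centralizer_iff]
      intro a ha
      have ha' : m⁻¹ * a * m ∈ Q₀ := by
        have := (mem_normalizer_iff.1 (inv_mem hm) a).1 ha
        simpa using this
      have := mem_centralizer_iff.1 hz.2 _ ha'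
      calc a * (m * z * m⁻¹) = m * ((m⁻¹ * a * m) * z) * m⁻¹ := by group
        _ = m * (z * (m⁻¹ * a * m)) * m⁻¹ := by rw [this]
        _ = m * z * m⁻¹ * a := by group
    intro y
    constructor
    · exact key l hl y
    · intro h
      have := key l⁻¹ (inv_mem hl) _ h
      have e : l⁻¹ * (l * y * l⁻¹) * l⁻¹⁻¹ = y := by group
      rwa [e] at this
  have hC₀n : C₀.Normal := normal_of_factor hfac hVC hLC
  refine ⟨normalizer (Q₀ : Set G), hRQ, ?_, hfac⟩
  rcases hmin C₀ hC₀n inf_le_left with h0 | h0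
  · -- V ∩ N(Q₀) ≤ C₀ = ⊥
    rw [eq_bot_iff]
    rintro v ⟨hvV, hvN⟩
    rw [mem_bot]
    have hvC : v ∈ C₀ := by
      refine mem_inf.2 ⟨hvV, ?_⟩
      rw [mem_centralizer_iff]
      intro a ha
      have h1 : v * a * v⁻¹ * a⁻¹ ∈ Q₀ := Q₀.mul_mem ((mem_normalizer_iff.1 hvN a).1 ha) (Q₀.inv_mem ha)
      have h2 : v * a * v⁻¹ * a⁻¹ ∈ V := by
        have : v * a * v⁻¹ * a⁻¹ = v * (a * v⁻¹ * a⁻¹) := by group
        rw [this]
        exact V.mul_mem hvV (hVn.conj_mem _ (V.inv_mem hvV) a)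
      have h3 : v * a * v⁻¹ * a⁻¹ ∈ Q₀ ⊓ V := ⟨h1, h2⟩
      rw [hQV, mem_bot] at h3
      calc a * v = (v * a * v⁻¹ * a⁻¹)⁻¹ * (v * a) := by group
        _ = v * a := by rw [h3]; simp
    rw [h0, mem_bot] at hvC
    exact hvC
  · -- V centralizes Q₀: then Q₀ is normal
    exfalso
    have hVQ : V ≤ normalizer (Q₀ : Set G) := by
      have : V ≤ centralizer (Q₀ : Set G) := by
        rw [← h0]; exact inf_le_right
      exact this.trans (centralizer_le_normalizer _)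
    have hQn : Q₀.Normal := normal_of_factor hfac hVQ le_rfl
    have := huniq Q₀ hQn (hQT.trans hTH) hQ1
    have h4 : V ≤ Q₀ ⊓ V := le_inf this le_rfl
    rw [hQV] at h4
    exact hV1 (eq_bot_iff.2 h4)

end Cfsg.Agent.Lib.Helper19.BG36
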