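import Mathlib
import Cfsg.Prelude.Def_Local
import Cfsg.Agent.Lib.Helper19.BG36Compl
import Cfsg.Agent.Lib.Helper24.Coprime
import Cfsg.Agent.Lib.Helper11.PConstrained
import Cfsg.Agent.Lib.Helper47.PCoreOf2

/-!
# B&G Theorem 3.6, reductions: the data `H = V ⋊ L`
-/

set_option autoImplicit false
set_option linter.style.haveILetI false
set_option linter.unusedSectionVars false

namespace Cfsg.Agent.Lib.Helper19.BG36

open Subgroup Cfsg
open scoped commutatorElement

universe u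

variable {G : Type u} [Group G]

theorem le_normalizer_of_conj {P W : Subgroup G} (h : ∀ f ∈ P, ∀ w ∈ W, f * w * f⁻¹ ∈ W) :
    P ≤ normalizer (W : Set G) := by
  intro f hf
  rw [mem_normalizer_iff]
  intro y
  refine ⟨h f hf y, fun hy => ?_⟩
  have := h f⁻¹ (P.inv_mem hf) _ hy
  have e : f⁻¹ * (f * y * f⁻¹) * f⁻¹⁻¹ = y := by group
  rwa [e] at this

theorem conj_mem_of_mem_normalizer {W : Subgroup G} {g w : G} (hg : g ∈ normalizer (W : Set G))
    (hw : w ∈ W) : g * w * g⁻¹ ∈ W := (mem_normalizer_iff.1 hg w).1 hw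

/-- conjugating a centralizing element -/
theorem conj_mem_centralizer {B : Subgroup G} {g z : G} (hg : g ∈ normalizer (B : Set G))
    (hz : z ∈ centralizer (B : Set G)) : g * z * g⁻¹ ∈ centralizer (B : Set G) := by
  rw [mem_centralizer_iff]
  intro a ha
  have ha' : g⁻¹ * a * g ∈ B := by
    have := conj_mem_of_mem_normalizer (inv_mem hg) ha
    simpa using this
  have := mem_centralizer_iff.1 hz _ ha'
  calc a * (g * z * g⁻¹) = g * ((g⁻¹ * a * g) * z) * g⁻¹ := by group
    _ = g * (z * (g⁻¹ * a * g)) * g⁻¹ := by rw [this]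
    _ = g * z * g⁻¹ * a := by group

/-- The data `H = V ⋊ L` with `L` acting faithfully. -/
structure LData (p : ℕ) (H R V L : Subgroup G) : Prop where
  VH : V ≤ H
  LH : L ≤ H
  VL : V ⊓ L = ⊥
  fac : ∀ h ∈ H, ∃ v ∈ V, ∃ l ∈ L, h = v * l
  RL : R ≤ normalizer (L : Set G)
  faith : L ⊓ centralizer (V : Set G) = ⊥
  comm : ⁅L, R⁆ = L
  core : pCore p ↥L = ⊥

theorem lData_of_complement [Finite G] {p : ℕ} [hp : Fact p.Prime]
    {H R : Subgroup G} {x : G} (c : Cfg H R x)
    (V Ls : Subgroup G) [hVn : V.Normal] (hVH : V ≤ H) (hVp : IsPGroup p V)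
    (hVab : ∀ a ∈ V, ∀ b ∈ V, a * b = b * a) (hV1 : V ≠ ⊥)
    (hmin : ∀ N : Subgroup G, N.Normal → N ≤ V → N = ⊥ ∨ N = V)
    (huniq : ∀ N : Subgroup G, N.Normal → N ≤ H → N ≠ ⊥ → V ≤ N)
    (hRLs : R ≤ Ls) (hVLs : V ⊓ Ls = ⊥) (hfac : ∀ g : G, ∃ v ∈ V, ∃ l ∈ Ls, g = v * l) :
    LData p H R V (Ls ⊓ H) := by
  haveI := c.hn
  set L : Subgroup G := Ls ⊓ H with hL
  have hVL : V ⊓ L = ⊥ := by
    rw [eq_bot_iff, ← hVLs]
    exact inf_le_inf le_rfl inf_le_left
  have hLsL : Ls ≤ normalizer (L : Set G) := by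
    apply le_normalizer_of_conj
    intro g hg w hw
    exact ⟨Ls.mul_mem (Ls.mul_mem hg hw.1) (Ls.inv_mem hg), c.hn.conj_mem w hw.2 g⟩
  have hLsV : Ls ≤ normalizer (V : Set G) := by rw [normalizer_eq_top V]; exact le_top
  have hfacH : ∀ h ∈ H, ∃ v ∈ V, ∃ l ∈ L, h = v * l := by
    intro h hh
    obtain ⟨v, hv, l, hl, rfl⟩ := hfac h
    refine ⟨v, hv, l, ⟨hl, ?_⟩, rfl⟩
    have : l = v⁻¹ * (v * l) := by group
    rw [this]
    exact H.mul_mem (H.inv_mem (hVH hv)) hh
  -- faithful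
  have hfaith : L ⊓ centralizer (V : Set G) = ⊥ := by
    by_contra hD
    set D : Subgroup G := L ⊓ centralizer (V : Set G) with hDdef
    have hVD : V ≤ normalizer (D : Set G) := by
      apply le_normalizer_of_conj
      intro v hv d hd
      have : v * d * v⁻¹ = d := by
        have := mem_centralizer_iff.1 hd.2 v hv
        rw [this, mul_inv_cancel_right]
      rw [this]; exact hd
    have hLD : Ls ≤ normalizer (D : Set G) := by
      apply le_normalizer_of_conj
      intro l hl d hd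
      exact mem_inf.2 ⟨conj_mem_of_mem_normalizer (hLsL hl) hd.1,
        conj_mem_centralizer (hLsV hl) hd.2⟩
    have hDn : D.Normal := normal_of_factor hfac hVD hLD
    have := huniq D hDn (inf_le_left.trans inf_le_right) hD
    have h4 : V ≤ V ⊓ L := le_inf le_rfl (this.trans inf_le_left)
    rw [hVL] at h4
    exact hV1 (eq_bot_iff.2 h4)
  have hRL : R ≤ normalizer (L : Set G) := hRLs.trans hLsL
  -- [L, R] = L
  have hcomm : ⁅L, R⁆ = L := by
    have hle : ⁅L, R⁆ ≤ L := Cfsg.Agent.Lib.Helper24.commutator_le_of_le_normalizer L R hRL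
    apply le_antisymm hle
    have hHle : H ≤ V ⊔ ⁅L, R⁆ := by
      have h1 : ⁅H, R⁆ ≤ V ⊔ ⁅L, R⁆ := by
        rw [commutator_le]
        intro h hh ρ hρ
        obtain ⟨v, hv, l, hl, rfl⟩ := hfacH h hh
        have e : ⁅v * l, ρ⁆ = v * (⁅l, ρ⁆ * (ρ * v⁻¹ * ρ⁻¹)) := by
          simp only [commutatorElement_def]; group
        rw [e]
        refine (V ⊔ ⁅L, R⁆).mul_mem (mem_sup_left hv) ((V ⊔ ⁅L, R⁆).mul_mem (mem_sup_right ?_)
          (mem_sup_left ?_))
        · exact commutator_mem_commutator hl hρ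
        · exact hVn.conj_mem _ (V.inv_mem hv) ρ
      rwa [c.comm] at h1
    intro l hl
    have hlH : l ∈ V ⊔ ⁅L, R⁆ := hHle hl.2
    rw [sup_comm] at hlH
    have hlH' : l ∈ ((⁅L, R⁆ ⊔ V : Subgroup G) : Set G) := hlH
    rw [mul_normal] at hlH'
    obtain ⟨m, hm, v, hv, rfl⟩ := Set.mem_mul.1 hlH'
    have hvL : v ∈ L := by
      have : v = m⁻¹ * (m * v) := by group
      rw [this]
      exact L.mul_mem (L.inv_mem (hle hm)) hl
    have : v ∈ V ⊓ L := ⟨hv, hvL⟩
    rw [hVL, mem_bot] at this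
    rw [this, mul_one]; exact hm
  refine ⟨hVH, inf_le_right, hVL, hfacH, hRL, hfaith, hcomm, ?_⟩
  -- O_p(L) = 1
  haveI hchar := Cfsg.Agent.Lib.Helper11.pCore_characteristic' p ↥L
  set Y : Subgroup G := (pCore p ↥L).map L.subtype with hY
  have hYp : IsPGroup p Y := (Cfsg.Agent.Lib.Helper63.pCore_isPGroup' p ↥L).map L.subtype
  have hYL : Y ≤ L := by
    rintro _ ⟨y, -, rfl⟩
    exact y.2
  have hYV : Y ≤ normalizer (V : Set G) := by rw [normalizer_eq_top V]; exact le_top
  have hne := Cfsg.Agent.Lib.Helper47.inf_centralizer_ne_bot_of_pgroup hYp hVp hYV hV1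
  set C : Subgroup G := V ⊓ centralizer (Y : Set G) with hC
  have hLsY : Ls ≤ normalizer (Y : Set G) :=
    hLsL.trans (Cfsg.Agent.Lib.Helper24.normalizer_le_normalizer_map_of_characteristic L _)
  have hVC : V ≤ normalizer (C : Set G) := by
    apply le_normalizer_of_conj
    intro v hv z hz
    have : v * z * v⁻¹ = z := by
      rw [hVab v hv z hz.1, mul_inv_cancel_right]
    rw [this]; exact hz
  have hLC : Ls ≤ normalizer (C : Set G) := by
    apply le_normalizer_of_conj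
    intro l hl z hz
    exact mem_inf.2 ⟨hVn.conj_mem z hz.1 l, conj_mem_centralizer (hLsY hl) hz.2⟩
  have hCn : C.Normal := normal_of_factor hfac hVC hLC
  rcases hmin C hCn inf_le_left with h0 | h0
  · exact absurd h0 hne
  · have hYc : Y ≤ L ⊓ centralizer (V : Set G) := by
      intro y hy
      refine mem_inf.2 ⟨hYL hy, ?_⟩
      rw [mem_centralizer_iff]
      intro v hv
      have : v ∈ C := by rw [h0]; exact hv
      exact (mem_centralizer_iff.1 this.2 y hy).symm
    rw [hfaith] at hYc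
    have hYbot : Y = ⊥ := eq_bot_iff.2 hYc
    exact (map_eq_bot_iff_of_injective _ L.subtype_injective).1 hYbot

end Cfsg.Agent.Lib.Helper19.BG36
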