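import Mathlib
import Cfsg.Prelude.Def_Local
import Cfsg.Agent.Lib.Helper19.BG36Data
import Cfsg.Agent.Lib.Helper24.HHOdd
import Cfsg.Agent.Lib.Helper24.SylowInv
import Cfsg.Agent.Lib.Helper10.FittingCent
import Cfsg.Agent.Lib.Helper22.Fitting
import Cfsg.Agent.Lib.Helper22.CompSystem
import Cfsg.Agent.Lib.Helper32.FitDer
import Cfsg.Agent.Lib.Helper46.UniqueOrderP
import Cfsg.Agent.Lib.Helper78.TwoFrob4

/-!
# B&G Theorem 3.6, reductions: the complement `L` is a `p'`-group
-/

set_option autoImplicit false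
set_option linter.style.haveILetI false
set_option linter.unusedSectionVars false

namespace Cfsg.Agent.Lib.Helper19.BG36

open Subgroup Cfsg
open scoped commutatorElement

universe u

/-- The statement of "Lemma E" (proved by helper34 / helper22). -/
def LemmaEStmt : Prop :=
  ∀ (X : Type u) [Group X] [Finite X] (p q r : ℕ), p.Prime → q.Prime → r.Prime → p ≠ 2 → r ≠ 2 →
    p ≠ q → p ≠ r → q ≠ r → ∀ (V Q S R0 : Subgroup X), IsPGroup p V →
    (∀ a ∈ V, ∀ b ∈ V, a * b = b * a) → IsPGroup q Q → IsPGroup p S → Nat.card R0 = r →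
    R0 ≤ normalizer (S : Set X) → S ≤ normalizer (Q : Set X) → R0 ≤ normalizer (Q : Set X) →
    Q ≤ normalizer (V : Set X) → S ≤ normalizer (V : Set X) → R0 ≤ normalizer (V : Set X) →
    S ⊓ centralizer (R0 : Set X) = ⊥ → Q ⊓ centralizer (V : Set X) = ⊥ →
    IsCyclic ↥(Q ⊓ centralizer (R0 : Set X)) → IsCyclic ↥(V ⊓ centralizer (R0 : Set X)) →
    S ≤ centralizer (Q : Set X)

variable {G : Type u} [Group G]

theorem centralizer_zpowers_eq (x : G) :
    centralizer ((zpowers x : Subgroup G) : Set G) = centralizer ({x} : Set G) := by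
  apply le_antisymm
  · intro k hk
    rw [mem_centralizer_singleton_iff]
    exact (mem_centralizer_iff.1 hk x (mem_zpowers x)).symm
  · intro k hk
    rw [mem_centralizer_iff]
    rintro _ ⟨n, rfl⟩
    have h1 : Commute k x := mem_centralizer_singleton_iff.1 hk
    exact (h1.zpow_right n).eq.symm

/-- a `q`-subgroup of a subgroup which is a Z-group is cyclic -/
theorem isCyclic_of_le_zgroup {q : ℕ} [Fact q.Prime] {P Z₀ : Subgroup G} [IsZGroup ↥Z₀]
    (hPZ : P ≤ Z₀) (hP : IsPGroup q P) : IsCyclic ↥P := by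
  have h1 : IsPGroup q (P.subgroupOf Z₀) := hP.of_equiv (subgroupOfEquivOfLe hPZ).symm
  haveI : IsCyclic ↥(P.subgroupOf Z₀) := IsPGroup.isCyclic_of_isZGroup h1
  exact isCyclic_of_surjective (subgroupOfEquivOfLe hPZ) (subgroupOfEquivOfLe hPZ).surjective

/-- commutators of elements normalizing a cyclic subgroup centralize it -/
theorem comm_centralizes_cyclic {F : Subgroup G} [IsCyclic ↥F] {a b : G}
    (ha : a ∈ normalizer (F : Set G)) (hb : b ∈ normalizer (F : Set G)) :
    ⁅a, b⁆ ∈ centralizer (F : Set G) := by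
  set N : Subgroup G := normalizer (F : Set G) with hN
  haveI : (F.subgroupOf N).Normal := normal_in_normalizer
  haveI : IsCyclic ↥(F.subgroupOf N) :=
    isCyclic_of_surjective (subgroupOfEquivOfLe (le_normalizer : F ≤ N)).symm
      (subgroupOfEquivOfLe le_normalizer).symm.surjective
  rw [mem_centralizer_iff]
  intro n hn
  have := Cfsg.Agent.Lib.Helper78.TwoFrob.commutator_centralizes_cyclic (F.subgroupOf N)
    (⟨a, ha⟩ : N) ⟨b, hb⟩ (n := ⟨n, le_normalizer hn⟩) (by rw [mem_subgroupOf]; exact hn)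
  have h2 := congrArg Subtype.val this
  simp only [Subgroup.coe_mul, Subgroup.coe_inv] at h2
  rw [commutatorElement_def]
  exact h2.symm

section core
variable [Finite G] [Group.IsSolvable G] {p : ℕ} [hp : Fact p.Prime]
  {H R : Subgroup G} {x : G}

/-- `O_q(L)` as a subgroup of `G` -/
abbrev oq (q : ℕ) (L : Subgroup G) : Subgroup G := (pCore q ↥L).map L.subtype

theorem oq_le (q : ℕ) (L : Subgroup G) : oq q L ≤ L := by
  rintro _ ⟨y, -, rfl⟩
  exact y.2

theorem normalizer_le_normalizer_oq (q : ℕ) (L : Subgroup G) :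
    normalizer (L : Set G) ≤ normalizer ((oq q L : Subgroup G) : Set G) := by
  haveI := Cfsg.Agent.Lib.Helper11.pCore_characteristic' q ↥L
  exact Cfsg.Agent.Lib.Helper24.normalizer_le_normalizer_map_of_characteristic L _

theorem oq_isPGroup (q : ℕ) (L : Subgroup G) : IsPGroup q (oq q L) :=
  (Cfsg.Agent.Lib.Helper63.pCore_isPGroup' q ↥L).map L.subtype

/-- the image of the Fitting subgroup of `L` -/
abbrev fitL (L : Subgroup G) : Subgroup G := (fittingSubgroup ↥L).map L.subtype

theorem fitL_eq_iSup (L : Subgroup G) : fitL L = ⨆ q : Nat.Primes, oq (q : ℕ) L := by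
  unfold fitL oq
  rw [Cfsg.Agent.Lib.Helper22.fittingSubgroup_eq_iSup_pCore, Subgroup.map_iSup]

theorem fitL_le (L : Subgroup G) : fitL L ≤ L := by
  rintro _ ⟨y, -, rfl⟩
  exact y.2

theorem inf_centralizer_fitL_le (L : Subgroup G) :
    L ⊓ centralizer ((fitL L : Subgroup G) : Set G) ≤ fitL L := by
  rintro y ⟨hyL, hyC⟩
  have h1 : (⟨y, hyL⟩ : L) ∈ centralizer ((fittingSubgroup ↥L : Subgroup L) : Set L) := by
    rw [mem_centralizer_iff]
    intro f hf
    apply Subtype.ext
    have := mem_centralizer_iff.1 hyC (f : G) (mem_map_of_mem _ hf)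
    exact this
  have h2 := Cfsg.Agent.Lib.Helper10.centralizer_fitting_le h1
  exact ⟨⟨y, hyL⟩, h2, rfl⟩

theorem card_fitL (L : Subgroup G) : Nat.card (fitL L) = Nat.card (fittingSubgroup ↥L) :=
  Nat.card_congr ((fittingSubgroup ↥L).equivMapOfInjective L.subtype L.subtype_injective).symm.toEquiv

end core

end Cfsg.Agent.Lib.Helper19.BG36
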