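import Mathlib
import Cfsg.Prelude.Def_Local
import Cfsg.Agent.Lib.Helper19.BG36Core

/-!
# B&G Theorem 3.6, reductions: the two cases
-/

set_option autoImplicit false
set_option linter.style.haveILetI false
set_option linter.unusedSectionVars false

namespace Cfsg.Agent.Lib.Helper19.BG36

open Subgroup Cfsg
open scoped commutatorElement

universe u

variable {G : Type u} [Group G] [Finite G] [Group.IsSolvable G] {p : ℕ} [hp : Fact p.Prime]
  {H R : Subgroup G} {x : G}

/-- basic arithmetic facts -/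
theorem Cfg.not_dvd_card_of_le (c : Cfg H R x) {K : Subgroup G} (hK : K ≤ H) :
    ¬ orderOf x ∣ Nat.card K := by
  intro h
  have h1 := c.coprime_orderOf hK
  have h2 : orderOf x ∣ Nat.gcd (Nat.card K) (orderOf x) := Nat.dvd_gcd h dvd_rfl
  rw [h1] at h2
  exact c.xr.one_lt.ne' (Nat.dvd_one.1 h2)

theorem ne_two_of_dvd_odd {n q : ℕ} (hodd : Odd n) (hq : q ∣ n) : q ≠ 2 := by
  rintro rfl
  exact (Nat.not_even_iff_odd.2 hodd) (even_iff_two_dvd.2 hq)

/-- **Case A**: `x` acts fixed point freely on `V`. -/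
theorem caseA (hodd : Odd (Nat.card G)) (c : Cfg H R x) (V L : Subgroup G) [hVn : V.Normal]
    (hVab : ∀ a ∈ V, ∀ b ∈ V, a * b = b * a) (hVexp : ∀ v ∈ V, v ^ p = 1)
    (d : LData p H R V L) (hpr : p ≠ orderOf x)
    (hA : V ⊓ centralizer ({x} : Set G) = ⊥) : ¬ p ∣ Nat.card L := by
  have hxL : x ∈ normalizer (L : Set G) := d.RL c.xR
  have hr := c.xr
  haveI hVcomm : IsMulCommutative V := ⟨⟨fun a b => Subtype.ext (hVab a a.2 b b.2)⟩⟩
  have hxV : x ∈ normalizer (V : Set G) := by rw [normalizer_eq_top V]; exact mem_top x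
  have hfix : ∀ v ∈ V, x * v = v * x → v = 1 := by
    intro v hv hxv
    have : v ∈ V ⊓ centralizer ({x} : Set G) :=
      mem_inf.2 ⟨hv, mem_centralizer_singleton_iff.2 hxv.symm⟩
    rw [hA, mem_bot] at this
    exact this
  -- x centralizes each O_q(L)
  have hOq : ∀ q : Nat.Primes, oq (q : ℕ) L ≤ centralizer ({x} : Set G) := by
    intro q
    by_cases hqp : (q : ℕ) = p
    · have : oq (q : ℕ) L = ⊥ := by
        unfold oq; rw [hqp, d.core, Subgroup.map_bot]
      rw [this]; exact bot_le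
    · have hxK : x ∈ normalizer ((oq (q : ℕ) L : Subgroup G) : Set G) :=
        normalizer_le_normalizer_oq _ L hxL
      have hKV : oq (q : ℕ) L ≤ normalizer (V : Set G) := by
        rw [normalizer_eq_top V]; exact le_top
      have hKodd : Odd (Nat.card (oq (q : ℕ) L)) :=
        Odd.of_dvd_nat hodd (card_subgroup_dvd_card _)
      have hKp : ¬ p ∣ Nat.card (oq (q : ℕ) L) := by
        haveI : Fact (q : ℕ).Prime := ⟨q.2⟩
        obtain ⟨k, hk⟩ := IsPGroup.iff_card.1 (oq_isPGroup (q : ℕ) L)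
        rw [hk]
        intro h
        have := (Nat.prime_dvd_prime_iff_eq hp.out q.2).1 (hp.out.dvd_of_dvd_pow h)
        exact hqp this.symm
      have hKr : ¬ orderOf x ∣ Nat.card (oq (q : ℕ) L) :=
        c.not_dvd_card_of_le ((oq_le _ L).trans d.LH)
      have h1 := Cfsg.Agent.Lib.Helper24.HH.hh_transfer_odd hp.out hr hpr V (oq (q : ℕ) L) hVcomm
        hVexp x hxV hxK (pow_orderOf_eq_one x) hfix hKV hKodd hKp hKr
      have h2 : ⁅zpowers x, oq (q : ℕ) L⁆ ≤ oq (q : ℕ) L := by
        rw [commutator_comm]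
        exact Cfsg.Agent.Lib.Helper24.commutator_le_of_le_normalizer _ _ (zpowers_le.2 hxK)
      have h3 : ⁅zpowers x, oq (q : ℕ) L⁆ ≤ L ⊓ centralizer (V : Set G) :=
        le_inf (h2.trans (oq_le _ L)) h1
      rw [d.faith] at h3
      intro k hk
      rw [mem_centralizer_singleton_iff]
      have h4 : ⁅x, k⁆ ∈ (⊥ : Subgroup G) := h3 (commutator_mem_commutator (mem_zpowers x) hk)
      rw [mem_bot, commutatorElement_def] at h4
      calc k * x = (x * k * x⁻¹ * k⁻¹)⁻¹ * (x * k) := by group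
        _ = x * k := by rw [h4]; simp
  have hFx : fitL L ≤ centralizer ({x} : Set G) := by
    rw [fitL_eq_iSup]; exact iSup_le hOq
  -- F(L) is cyclic
  set Z₀ : Subgroup G := H ⊓ centralizer ({x} : Set G) with hZ₀
  haveI := c.zg
  have hFZ : fitL L ≤ Z₀ := le_inf ((fitL_le L).trans d.LH) hFx
  haveI : IsZGroup ↥(fitL L) :=
    IsZGroup.of_injective (f := Subgroup.inclusion hFZ) (Subgroup.inclusion_injective hFZ)
  haveI : Group.IsNilpotent ↥(fitL L) := by
    have e := (fittingSubgroup ↥L).equivMapOfInjective L.subtype L.subtype_injective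
    haveI := Cfsg.Agent.Lib.Helper22.fittingSubgroup_isNilpotent (G := ↥L)
    exact (Group.isNilpotent_congr e).1 inferInstance
  haveI : IsCyclic ↥(fitL L) := inferInstance
  -- [L, R] centralizes F(L)
  haveI := Cfsg.Agent.Lib.Helper22.fittingSubgroup_characteristic (G := ↥L)
  have hNF : normalizer (L : Set G) ≤ normalizer ((fitL L : Subgroup G) : Set G) :=
    Cfsg.Agent.Lib.Helper24.normalizer_le_normalizer_map_of_characteristic L _
  have hLR : ⁅L, R⁆ ≤ centralizer ((fitL L : Subgroup G) : Set G) := by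
    rw [commutator_le]
    intro l hl ρ hρ
    exact comm_centralizes_cyclic (hNF (le_normalizer hl)) (hNF (d.RL hρ))
  have hLF : L ≤ fitL L := by
    have : L ≤ L ⊓ centralizer ((fitL L : Subgroup G) : Set G) := by
      apply le_inf le_rfl
      have h5 := d.comm
      rw [h5] at hLR
      exact hLR
    exact this.trans (inf_centralizer_fitL_le L)
  have hcard : Nat.card L = Nat.card (fittingSubgroup ↥L) := by
    rw [← card_fitL L]
    exact le_antisymm (Nat.le_of_dvd Nat.card_pos (card_dvd_of_le hLF))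
      (Nat.le_of_dvd Nat.card_pos (card_dvd_of_le (fitL_le L)))
  have hcop := Cfsg.Agent.Lib.Helper22.fitting_card_coprime_of_pCore_eq_bot p d.core
  rw [hcard]
  intro h
  have h2 : p ∣ Nat.gcd (Nat.card (fittingSubgroup ↥L)) p := Nat.dvd_gcd h dvd_rfl
  rw [hcop] at h2
  exact hp.out.one_lt.ne' (Nat.dvd_one.1 h2)

/-- **Case B**: `x` has fixed points on `V`. -/
theorem caseB (hE : LemmaEStmt.{u}) (hodd : Odd (Nat.card G)) (c : Cfg H R x) (V L : Subgroup G)
    [hVn : V.Normal] (hVp : IsPGroup p V)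
    (hVab : ∀ a ∈ V, ∀ b ∈ V, a * b = b * a) (hVexp : ∀ v ∈ V, v ^ p = 1)
    (d : LData p H R V L) (hpr : p ≠ orderOf x) (hp2 : p ≠ 2)
    (hB : V ⊓ centralizer ({x} : Set G) ≠ ⊥) : ¬ p ∣ Nat.card L := by
  intro hdvd
  have hxL : x ∈ normalizer (L : Set G) := d.RL c.xR
  have hr := c.xr
  have hXL : zpowers x ≤ normalizer (L : Set G) := zpowers_le.2 hxL
  have hcopXL : (Nat.card (zpowers x)).Coprime (Nat.card L) := by
    rw [Nat.card_zpowers]; exact (c.coprime_orderOf d.LH).symm
  obtain ⟨P, hP⟩ := Cfsg.Agent.Lib.Helper24.exists_invariant_sylow (p := p) (zpowers x) L hXL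
    hcopXL (Or.inr inferInstance)
  set S : Subgroup G := (P : Subgroup ↥L).map L.subtype with hS
  have hSp : IsPGroup p S := P.isPGroup'.map L.subtype
  have hSL : S ≤ L := by
    rintro _ ⟨y, -, rfl⟩
    exact y.2
  have hP1 : (P : Subgroup ↥L) ≠ ⊥ := P.ne_bot_of_dvd_card hdvd
  set Z₀ : Subgroup G := H ⊓ centralizer ({x} : Set G) with hZ₀
  haveI := c.zg
  have hnV : ∀ K : Subgroup G, K ≤ normalizer (V : Set G) := by
    intro K; rw [normalizer_eq_top V]; exact le_top
  -- B1
  have hB1 : S ⊓ centralizer ({x} : Set G) = ⊥ := by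
    by_contra hD
    set D : Subgroup G := S ⊓ centralizer ({x} : Set G) with hDdef
    have hDp : IsPGroup p D := hSp.to_le inf_le_left
    have hpD : p ∣ Nat.card D := by
      rcases hDp.card_eq_or_dvd with h1 | h1
      · exact absurd (card_eq_one.1 h1) hD
      · exact h1
    obtain ⟨s', hs'⟩ := exists_prime_orderOf_dvd_card' (G := ↥D) p hpD
    set s : G := (s' : G) with hs
    have hsD : s ∈ D := s'.2
    have hso : orderOf s = p := by rw [hs, Subgroup.orderOf_coe]; exact hs'
    set C : Subgroup G := V ⊓ centralizer ({x} : Set G) with hCdef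
    obtain ⟨v, hv1⟩ := (ne_bot_iff_exists_ne_one).1 hB
    have hsx : s * x = x * s := mem_centralizer_singleton_iff.1 hsD.2
    have hsC : zpowers s ≤ normalizer (C : Set G) := by
      apply le_normalizer_of_conj
      intro f hf w hw
      refine mem_inf.2 ⟨hVn.conj_mem w hw.1 f, ?_⟩
      have hfx : f ∈ centralizer ({x} : Set G) := by
        have : zpowers s ≤ centralizer ({x} : Set G) := zpowers_le.2 hsD.2
        exact this hf
      exact (centralizer ({x} : Set G)).mul_mem ((centralizer ({x} : Set G)).mul_mem hfx hw.2)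
        ((centralizer ({x} : Set G)).inv_mem hfx)
    have hzs : IsPGroup p (zpowers s) := hSp.to_le (zpowers_le.2 hsD.1)
    have hCp : IsPGroup p C := hVp.to_le inf_le_left
    have hWp : IsPGroup p (zpowers s ⊔ C : Subgroup G) := hzs.to_sup_of_normal_right' hCp hsC
    set W : Subgroup G := zpowers s ⊔ C with hW
    have hWZ : W ≤ Z₀ := by
      apply sup_le
      · exact zpowers_le.2 (mem_inf.2 ⟨d.LH (hSL hsD.1), hsD.2⟩)
      · exact inf_le_inf d.VH le_rfl
    haveI : IsCyclic ↥W := isCyclic_of_le_zgroup hWZ hWp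
    have hvW : (v : G) ∈ W := mem_sup_right v.2
    have hsW : s ∈ W := mem_sup_left (mem_zpowers s)
    haveI : Nontrivial ↥W :=
      ⟨⟨⟨(v : G), hvW⟩, 1, fun h => hv1 (Subtype.ext (by
        have := congrArg (fun t : ↥W => (t : G)) h
        simpa using this))⟩⟩
    obtain ⟨z, hz, hall⟩ := Cfsg.Agent.Lib.Helper46.cyclic_unique_order_p (T := ↥W) hWp
    have hvz : (⟨(v : G), hvW⟩ : W) ∈ zpowers z := by
      apply hall
      apply Subtype.ext
      simp only [Subgroup.coe_pow, Subgroup.coe_one]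
      exact hVexp _ v.2.1
    have hsz : (⟨s, hsW⟩ : W) ∈ zpowers z := by
      apply hall
      apply Subtype.ext
      simp only [Subgroup.coe_pow, Subgroup.coe_one]
      rw [← hso]; exact pow_orderOf_eq_one s
    have hcardz : Nat.card (zpowers z) = p := by rw [Nat.card_zpowers, hz]
    have htop := zpowers_eq_top_of_prime_card (G := ↥(zpowers z)) hcardz
      (g := ⟨⟨(v : G), hvW⟩, hvz⟩) (by
        intro h
        apply hv1
        apply Subtype.ext
        have := congrArg (fun t : ↥(zpowers z) => ((t : W) : G)) h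
        simpa using this)
    have hmem : (⟨⟨s, hsW⟩, hsz⟩ : ↥(zpowers z)) ∈ zpowers (⟨⟨(v : G), hvW⟩, hvz⟩ : ↥(zpowers z)) := by
      rw [htop]; exact mem_top _
    obtain ⟨k, hk⟩ := hmem
    have hk' : (v : G) ^ k = s := by
      have := congrArg (fun t : ↥(zpowers z) => ((t : W) : G)) hk
      simpa using this
    have hsV : s ∈ V := by
      rw [← hk']; exact V.zpow_mem v.2.1 k
    have : s ∈ V ⊓ L := ⟨hsV, hSL hsD.1⟩
    rw [d.VL, mem_bot] at this
    rw [this, orderOf_one] at hso
    exact hp.out.one_lt.ne hso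
  -- B2
  have hr2 : orderOf x ≠ 2 := ne_two_of_dvd_odd hodd (orderOf_dvd_natCard x)
  have hB2 : ∀ q : Nat.Primes, S ≤ centralizer ((oq (q : ℕ) L : Subgroup G) : Set G) := by
    intro q
    by_cases hqp : (q : ℕ) = p
    · have : oq (q : ℕ) L = ⊥ := by
        unfold oq; rw [hqp, d.core, Subgroup.map_bot]
      rw [this]
      intro s _
      rw [mem_centralizer_iff]
      intro y hy
      rw [coe_bot, Set.mem_singleton_iff] at hy
      rw [hy]; simp
    by_cases hq1 : oq (q : ℕ) L = ⊥
    · rw [hq1]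
      intro s _
      rw [mem_centralizer_iff]
      intro y hy
      rw [coe_bot, Set.mem_singleton_iff] at hy
      rw [hy]; simp
    haveI : Fact (q : ℕ).Prime := ⟨q.2⟩
    have hQp := oq_isPGroup (q : ℕ) L
    have hqr : (q : ℕ) ≠ orderOf x := by
      intro h
      have hqd : (q : ℕ) ∣ Nat.card (oq (q : ℕ) L) := by
        rcases hQp.card_eq_or_dvd with h1 | h1
        · exact absurd (card_eq_one.1 h1) hq1
        · exact h1
      rw [h] at hqd
      exact c.not_dvd_card_of_le ((oq_le _ L).trans d.LH) hqd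
    have hxQ : zpowers x ≤ normalizer ((oq (q : ℕ) L : Subgroup G) : Set G) :=
      zpowers_le.2 (normalizer_le_normalizer_oq _ L hxL)
    have hSQ : S ≤ normalizer ((oq (q : ℕ) L : Subgroup G) : Set G) :=
      (hSL.trans le_normalizer).trans (normalizer_le_normalizer_oq _ L)
    refine hE G p q (orderOf x) hp.out q.2 hr hp2 hr2 (fun h => hqp h.symm) hpr hqr V
      (oq (q : ℕ) L) S (zpowers x) hVp hVab hQp hSp (Nat.card_zpowers x) hP hSQ hxQ (hnV _) (hnV _)
      (hnV _) ?_ ?_ ?_ ?_
    · rw [centralizer_zpowers_eq]; exact hB1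
    · rw [eq_bot_iff, ← d.faith]
      exact inf_le_inf (oq_le _ L) le_rfl
    · rw [centralizer_zpowers_eq]
      exact isCyclic_of_le_zgroup (Z₀ := Z₀) (inf_le_inf ((oq_le _ L).trans d.LH) le_rfl)
        (hQp.to_le inf_le_left)
    · rw [centralizer_zpowers_eq]
      exact isCyclic_of_le_zgroup (Z₀ := Z₀) (inf_le_inf d.VH le_rfl) (hVp.to_le inf_le_left)
  -- B3
  obtain ⟨s, hs1⟩ := (ne_bot_iff_exists_ne_one).1 hP1
  have hsS : ((s : ↥L) : G) ∈ S := mem_map_of_mem _ s.2
  have hcent : (s : ↥L) ∈ centralizer ((fittingSubgroup ↥L : Subgroup ↥L) : Set ↥L) := by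
    apply Cfsg.Agent.Lib.Helper32.FitDer.mem_centralizer_fitting_of_forall
    intro q
    rw [mem_centralizer_iff]
    intro f hf
    apply Subtype.ext
    have hfG : (f : G) ∈ oq (q : ℕ) L := mem_map_of_mem _ hf
    exact mem_centralizer_iff.1 (hB2 q hsS) _ hfG
  have hsF := Cfsg.Agent.Lib.Helper10.centralizer_fitting_le hcent
  have hcop := Cfsg.Agent.Lib.Helper22.fitting_card_coprime_of_pCore_eq_bot p d.core
  obtain ⟨k, hk⟩ := P.isPGroup' s
  have h1 : orderOf (s : ↥L) ∣ p ^ k := by
    apply orderOf_dvd_of_pow_eq_one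
    have := congrArg Subtype.val hk
    simpa using this
  have h2 : orderOf (s : ↥L) ∣ Nat.card (fittingSubgroup ↥L) := by
    have := orderOf_dvd_natCard (⟨(s : ↥L), hsF⟩ : fittingSubgroup ↥L)
    rwa [Subgroup.orderOf_mk] at this
  have h3 : orderOf (s : ↥L) ∣ 1 := by
    have := Nat.dvd_gcd h2 h1
    rwa [Nat.Coprime.pow_right k hcop] at this
  have : (s : ↥L) = 1 := orderOf_eq_one_iff.1 (Nat.dvd_one.1 h3)
  exact hs1 (Subtype.ext this)

end Cfsg.Agent.Lib.Helper19.BG36
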