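import Mathlib
import Cfsg.Prelude.Def_Local
import Cfsg.Agent.Lib.Helper19.BG36Cases
import Cfsg.Agent.Lib.Helper1.Basic
import Cfsg.Agent.Lib.Helper10.MinNormal

/-!
# B&G Theorem 3.6, reductions: the induction step and the induction
-/

set_option autoImplicit false
set_option linter.style.haveILetI false
set_option linter.unusedSectionVars false

namespace Cfsg.Agent.Lib.Helper19.BG36

open Subgroup Cfsg
open scoped commutatorElement

universe u

/-- **The induction step.** -/
theorem step (hE : LemmaEStmt.{u}) {G : Type u} [Group G] [Finite G] [Group.IsSolvable G]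
    (hodd : Odd (Nat.card G)) {p : ℕ} [hp : Fact p.Prime] (ih : IHyp.{u} p (Nat.card G)) :
    Concl p G := by
  intro H R x c
  haveI := c.hn
  by_cases hH : H = ⊥
  · subst hH; exact serOver_bot_of_bot p
  obtain ⟨V, hVn, hV1, hVH, hVmin⟩ := Cfsg.Agent.Lib.Helper10.exists_minimal_normal_le H hH
  haveI := hVn
  obtain ⟨ℓ, E, hℓ, hEV, hEn, hE1, hEc, hEexp⟩ :=
    Cfsg.Agent.Lib.Helper1.exists_normal_elementary_le V inferInstance hV1
  have hEV' : E = V := (hVmin E hEn hEV).resolve_left hE1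
  subst hEV'
  have hser := c.serOver_quot hodd ih E hVH hV1
  haveI : Fact ℓ.Prime := ⟨hℓ⟩
  have hEℓ : IsPGroup ℓ E := by
    intro g
    refine ⟨1, ?_⟩
    apply Subtype.ext
    simpa using hEexp g g.2
  by_cases hℓp : ℓ = p
  swap
  · apply serOver_bot_of_coprime hser
    obtain ⟨k, hk⟩ := IsPGroup.iff_card.1 hEℓ
    rw [hk]
    exact Nat.Coprime.pow_left k ((Nat.coprime_primes hℓ hp.out).2 hℓp)
  subst hℓp
  have hVab : ∀ a ∈ E, ∀ b ∈ E, a * b = b * a := by
    intro a ha b hb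
    have := mul_comm' (⟨a, ha⟩ : E) ⟨b, hb⟩
    exact congrArg Subtype.val this
  by_cases hex : ∃ N : Subgroup G, N.Normal ∧ N ≤ H ∧ N ≠ ⊥ ∧ N ⊓ E = ⊥
  · obtain ⟨N, hNn, hNH, hN1, hNV⟩ := hex
    haveI := hNn
    exact serOver_bot_of_inf_eq_bot (c.serOver_quot hodd ih N hNH hN1) hser hNV
  have huniq : ∀ N : Subgroup G, N.Normal → N ≤ H → N ≠ ⊥ → E ≤ N := by
    intro N hNn hNH hN1
    by_contra hVN
    apply hex
    refine ⟨N, hNn, hNH, hN1, ?_⟩
    haveI := hNn
    rcases hVmin (N ⊓ E) inferInstance inf_le_right with h | h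
    · exact h
    · exfalso
      apply hVN
      rw [← h]; exact inf_le_left
  -- arithmetic
  have hpE : ℓ ∣ Nat.card E := by
    rcases hEℓ.card_eq_or_dvd with h1 | h1
    · exact absurd (card_eq_one.1 h1) hV1
    · exact h1
  have hp2 : ℓ ≠ 2 := ne_two_of_dvd_odd hodd (hpE.trans (card_subgroup_dvd_card _))
  have hpr : ℓ ≠ orderOf x := by
    intro h
    rw [h] at hpE
    exact c.not_dvd_card_of_le hVH hpE
  obtain ⟨A, B, hAn, hBn, hVA, hAB, hBH, h1, h2, h3⟩ := hser
  by_cases hAV : A ≤ E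
  · refine ⟨⊥, B, inferInstance, hBn, le_rfl, bot_le, hBH, ?_, ?_, h3⟩
    · intro a ha; exact ⟨1, Nat.coprime_one_left ℓ, by simpa using ha⟩
    · intro b hb
      obtain ⟨m, hm⟩ := h2 b hb
      have hbV : b ^ ℓ ^ m ∈ E := hAV hm
      refine ⟨m + 1, ?_⟩
      rw [pow_succ, pow_mul, mem_bot]; exact hEexp _ hbV
  -- the complement
  haveI := hAn
  have hcopT : (E.relIndex A).Coprime ℓ := by
    rw [relIndex, index_eq_card]
    apply Cfsg.Agent.Lib.Helper63.card_coprime_of_forall
    intro y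
    induction y using QuotientGroup.induction_on with
    | H a =>
      obtain ⟨n, hn, han⟩ := h1 (a : G) a.2
      refine ⟨n, hn, ?_⟩
      rw [← QuotientGroup.mk_pow, QuotientGroup.eq_one_iff, mem_subgroupOf]
      simpa using han
  obtain ⟨Ls, hRLs, hVLs, hfac⟩ := exists_complement c E A hVA (hAB.trans hBH) hEℓ hVab hV1 hAV
    hcopT hVmin huniq
  have d := lData_of_complement c E Ls hVH hEℓ hVab hV1 hVmin huniq hRLs hVLs hfac
  set L : Subgroup G := Ls ⊓ H with hL
  have hpL : ¬ ℓ ∣ Nat.card L := by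
    by_cases hA : E ⊓ centralizer ({x} : Set G) = ⊥
    · exact caseA hodd c E L hVab hEexp d hpr hA
    · exact caseB hE hodd c E L hEℓ hVab hEexp d hpr hp2 hA
  refine ⟨⊥, E, inferInstance, hVn, le_rfl, bot_le, hVH, ?_, ?_, ?_⟩
  · intro a ha; exact ⟨1, Nat.coprime_one_left ℓ, by simpa using ha⟩
  · intro b hb
    exact ⟨1, by rw [pow_one, mem_bot]; exact hEexp b hb⟩
  · intro h hh
    obtain ⟨v, hv, l, hl, rfl⟩ := d.fac h hh
    refine ⟨Nat.card L, ?_, ?_⟩
    · exact (Nat.Prime.coprime_iff_not_dvd hp.out).2 hpL |>.symm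
    · rw [← QuotientGroup.eq_one_iff (N := E), QuotientGroup.mk_pow, QuotientGroup.mk_mul,
        (QuotientGroup.eq_one_iff v).2 hv, one_mul, ← QuotientGroup.mk_pow]
      have : l ^ Nat.card L = 1 := by
        have := pow_card_eq_one' (G := L) (x := ⟨l, hl⟩)
        exact congrArg Subtype.val this
      rw [this]; rfl

/-- the induction -/
theorem all (hE : LemmaEStmt.{u}) (p : ℕ) [Fact p.Prime] : ∀ n : ℕ, IHyp.{u} p n := by
  intro n
  induction n using Nat.strong_induction_on with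
  | _ n ih =>
    intro G _ _ _ hlt hodd
    apply step hE hodd
    intro G' _ _ _ hlt' hodd'
    exact ih (Nat.card G) hlt G' hlt' hodd'

theorem concl (hE : LemmaEStmt.{u}) (p : ℕ) [Fact p.Prime] (G : Type u) [Group G] [Finite G]
    [Group.IsSolvable G] (hodd : Odd (Nat.card G)) : Concl p G :=
  all hE p (Nat.card G + 1) G (Nat.lt_succ_self _) hodd

end Cfsg.Agent.Lib.Helper19.BG36
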