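import Mathlib
import Cfsg.Prelude.Def_Local
import Cfsg.Agent.Lib.Helper19.BG36Step
import Cfsg.Agent.Lib.Helper24.SZSolvable
import Cfsg.Agent.Lib.Helper63.PLength

/-!
# B&G Theorem 3.6 from Lemma E: the final packaging in the shape of S1444
-/

set_option autoImplicit false
set_option linter.style.haveILetI false
set_option linter.unusedSectionVars false

namespace Cfsg.Agent.Lib.Helper19.BG36

open Subgroup Cfsg

universe u

/-- B&G Theorem 3.6 in the shape of S1444, from Lemma E. -/
theorem final (hE : LemmaEStmt.{u}) {G : Type u} [Group G] [Finite G] [Group.IsSolvable G]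
    (hodd : Odd (Nat.card G)) (H R R₀ : Subgroup G) [hHn : H.Normal]
    (hHall : (Nat.card H).Coprime H.index) (hR : IsComplement' H R) (hR₀ : R₀ ≤ R)
    (hR₀p : (Nat.card R₀).Prime) (hZ : IsZGroup ↥(H ⊓ centralizer (R₀ : Set G)))
    (p : ℕ) [Fact p.Prime] : PLengthLE p 1 ↥⁅H, R⁆ := by
  classical
  have hcardR : Nat.card R = H.index :=
    Cfsg.Agent.Lib.Helper24.card_eq_index_of_isComplement' H R hR
  have hcop : (Nat.card H).Coprime (Nat.card R) := by rw [hcardR]; exact hHall
  have hRH : R ≤ normalizer (H : Set G) := by rw [normalizer_eq_top H]; exact le_top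
  have hsupHR : H ⊔ R = ⊤ := hR.sup_eq_top
  -- K = [H, R]
  set K : Subgroup G := ⁅H, R⁆ with hK
  have hKH : K ≤ H := commutator_le_left H R
  have hKK : ⁅K, R⁆ = K :=
    Cfsg.Agent.Lib.Helper24.commutator_commutator_eq R H hRH hcop.symm (Or.inl inferInstance)
  have hKn : K.Normal := by
    have h1 : H ≤ normalizer (K : Set G) :=
      Cfsg.Agent.Lib.Helper24.le_normalizer_commutator_left H R
    have h2 : R ≤ normalizer (K : Set G) :=
      Cfsg.Agent.Lib.Helper24.le_normalizer_commutator_right H R hRH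
    have h3 : normalizer (K : Set G) = ⊤ := by
      rw [eq_top_iff, ← hsupHR]; exact sup_le h1 h2
    exact normalizer_eq_top_iff.1 h3
  -- the generator x of R₀
  haveI : Fact (Nat.card R₀).Prime := ⟨hR₀p⟩
  haveI : IsCyclic ↥R₀ := isCyclic_of_prime_card rfl
  obtain ⟨g, hg⟩ := IsCyclic.exists_generator (α := ↥R₀)
  set x : G := (g : G) with hx
  have hxR₀ : x ∈ R₀ := g.2
  have hxR : x ∈ R := hR₀ hxR₀
  have hR₀x : R₀ = zpowers x := by
    apply le_antisymm
    · intro y hy
      obtain ⟨k, hk⟩ := mem_zpowers_iff.1 (hg ⟨y, hy⟩)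
      refine mem_zpowers_iff.2 ⟨k, ?_⟩
      have := congrArg Subtype.val hk
      simpa using this
    · exact (zpowers_le).2 hxR₀
  have hox : orderOf x = Nat.card R₀ := by
    rw [hx, Subgroup.orderOf_coe]
    exact orderOf_eq_card_of_forall_mem_zpowers hg
  have hcent : centralizer (R₀ : Set G) = centralizer ({x} : Set G) := by
    rw [hR₀x]; exact centralizer_zpowers_eq x
  -- pass to T = K ⊔ R
  set T : Subgroup G := K ⊔ R with hT
  have hKT : K ≤ T := le_sup_left
  have hRT : R ≤ T := le_sup_right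
  have hxT : x ∈ T := hRT hxR
  set K₁ : Subgroup ↥T := K.subgroupOf T with hK₁
  set R₁ : Subgroup ↥T := R.subgroupOf T with hR₁
  set x₁ : ↥T := ⟨x, hxT⟩ with hx₁
  have hoddT : Odd (Nat.card ↥T) := Odd.of_dvd_nat hodd (card_subgroup_dvd_card T)
  have hcardK₁ : Nat.card ↥K₁ = Nat.card ↥K :=
    Nat.card_congr (subgroupOfEquivOfLe hKT).toEquiv
  have hcardR₁ : Nat.card ↥R₁ = Nat.card ↥R :=
    Nat.card_congr (subgroupOfEquivOfLe hRT).toEquiv
  have cfg : Cfg K₁ R₁ x₁ := by
    refine ⟨?_, ?_, ?_, ?_, ?_, ?_, ?_⟩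
    · exact hKn.subgroupOf T
    · rw [hcardK₁, hcardR₁]
      exact Nat.Coprime.coprime_dvd_left (card_dvd_of_le hKH) hcop
    · rw [hK₁, hR₁, ← subgroupOf_sup hKT hRT, subgroupOf_self]
    · exact mem_subgroupOf.2 hxR
    · have : orderOf x₁ = orderOf x := by
        rw [hx₁]; exact (Subgroup.orderOf_mk x hxT)
      rw [this, hox]; exact hR₀p
    · -- Z-group
      haveI := hZ
      let φ : ↥(K₁ ⊓ centralizer ({x₁} : Set ↥T)) →* ↥(H ⊓ centralizer (R₀ : Set G)) :=
        { toFun := fun y => ⟨((y : ↥T) : G), by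
            have hy1 : (y : ↥T) ∈ K₁ := y.2.1
            have hy2 : (y : ↥T) ∈ centralizer ({x₁} : Set ↥T) := y.2.2
            refine mem_inf.2 ⟨hKH (mem_subgroupOf.1 hy1), ?_⟩
            rw [hcent, mem_centralizer_singleton_iff]
            have := mem_centralizer_singleton_iff.1 hy2
            have := congrArg Subtype.val this
            simpa [hx₁] using this⟩
          map_one' := by apply Subtype.ext; simp
          map_mul' := fun a b => by apply Subtype.ext; simp }
      have hφ : Function.Injective φ := by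
        intro a b hab
        have := congrArg Subtype.val hab
        apply Subtype.ext; apply Subtype.ext
        exact this
      exact IsZGroup.of_injective hφ
    · -- [K₁, R₁] = K₁
      apply map_injective T.subtype_injective
      rw [map_commutator, hK₁, hR₁, map_subgroupOf_eq_of_le hKT, map_subgroupOf_eq_of_le hRT, hKK]
  have hser : SerOver p ⊥ K₁ := concl hE p ↥T hoddT K₁ R₁ x₁ cfg
  have hpl : PLengthLE p 1 ↥K₁ := pLengthLE_of_serOver_bot hser
  exact Cfsg.Agent.Lib.Helper63.pLengthLE_of_surjective hpl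
    (subgroupOfEquivOfLe hKT).toMonoidHom (subgroupOfEquivOfLe hKT).surjective

end Cfsg.Agent.Lib.Helper19.BG36
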