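import Cfsg.Agent.Lib.Helper19.BG124
import Cfsg.Agent.Lib.Helper32.BG123
import Cfsg.Agent.Lib.Helper47.BG11e

set_option autoImplicit false
set_option linter.style.haveILetI false
set_option linter.unusedSectionVars false

/-!
# Bender–Glauberman Proposition 12.4 from B&G 11.7 alone

`stmt123_of_117` : Lemma 12.3 (helper32) with 11.4 (helper47) plugged in;
`bg124_of_117` : Proposition 12.4 (= S1416) from `Stmt117 G` (B&G Theorem 11.7).
-/

namespace Cfsg.Agent.Lib.Helper19.BG124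

open Subgroup Cfsg Cfsg.Agent.Lib.Helper47.BG11 Cfsg.Agent.Lib.Helper32.BG12

universe u

variable {G : Type u} [Group G] [Finite G]

theorem stmt114 (hG : IsMinSimpleOddOrder G) : Stmt114 G :=
  fun e _ hH hAH hne => e.bg_11_4 hG hH hAH hne

theorem stmt123_of_117 (hG : IsMinSimpleOddOrder G) (h117 : Stmt117 G) : Stmt123 G := by
  intro M Ms hM hMs hne p _ A A0 h1 h2 h3 h4 h5 h6
  have h := lemma_12_3 hG (stmt114 hG) h117 M Ms hM hMs hne p A A0 h1 h2 h3 h4 h5 h6
  refine ⟨fun hp x hx => ?_, fun hp x hx => ?_⟩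
  · rw [mem_centralizer_iff]
    intro a ha
    exact h.1 hp x hx a ha
  · rw [mem_centralizer_iff]
    intro a ha
    exact h.2 hp x hx a ha

theorem bg124_of_117 (hG : IsMinSimpleOddOrder G) (h117 : Stmt117 G)
    (M : Subgroup G) (hM : IsCoatom M) (p : ℕ) [Fact p.Prime] (A : Subgroup G)
    (hA : (A ≤ M ∧ Cfsg.IsElementaryAbelian p A ∧ Nat.card A = p ^ 2)) :
    Subgroup.centralizer (A : Set G) ≤ M ∧
      ((∀ A₀ : Subgroup G, A₀ ≤ A → Nat.card A₀ = p →
          ¬ (Subgroup.normalizer (A₀ : Set G) ≤ M ∧ ∀ L : Subgroup G, IsCoatom L →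
            Subgroup.normalizer (A₀ : Set G) ≤ L → L = M)) →
        p ∈ Cfsg.sigma M ∧ Cfsg.alphaCore M = ⊥ ∧ Group.IsNilpotent (Cfsg.sigmaCore M)) :=
  bg124 hG (stmt123_of_117 hG h117) M hM p A hA

end Cfsg.Agent.Lib.Helper19.BG124
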