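import Cfsg.Agent.Lib.Helper19.BG117R2
import Cfsg.Agent.Lib.Helper56.BG117R

set_option autoImplicit false

/-!
# Bender–Glauberman Theorem 11.7

`stmt117 hG : Stmt117 G` : for exceptional data `(M, p, A₀, A)`, `M_σ A` is normal in `M`.
Assembly of `hstar'` (key step), helper56's `hcent` and `r2_of_cent`.
`bg124_main` : Proposition 12.4 (= S1416), unconditionally.
-/

namespace Cfsg.Agent.Lib.Helper19.BG117

open Subgroup Cfsg Cfsg.Agent.Lib.Helper47.BG11 Cfsg.Agent.Lib.Helper32.BG12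

universe u

variable {G : Type u} [Group G] [Finite G]

/-- **B&G Theorem 11.7.** -/
theorem stmt117 (hG : IsMinSimpleOddOrder G) : Stmt117 G :=
  fun e => r2_of_cent hG e
    (Cfsg.Agent.Lib.Helper56.BG117.hcent hG e (Cfsg.Agent.Lib.Helper19.BG124.sigmaHallIn hG e.coatom)
      (e.bg_11_6_c hG) (hstar' hG e))

/-- **B&G Theorem 11.7**, explicit form. -/
theorem bg_11_7 (hG : IsMinSimpleOddOrder G) {M A₀ A : Subgroup G} {p : ℕ} [Fact p.Prime]
    (e : Exc M p A₀ A) : M ≤ normalizer ((sigmaCore M ⊔ A : Subgroup G) : Set G) :=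
  stmt117 hG e

/-- **B&G Proposition 12.4** (= S1416). -/
theorem bg124_main (hG : IsMinSimpleOddOrder G)
    (M : Subgroup G) (hM : IsCoatom M) (p : ℕ) [Fact p.Prime] (A : Subgroup G)
    (hA : (A ≤ M ∧ Cfsg.IsElementaryAbelian p A ∧ Nat.card A = p ^ 2)) :
    Subgroup.centralizer (A : Set G) ≤ M ∧
      ((∀ A₀ : Subgroup G, A₀ ≤ A → Nat.card A₀ = p →
          ¬ (Subgroup.normalizer (A₀ : Set G) ≤ M ∧ ∀ L : Subgroup G, IsCoatom L →
            Subgroup.normalizer (A₀ : Set G) ≤ L → L = M)) →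
        p ∈ Cfsg.sigma M ∧ Cfsg.alphaCore M = ⊥ ∧ Group.IsNilpotent (Cfsg.sigmaCore M)) :=
  Cfsg.Agent.Lib.Helper19.BG124.bg124_of_117 hG (stmt117 hG) M hM p A hA

end Cfsg.Agent.Lib.Helper19.BG117
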