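import Cfsg.Agent.Lib.Helper19.BG124b
import Cfsg.Agent.Lib.Helper24.RelSZ

set_option autoImplicit false
set_option linter.style.haveILetI false
set_option linter.unusedSectionVars false

/-!
# Bender–Glauberman Proposition 12.4, part C: `p ∈ σ(M)` under the non-uniqueness hypothesis
-/

namespace Cfsg.Agent.Lib.Helper19.BG124

open Subgroup Cfsg Cfsg.Agent.Lib.Helper33 Cfsg.Agent.Lib.Helper24 Cfsg.Agent.Lib.Helper32
open Cfsg.Agent.Lib.Helper24.BG Cfsg.Agent.Lib.Helper23 Cfsg.Agent.Lib.Helper63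
open Cfsg.Agent.Lib.Helper47.BG11

universe u

variable {G : Type u} [Group G] [Finite G]

/-- a Sylow subgroup of `G` has a complement in its normalizer (Schur–Zassenhaus) -/
theorem exists_isComplIn_normalizer {p : ℕ} [hp : Fact p.Prime] (P : Sylow p G) :
    ∃ V : Subgroup G, IsComplIn (P : Subgroup G) V (normalizer ((P : Subgroup G) : Set G)) := by
  have hcop : (Nat.card (P : Subgroup G)).Coprime
      ((P : Subgroup G).relIndex (normalizer ((P : Subgroup G) : Set G))) := by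
    obtain ⟨n, hn⟩ := IsPGroup.iff_card.mp P.2
    rw [hn]
    refine Nat.Coprime.pow_left n ((Nat.Prime.coprime_iff_not_dvd hp.out).mpr ?_)
    intro h
    exact P.not_dvd_index (dvd_trans h (Subgroup.relIndex_dvd_index_of_le le_normalizer))
  obtain ⟨B, hBN, -, hBP, hsup⟩ := rel_sz_exists (P : Subgroup G) _ le_normalizer le_rfl hcop
  refine ⟨B, le_normalizer, hBN, by rw [inf_comm]; exact hBP, ?_⟩
  intro m hm
  rw [← hsup, sup_comm] at hm
  have h1 : m ∈ ((((P : Subgroup G) ⊔ B : Subgroup G)) : Set G) := hm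
  rw [Subgroup.coe_mul_of_right_le_normalizer_left (P : Subgroup G) B hBN] at h1
  obtain ⟨a, ha, b, hb, hab⟩ := Set.mem_mul.mp h1
  exact ⟨a, ha, b, hb, hab.symm⟩

/-- a finite `p`-group is not a minimal simple group of odd order -/
theorem sylow_ne_top (hG : IsMinSimpleOddOrder G) {p : ℕ} [hp : Fact p.Prime] (P : Sylow p G) :
    (P : Subgroup G) ≠ ⊤ := by
  intro h
  have hGp : IsPGroup p G := by
    intro g
    obtain ⟨k, hk⟩ := P.2 ⟨g, h ▸ mem_top g⟩
    exact ⟨k, by simpa using congrArg Subtype.val hk⟩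
  obtain ⟨hs, hnc, -⟩ := hG.2
  haveI := hs
  haveI : Nontrivial G := IsSimpleGroup.toNontrivial
  have hc := hGp.center_nontrivial
  have hbot := BG10.center_eq_bot hG
  rw [hbot] at hc
  exact not_nontrivial _ hc

namespace NU

variable {M A : Subgroup G} {p : ℕ} [hp : Fact p.Prime]

/-- **B&G 12.4(b)**, the main point: `p ∈ σ(M)`. -/
theorem mem_sigma (hG : IsMinSimpleOddOrder G) (h123 : Stmt123 G) (e : NU M p A) :
    p ∈ sigma M := by
  by_contra hσp
  have hσ := sigmaHallIn hG e.coatom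
  -- `A` centralizes `M_σ`
  have hpσ : ¬ p ∣ Nat.card (sigmaCore M) :=
    fun h => hσp (mem_sigma_of_dvd_card_le le_rfl hp.out h)
  have hAσ : A ≤ normalizer ((sigmaCore M : Subgroup G) : Set G) :=
    e.le.trans (BG.le_normalizer_sigmaCore M)
  have hcσ : sigmaCore M ≤ centralizer (A : Set G) :=
    e.le_centralizer_of_points hAσ hpσ (fun A₀ hA₀ hc H hH hne hNH =>
      (h123 M H e.coatom hH hne p A A₀ e.le e.elem e.card hA₀ hc hNH).1 hσp)
  -- `M_α = 1`, `M'` nilpotent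
  have hα : alphaCore M = ⊥ :=
    e.alphaCore_eq_bot hG ((Cfsg.Agent.S1405.result hG M e.coatom).2.2.1.trans hcσ)
  have hnil := commutator_nilpotent_of_alphaCore_eq_bot hG e.coatom hα
  -- the transitivity hypothesis
  have hmax := e.maxA hG
  have hpG : p ∣ Nat.card G := dvd_trans e.dvd_card (Subgroup.card_subgroup_dvd_card M)
  have hTH : TransitivityHypothesis A :=
    Cfsg.Agent.S1396.result hG p hpG A e.isPGroup e.elem.1
      (Or.inl ⟨fun x hx => ⟨fun hxp => mem_of_maximal e.elem hmax hx hxp, fun hxA => e.elem.2 x hxA⟩,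
        fun H hH => Cfsg.Agent.S1410.result hG p H hH⟩)
  -- a prime `q ∈ σ(M)` and a Sylow `q`-subgroup `Q` of `M_σ`
  have hcard : Nat.card (sigmaCore M) ≠ 1 :=
    fun h => sigmaCore_ne_bot hG e.coatom (Subgroup.card_eq_one.mp h)
  obtain ⟨q, hq, hqd⟩ := Nat.exists_prime_and_dvd hcard
  haveI : Fact q.Prime := ⟨hq⟩
  have hqσ : q ∈ sigma M := mem_sigma_of_dvd_card_le le_rfl hq hqd
  have hqp : q ≠ p := fun h => hσp (h ▸ hqσ)
  have hqA : ¬ q ∣ Nat.card A := by
    rw [e.card]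
    intro h
    exact hqp ((Nat.prime_dvd_prime_iff_eq hq hp.out).mp (hq.dvd_of_dvd_pow h))
  obtain ⟨S⟩ : Nonempty (Sylow q ↥(sigmaCore M)) := inferInstance
  obtain ⟨hQp, hQσ, hQi⟩ := sylow_sigmaCore_facts hσ hqσ S
  set Q := (S : Subgroup ↥(sigmaCore M)).map (sigmaCore M).subtype with hQ
  have hQM : Q ≤ M := hQσ.trans (sigmaCore_le M)
  have hqQ : q ∣ Nat.card Q := by
    rw [hQ, card_map_of_injective (sigmaCore M).subtype_injective]
    exact S.dvd_card_of_dvd_card hqd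
  have hQC : Q ≤ centralizer (A : Set G) := hQσ.trans hcσ
  have hAQ : A ≤ normalizer (Q : Set G) :=
    (le_centralizer_iff.mp hQC).trans (Subgroup.centralizer_le_normalizer _)
  have hQmax : Q ∈ maxInvSubgroups ⊤ A {q} := mem_maxInv_of_sylow hQp hQi hAQ
  have hqC : q ∣ Nat.card (centralizer (A : Set G)) := dvd_trans hqQ (Subgroup.card_dvd_of_le hQC)
  have hZ : ¬ RankLE 1 ↥(A ⊓ centralizer (A : Set G)) := by
    rw [inf_of_le_left e.le_cent]
    refine BG10.not_rankLE_one_of_elemAb e.elem le_rfl ?_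
    rw [e.card]
    have := hp.out.one_lt
    nlinarith
  have htr := transitivity_74 hG hTH hZ hq hqA hqC
  have hNQ : normalizer (Q : Set G) ≤ M :=
    normalizer_le_of_sigma hqσ hQM hQp
      (fun h => hQi (dvd_trans h (Subgroup.relIndex_dvd_index_of_le hQM)))
  -- a Sylow `p`-subgroup `P` of `G` over `A`
  obtain ⟨P, hAP⟩ := e.isPGroup.exists_le_sylow
  have hPtop : (P : Subgroup G) ≠ ⊤ := sylow_ne_top hG P
  have hPπ : ∀ r : ℕ, r.Prime → r ∣ Nat.card (P : Subgroup G) → r ∣ Nat.card A := by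
    intro r hr hrd
    obtain ⟨n, hn⟩ := IsPGroup.iff_card.mp P.2
    rw [hn] at hrd
    have : r = p := (Nat.prime_dvd_prime_iff_eq hr hp.out).mp (hr.dvd_of_dvd_pow hrd)
    rw [this, e.card]
    exact dvd_pow_self p (by norm_num)
  have hsn : (A.subgroupOf (P : Subgroup G)).IsSubnormal :=
    Cfsg.Agent.Lib.Helper91.isSubnormal_of_isNilpotent P.2.isNilpotent _
  obtain ⟨-, -, h3, h4⟩ := Cfsg.Agent.S1395.result hG A hTH q hq hqA (P : Subgroup G) hPtop hPπ hAP hsn
    (fun Q₁ h₁ Q₂ h₂ => htr Q₁ h₁ Q₂ h₂)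
  -- a maximal `P`-invariant `q`-subgroup `Q'`
  have hbot : (⊥ : Subgroup G) ∈ invSubgroups ⊤ (P : Subgroup G) {q} := by
    refine mem_invSubgroups_of_isPGroup hq IsPGroup.of_bot ?_
    intro x _
    rw [mem_normalizer_iff]
    intro y
    simp only [Subgroup.mem_bot]
    constructor
    · rintro rfl; simp
    · intro h
      have : x * y * x⁻¹ = x * 1 * x⁻¹ := by rw [h]; simp
      exact mul_left_cancel (mul_right_cancel this)
  obtain ⟨Q', hQ'max, -⟩ := exists_maxInv_ge hbot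
  have hQ'A : Q' ∈ maxInvSubgroups ⊤ A {q} := h3 hQ'max
  obtain ⟨k, -, hkQ⟩ := htr Q hQmax Q' hQ'A
  have h5 := (h4 Q' hQ'max).1
  -- `P ≤ N_G(P)'` (B&G 10.7)
  obtain ⟨V, hV⟩ := exists_isComplIn_normalizer P
  have h6 := (Cfsg.Agent.S1411.result hG p P V hV).2
  have h7 : (P : Subgroup G) ≤
      ⁅normalizer (Q' : Set G), normalizer (Q' : Set G)⁆ := le_trans (le_inf le_rfl h6) h5
  have h8 : ⁅normalizer (Q' : Set G), normalizer (Q' : Set G)⁆ ≤ cj k ⁅M, M⁆ := by
    have h9 : normalizer (Q' : Set G) ≤ cj k M := by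
      rw [hkQ, normalizer_cj]
      exact cj_mono hNQ
    rw [cj_def, Subgroup.map_commutator]
    exact Subgroup.commutator_mono h9 h9
  -- `P₁ = P^(k⁻¹) ≤ M'`
  have hP₁K : cj k⁻¹ (P : Subgroup G) ≤ ⁅M, M⁆ := by
    rw [cj_le_iff, inv_inv]
    exact h7.trans h8
  have hP₁p : IsPGroup p (cj k⁻¹ (P : Subgroup G)) := isPGroup_cj P.2
  have hP₁i : ¬ p ∣ (cj k⁻¹ (P : Subgroup G)).index := by
    rw [index_cj]
    exact P.not_dvd_index
  have hMP₁ := le_normalizer_of_le_commutator hnil hP₁p hP₁i hP₁K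
  have hKM : ⁅M, M⁆ ≤ M := by
    rw [← Cfsg.Agent.Lib.Helper23.Beta.map_commutator_subtype]
    exact map_subtype_le _
  have hP₁M : cj k⁻¹ (P : Subgroup G) ≤ M := hP₁K.trans hKM
  have hP₁1 : cj k⁻¹ (P : Subgroup G) ≠ ⊥ := by
    intro h
    rw [cj_eq_bot_iff] at h
    have h1 : A ≤ (⊥ : Subgroup G) := h ▸ hAP
    have h2 : Nat.card A = 1 := Subgroup.card_eq_one.mpr (le_bot_iff.mp h1)
    rw [e.card] at h2
    have := hp.out.one_lt
    nlinarith
  exact hσp (mem_sigma_of_normal_sylow hG e.coatom hP₁p hP₁1 hP₁M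
    (fun h => hP₁i (dvd_trans h (Subgroup.relIndex_dvd_index_of_le hP₁M))) hMP₁)

end NU

end Cfsg.Agent.Lib.Helper19.BG124
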