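import Cfsg.Agent.S1415
import Cfsg.Agent.Lib.Helper32.BG142Defs
import Cfsg.Agent.Lib.Helper24.S1421A
import Cfsg.Agent.Lib.Helper47.BG1312
import Cfsg.Agent.Lib.Helper50.BG134A

set_option autoImplicit false
set_option linter.style.haveILetI false
set_option linter.unusedSectionVars false

/-!
# BG Theorem 14.2 (S1430), Case II, leaf L1 (`tau3_normal`) and `prime_class'`
-/

namespace Cfsg.Agent.Lib.Helper32.BG142

open Subgroup Cfsg

universe u

variable {G : Type u} [Group G] [Finite G]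

/-- a prime divisor of `|E|` is in `τ₁ ∪ τ₃` or in `τ₂` (= `Helper24.S1421.prime_class`). -/
theorem prime_class' (hG : IsMinSimpleOddOrder G) {M E : Subgroup G} (hM : IsCoatom M)
    (hE : IsComplIn E (sigmaCore M) M) {q : ℕ} (hq : q.Prime) (hqE : q ∣ Nat.card E) :
    q ∈ tau1 M ∪ tau3 M ∨ q ∈ tau2 M :=
  (Cfsg.Agent.Lib.Helper24.S1421.prime_class hG hM hE hq hqE).2

/-- LEAF L1: subgroups of order `s ∈ τ₃(M)` of `E` are normal in `E` and lie in `E'`. -/
theorem tau3_normal (hG : IsMinSimpleOddOrder G) {M E X : Subgroup G} (hM : IsCoatom M)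
    (hE : IsComplIn E (sigmaCore M) M) {s : ℕ} (hs : s ∈ tau3 M) (hXE : X ≤ E)
    (hX : Nat.card X = s) : E ≤ normalizer (X : Set G) ∧ X ≤ ⁅E, E⁆ := by
  have hsp : s.Prime := hs.1
  have hEtop : E ≠ ⊤ := by
    intro h
    apply hM.1
    rw [eq_top_iff, ← h]
    exact hE.1
  obtain ⟨E3, hE3, hXE3⟩ := Cfsg.Agent.Lib.Helper47.BG1312.exists_isPiHallOf_ge hG (tau3 M)
    hEtop hXE (by
      intro r hr hrd
      rw [hX] at hrd
      rw [(Nat.prime_dvd_prime_iff_eq hr hsp).mp hrd]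
      exact hs)
  obtain ⟨hcyc, hle, hnorm⟩ := (Cfsg.Agent.S1415.result hG M hM E hE).2.2 E3 hE3
  exact ⟨hnorm.trans (Cfsg.Agent.Lib.Helper50.BG134.normalizer_le_of_le_isCyclic hcyc hXE3),
    hXE3.trans hle⟩

end Cfsg.Agent.Lib.Helper32.BG142
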