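import Cfsg.Agent.S1417
import Cfsg.Agent.Lib.Helper19.BG142L1
import Cfsg.Agent.Lib.Helper60.BG131a
import Cfsg.Agent.Lib.Helper64.BG9
import Cfsg.Agent.Lib.Helper63.BG10
import Cfsg.Agent.Lib.Helper96.BG127

set_option autoImplicit false
set_option linter.style.haveILetI false
set_option linter.unusedSectionVars false

/-!
# BG Theorem 14.2 (S1430), Case II, leaves L2 (`exc_partner`), L3 (`exc_tau2`),
L4 (`exc_tau3_cent`)
-/

namespace Cfsg.Agent.Lib.Helper32.BG142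

open Subgroup Cfsg

universe u

variable {G : Type u} [Group G] [Finite G]

/-- what normalizes two subgroups normalizes their intersection -/
theorem exc_le_normalizer_inf {X A B : Subgroup G} (h1 : X ≤ normalizer (A : Set G))
    (h2 : X ≤ normalizer (B : Set G)) : X ≤ normalizer ((A ⊓ B : Subgroup G) : Set G) := by
  intro x hx
  rw [mem_normalizer_iff]
  intro h
  have a := mem_normalizer_iff.mp (h1 hx) h
  have b := mem_normalizer_iff.mp (h2 hx) h
  rw [mem_inf, mem_inf, a, b]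

/-- a subgroup of prime order is nontrivial and proper in a maximal subgroup's ambient group -/
theorem exc_ne_bot_of_card_prime {Z : Subgroup G} {q : ℕ} (hq : q.Prime) (hZ : Nat.card Z = q) :
    Z ≠ ⊥ := by
  intro h
  rw [h, Subgroup.card_bot] at hZ
  exact hq.one_lt.ne hZ

/-- LEAF L2: the partner `H ≥ N_G(Z)`: `q ∈ σ(H)`, `H` not conjugate to `M`, `E ≤ H`,
`W ∩ H = C_W(Z)`. -/
theorem exc_partner (hG : IsMinSimpleOddOrder G) (hLE : StmtE G) {M E Z H : Subgroup G}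
    (hM : IsCoatom M) (hE : IsComplIn E (sigmaCore M) M) {q : ℕ} (hq3 : q ∈ tau3 M)
    (hZE : Z ≤ E) (hZ : Nat.card Z = q)
    (hZne : sigmaCore M ⊓ centralizer (Z : Set G) ≠ ⊥)
    (hH : IsCoatom H) (hNZ : normalizer (Z : Set G) ≤ H) :
    q ∈ sigma H ∧ (∀ g : G, H ≠ M.map (MulAut.conj g).toMonoidHom) ∧ E ≤ H ∧
      sigmaCore M ⊓ H = sigmaCore M ⊓ centralizer (Z : Set G) := by
  have hqp : q.Prime := hq3.1
  haveI : Fact q.Prime := ⟨hqp⟩
  have hZM : Z ≤ M := hZE.trans hE.1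
  have hqH : q ∈ sigma H := hLE M H hM hH q (Or.inr hq3) Z hZ hZM hZne hNZ
  have hnc : ∀ g : G, H ≠ Cfsg.Agent.Lib.Helper33.cj g M := by
    intro g hg
    have h1 : q ∈ sigma (Cfsg.Agent.Lib.Helper33.cj g⁻¹ H) :=
      Cfsg.Agent.Lib.Helper63.BG13.sigma_cj g⁻¹ hqH
    rw [hg, Cfsg.Agent.Lib.Helper33.cj_inv_cj] at h1
    exact hq3.2.1 h1
  have hnc' : ∀ g : G, H ≠ M.map (MulAut.conj g).toMonoidHom := by
    intro g hg
    apply hnc g
    rw [Cfsg.Agent.Lib.Helper33.cj_def]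
    exact hg
  have hEH : E ≤ H := (tau3_normal hG hM hE hq3 hZE hZ).1.trans hNZ
  have hZH : Z ≤ H := hZE.trans hEH
  refine ⟨hqH, hnc', hEH, ?_⟩
  apply le_antisymm
  · refine le_inf inf_le_left ?_
    have hZp : IsPGroup q Z := IsPGroup.of_card (n := 1) (by rw [hZ, pow_one])
    have hqτ : q ∉ tau1 H := fun h => h.2.1 hqH
    have hZN : Z ≤ normalizer ((sigmaCore M ⊓ H : Subgroup G) : Set G) :=
      exc_le_normalizer_inf (hZM.trans (Cfsg.Agent.Lib.Helper24.BG.le_normalizer_sigmaCore M))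
        (hZH.trans le_normalizer)
    exact Cfsg.Agent.Lib.Helper60.BG131a.cent_of_not_tau1_pgroup hG hM hH hnc hq3.2.1 hqτ hZp hZH
      inf_le_right inf_le_left hZN
  · exact le_inf inf_le_left
      ((inf_le_right.trans (centralizer_le_normalizer (Z : Set G))).trans hNZ)

/-- existence of a partner -/
theorem exc_exists_partner (hG : IsMinSimpleOddOrder G) {M E Z : Subgroup G}
    (hM : IsCoatom M) (hE : IsComplIn E (sigmaCore M) M) {q : ℕ} (hq : q.Prime)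
    (hZE : Z ≤ E) (hZ : Nat.card Z = q) :
    ∃ H : Subgroup G, IsCoatom H ∧ normalizer (Z : Set G) ≤ H := by
  have hZ1 : Z ≠ ⊥ := exc_ne_bot_of_card_prime hq hZ
  have hZtop : Z ≠ ⊤ := by
    intro h
    apply hM.1
    rw [eq_top_iff, ← h]
    exact hZE.trans hE.1
  exact Cfsg.Agent.Lib.Helper64.BG9.exists_coatom_ge
    (Cfsg.Agent.Lib.Helper63.BG10.normalizer_ne_top hG hZ1 hZtop)

/-- LEAF L3: in the exceptional case `τ₂(M) = ∅`. -/
theorem exc_tau2 (hG : IsMinSimpleOddOrder G) (hLE : StmtE G) {M E Z : Subgroup G}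
    (hM : IsCoatom M) (hE : IsComplIn E (sigmaCore M) M) {q : ℕ} (hq3 : q ∈ tau3 M)
    (hZE : Z ≤ E) (hZ : Nat.card Z = q)
    (hZne : sigmaCore M ⊓ centralizer (Z : Set G) ≠ ⊥) : ∀ s : ℕ, s ∉ tau2 M := by
  intro s hs
  haveI : Fact s.Prime := ⟨hs.1⟩
  obtain ⟨H, hH, hNZ⟩ := exc_exists_partner hG hM hE hq3.1 hZE hZ
  obtain ⟨hqH, _, hEH, hWH⟩ := exc_partner hG hLE hM hE hq3 hZE hZ hZne hH hNZ
  obtain ⟨A, hAE, hAe, hAc⟩ := Cfsg.Agent.Lib.Helper96.BG127.exists_elemAb_sq_le_compl hE hs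
  have hHM : H ≠ M := by
    intro h
    rw [h] at hqH
    exact hq3.2.1 hqH
  have h17 := Cfsg.Agent.S1417.result hG M hM s hs A ⟨hAE.trans hE.1, hAe, hAc⟩
  have hbot := h17.2.2.2.2.1 H hH hHM (hAE.trans hEH)
  rw [hWH] at hbot
  exact hZne hbot

/-- the symmetric half of L4 -/
theorem exc_tau3_cent_le (hG : IsMinSimpleOddOrder G) (hLE : StmtE G) {M E Z X : Subgroup G}
    (hM : IsCoatom M) (hE : IsComplIn E (sigmaCore M) M) {q : ℕ} (hq3 : q ∈ tau3 M)
    (hZE : Z ≤ E) (hZ : Nat.card Z = q)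
    (hZne : sigmaCore M ⊓ centralizer (Z : Set G) ≠ ⊥)
    {s : ℕ} (hs : s ∈ tau3 M) (hXE : X ≤ E) (hX : Nat.card X = s) :
    sigmaCore M ⊓ centralizer (Z : Set G) ≤ sigmaCore M ⊓ centralizer (X : Set G) := by
  haveI : Fact s.Prime := ⟨hs.1⟩
  obtain ⟨H, hH, hNZ⟩ := exc_exists_partner hG hM hE hq3.1 hZE hZ
  obtain ⟨hqH, hnc', hEH, hWH⟩ := exc_partner hG hLE hM hE hq3 hZE hZ hZne hH hNZ
  have hnc : ∀ g : G, H ≠ Cfsg.Agent.Lib.Helper33.cj g M := by
    intro g hg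
    apply hnc' g
    rw [← Cfsg.Agent.Lib.Helper33.cj_def]
    exact hg
  have hXH : X ≤ H := hXE.trans hEH
  have hXM : X ≤ M := hXE.trans hE.1
  have hXc : X ≤ ⁅H, H⁆ :=
    (tau3_normal hG hM hE hs hXE hX).2.trans (Subgroup.commutator_mono hEH hEH)
  have hsτ : s ∉ tau1 H := by
    intro h
    apply h.2.2.2.1
    rw [← hX]
    exact Subgroup.card_dvd_of_le hXc
  have hXp : IsPGroup s X := IsPGroup.of_card (n := 1) (by rw [hX, pow_one])
  have hXN : X ≤ normalizer ((sigmaCore M ⊓ H : Subgroup G) : Set G) :=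
    exc_le_normalizer_inf (hXM.trans (Cfsg.Agent.Lib.Helper24.BG.le_normalizer_sigmaCore M))
      (hXH.trans le_normalizer)
  have := Cfsg.Agent.Lib.Helper60.BG131a.cent_of_not_tau1_pgroup hG hM hH hnc hs.2.1 hsτ hXp hXH
      inf_le_right inf_le_left hXN
  rw [← hWH]
  exact le_inf inf_le_left this

/-- LEAF L4: all subgroups of prime order `s ∈ τ₃(M)` of `E` have the same centralizer in `W`. -/
theorem exc_tau3_cent (hG : IsMinSimpleOddOrder G) (hLE : StmtE G) {M E Z X : Subgroup G}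
    (hM : IsCoatom M) (hE : IsComplIn E (sigmaCore M) M) {q : ℕ} (hq3 : q ∈ tau3 M)
    (hZE : Z ≤ E) (hZ : Nat.card Z = q)
    (hZne : sigmaCore M ⊓ centralizer (Z : Set G) ≠ ⊥)
    {s : ℕ} (hs : s ∈ tau3 M) (hXE : X ≤ E) (hX : Nat.card X = s) :
    sigmaCore M ⊓ centralizer (X : Set G) = sigmaCore M ⊓ centralizer (Z : Set G) := by
  have h1 := exc_tau3_cent_le hG hLE hM hE hq3 hZE hZ hZne hs hXE hX
  have hXne : sigmaCore M ⊓ centralizer (X : Set G) ≠ ⊥ := by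
    intro h
    rw [h, le_bot_iff] at h1
    exact hZne h1
  exact le_antisymm (exc_tau3_cent_le hG hLE hM hE hs hXE hX hXne hq3 hZE hZ) h1

end Cfsg.Agent.Lib.Helper32.BG142
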