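import Cfsg.Agent.S1427
import Cfsg.Agent.Lib.Helper19.BG142L1
import Cfsg.Agent.Lib.Helper63.BG13b
import Cfsg.Agent.Lib.Helper23.TypeP

set_option autoImplicit false
set_option linter.style.haveILetI false
set_option linter.unusedSectionVars false

/-!
# BG Theorem 14.2 (S1430), Case II, leaf L7 (`exc_semiprime`)
-/

namespace Cfsg.Agent.Lib.Helper32.BG142

open Subgroup Cfsg

universe u

variable {G : Type u} [Group G] [Finite G]

/-- the centralizer of a cyclic subgroup is the centralizer of its generator -/
theorem exc_centralizer_zpowers (x : G) :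
    centralizer ((zpowers x : Subgroup G) : Set G) = centralizer ({x} : Set G) := by
  apply le_antisymm
  · apply centralizer_le
    intro y hy
    rw [Set.mem_singleton_iff] at hy
    rw [hy]
    exact mem_zpowers x
  · intro y hy
    rw [mem_centralizer_iff] at hy ⊢
    intro z hz
    obtain ⟨k, rfl⟩ := mem_zpowers_iff.mp hz
    have h : Commute x y := hy x (Set.mem_singleton x)
    exact (h.zpow_left k).eq

/-- a subgroup containing a Sylow `t`-subgroup for every prime `t` is the whole group -/
theorem exc_eq_top_of_sylow_le {E : Type*} [Group E] [Finite E] (D : Subgroup E)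
    (h : ∀ (t : ℕ) [Fact t.Prime], ∃ S : Sylow t E, (S : Subgroup E) ≤ D) : D = ⊤ := by
  rw [← index_eq_one]
  by_contra h1
  obtain ⟨t, ht, htd⟩ := Nat.exists_prime_and_dvd h1
  haveI : Fact t.Prime := ⟨ht⟩
  obtain ⟨S, hS⟩ := h t
  exact S.not_dvd_index (htd.trans (index_dvd_of_le hS))

/-- a subgroup of prime order inside `zpowers e`, `e ≠ 1` -/
theorem exc_exists_prime_card_le_zpowers {e : G} (he : e ≠ 1) :
    ∃ X : Subgroup G, X ≤ zpowers e ∧ (Nat.card X).Prime := by
  have ho1 : orderOf e ≠ 1 := by
    rw [Ne, orderOf_eq_one_iff]; exact he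
  obtain ⟨p, hp, hpd⟩ := Nat.exists_prime_and_dvd ho1
  refine ⟨zpowers (e ^ (orderOf e / p)), ?_, ?_⟩
  · rw [zpowers_le]; exact pow_mem (mem_zpowers e) _
  · rw [Nat.card_zpowers, orderOf_pow_orderOf_div (orderOf_pos e).ne' hpd]; exact hp

/-- LEAF L7: if all subgroups of prime order of `E` have the same centralizer `Y` in `W` and
`τ₂(M) = ∅` then `E` centralizes `Y` and acts semiprimely (Sylow by Sylow, S1427). -/
theorem exc_semiprime (hG : IsMinSimpleOddOrder G) {M E Y : Subgroup G}
    (hM : IsCoatom M) (hE : IsComplIn E (sigmaCore M) M) (hτ2 : ∀ s : ℕ, s ∉ tau2 M)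
    (hY : ∀ X : Subgroup G, X ≤ E → (Nat.card X).Prime →
      sigmaCore M ⊓ centralizer (X : Set G) = Y) :
    ∀ e ∈ E, e ≠ 1 → sigmaCore M ⊓ centralizer ({e} : Set G) = Y ∧
      sigmaCore M ⊓ centralizer (E : Set G) = Y := by
  intro e he he1
  -- a subgroup of prime order inside `⟨e⟩`
  obtain ⟨X, hXe, hXp⟩ := exc_exists_prime_card_le_zpowers he1
  have heE : zpowers e ≤ E := by rw [zpowers_le]; exact he
  have hXE : X ≤ E := hXe.trans heE
  have hYX := hY X hXE hXp
  have hYW : Y ≤ sigmaCore M := by rw [← hYX]; exact inf_le_left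
  -- `C_W(e) ≤ Y`
  have h1 : sigmaCore M ⊓ centralizer ({e} : Set G) ≤ Y := by
    rw [← hYX, ← exc_centralizer_zpowers e]
    exact inf_le_inf_left _ (centralizer_le hXe)
  -- `E` centralizes `Y`
  have h2 : E ≤ centralizer (Y : Set G) := by
    have hD : (centralizer (Y : Set G)).subgroupOf E = ⊤ := by
      apply exc_eq_top_of_sylow_le
      intro t ht
      have htp : t.Prime := ht.out
      let S : Sylow t E := default
      refine ⟨S, ?_⟩
      by_cases hS1 : (S : Subgroup E) = ⊥
      · rw [hS1]; exact bot_le
      · -- `S` is cyclic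
        have htE : t ∣ Nat.card E := by
          by_contra hnd
          apply hS1
          have hc := S.card_eq_multiplicity
          rw [Nat.factorization_eq_zero_of_not_dvd hnd, pow_zero] at hc
          exact Subgroup.card_eq_one.mp hc
        have htM : t ∣ Nat.card M := htE.trans (Subgroup.card_dvd_of_le hE.1)
        have hr1 : PRankLE t 1 ↥M := by
          rcases prime_class' hG hM hE htp htE with h | h
          · rcases h with h | h
            · exact h.2.2.2.2
            · exact h.2.2.2
          · exact absurd h (hτ2 t)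
        have ht2 : t ≠ 2 := Cfsg.Agent.Lib.Helper23.ne_two_of_dvd_card_subgroup hG htM
        have hSm : IsPGroup t ↥((S : Subgroup E).map E.subtype) := S.isPGroup'.map _
        have hSmM : (S : Subgroup E).map E.subtype ≤ M := (map_subtype_le _).trans hE.1
        have hcyc' : IsCyclic ↥((S : Subgroup E).map E.subtype) :=
          Cfsg.Agent.Lib.Helper63.BG13.isCyclic_of_le_of_pRankLE_one ht2 hSm hSmM hr1
        have hcyc : IsCyclic ↥(S : Subgroup E) :=
          isCyclic_of_surjective
            ((S : Subgroup E).equivMapOfInjective E.subtype (subtype_injective E)).symm.toMonoidHom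
            (MulEquiv.surjective _)
        have h27 := Cfsg.Agent.S1427.result hG M hM E hE t S hS1 hcyc
        -- an element of order `t` of `S`
        have htS : t ∣ Nat.card ↥(S : Subgroup E) := S.dvd_card_of_dvd_card htE
        obtain ⟨x, hx⟩ := exists_prime_orderOf_dvd_card' t htS
        have hxo : orderOf (((x : ↥(S : Subgroup E)) : E) : G) = t := by
          rw [Subgroup.orderOf_coe, Subgroup.orderOf_coe]; exact hx
        have hx1 : (((x : ↥(S : Subgroup E)) : E) : G) ≠ 1 := by
          intro h
          rw [h, orderOf_one] at hxo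
          exact htp.one_lt.ne hxo
        have hxS : (((x : ↥(S : Subgroup E)) : E) : G) ∈ (S : Subgroup E).map E.subtype :=
          ⟨(x : E), x.2, rfl⟩
        have hxE : (((x : ↥(S : Subgroup E)) : E) : G) ∈ E := (x : E).2
        have h3 := h27 _ hxS hx1
        have hT : sigmaCore M ⊓ centralizer
            ((zpowers (((x : ↥(S : Subgroup E)) : E) : G) : Subgroup G) : Set G) = Y := by
          apply hY
          · rw [zpowers_le]; exact hxE
          · rw [Nat.card_zpowers, hxo]; exact htp
        rw [exc_centralizer_zpowers, h3] at hT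
        -- so `Y ≤ C(S)`
        have hYS : Y ≤ centralizer (((S : Subgroup E).map E.subtype : Subgroup G) : Set G) := by
          rw [← hT]; exact inf_le_right
        have hSY : (S : Subgroup E).map E.subtype ≤ centralizer (Y : Set G) :=
          le_centralizer_iff.mp hYS
        intro s hs
        rw [mem_subgroupOf]
        exact hSY ⟨s, hs, rfl⟩
    exact subgroupOf_eq_top.mp hD
  have h3 : Y ≤ sigmaCore M ⊓ centralizer (E : Set G) :=
    le_inf hYW (le_centralizer_iff.mp h2)
  have h4 : sigmaCore M ⊓ centralizer (E : Set G) ≤ sigmaCore M ⊓ centralizer ({e} : Set G) := by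
    refine inf_le_inf_left _ (centralizer_le ?_)
    intro y hy
    rw [Set.mem_singleton_iff] at hy
    rw [hy]; exact he
  exact ⟨le_antisymm h1 (h3.trans h4), le_antisymm (h4.trans h1) h3⟩

end Cfsg.Agent.Lib.Helper32.BG142
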