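import Cfsg.Agent.S1350
import Cfsg.Agent.Lib.Helper23.BG1310Defs
import Cfsg.Agent.Lib.Helper32.BG142Defs
import Cfsg.Agent.Lib.Helper23.FitUniqueB
import Cfsg.Agent.Lib.Helper23.TypeP
import Cfsg.Agent.Lib.Helper24.S1421A
import Cfsg.Agent.Lib.Helper24.BG121
import Cfsg.Agent.Lib.Helper47.BG11e
import Cfsg.Agent.Lib.Helper63.BG13b
import Cfsg.Agent.Lib.Helper10.BGLemR
import Cfsg.Agent.Lib.Helper19.BG14B

set_option autoImplicit false
set_option linter.style.haveILetI false
set_option linter.unusedSectionVars false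

/-!
# Bender–Glauberman Corollary 13.11: the exceptional configuration ("Case N"), and S1430 there

`CaseN M`: `τ₂(M) = ∅` and every complement `E` of `M_σ` in `M` acts semiprimely on `M_σ` with a
nontrivial common centralizer, all subgroups of prime order of `E` being normal in `E`.
In this configuration `κ(M) = π(M) ∖ σ(M)`, a Hall `κ(M)`-subgroup is a complement of `M_σ`, and the
conclusion of S1430 (B&G Theorem 14.2, first half) holds with `U = 1`.
-/

namespace Cfsg.Agent.Lib.Helper19.BG1311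

open Subgroup Cfsg
open Cfsg.Agent.Lib.Helper32.BG142

universe u

variable {G : Type u} [Group G] [Finite G]

/-- The exceptional configuration of B&G Corollary 13.11. -/
def CaseN (M : Subgroup G) : Prop :=
  tau2 M = ∅ ∧ ∀ E : Subgroup G, IsComplIn E (sigmaCore M) M →
    sigmaCore M ⊓ centralizer (E : Set G) ≠ ⊥ ∧
    (∀ e ∈ E, e ≠ 1 → sigmaCore M ⊓ centralizer ({e} : Set G) =
      sigmaCore M ⊓ centralizer (E : Set G)) ∧
    ∀ X : Subgroup G, X ≤ E → (Nat.card X).Prime → E ≤ normalizer (X : Set G)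

/-- a prime of `M` outside `σ(M)` divides the order of every complement of `M_σ` -/
theorem dvd_card_compl {M E : Subgroup G}
    (hE : IsComplIn E (sigmaCore M) M) {p : ℕ} (hp : p.Prime) (hpM : p ∣ Nat.card M)
    (hpσ : p ∉ sigma M) : p ∣ Nat.card E := by
  have hc := Cfsg.Agent.Lib.Helper23.card_isComplIn hE
  rw [← hc] at hpM
  rcases (Nat.Prime.dvd_mul hp).mp hpM with h | h
  · exact h
  · exact absurd (Cfsg.Agent.Lib.Helper47.BG11.mem_sigma_of_dvd_card_le le_rfl hp h) hpσ

/-- in Case N every prime of `M` outside `σ(M)` has rank one -/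
theorem pRankLE_one_of_caseN (hG : IsMinSimpleOddOrder G) {M : Subgroup G} (hM : IsCoatom M)
    (hN : CaseN M) {p : ℕ} (hp : p.Prime) (hpM : p ∣ Nat.card M) (hpσ : p ∉ sigma M) :
    p ∈ tau1 M ∪ tau3 M := by
  have hS := (Cfsg.Agent.S1350.result hG M hM).1
  obtain ⟨E, hE⟩ := Cfsg.Agent.Lib.Helper10.BG13.exists_isComplIn_sigmaCore hS
  have hpE := dvd_card_compl hE hp hpM hpσ
  obtain ⟨_, hcl⟩ := Cfsg.Agent.Lib.Helper24.S1421.prime_class hG hM hE hp hpE
  rcases hcl with h | h
  · exact h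
  · rw [hN.1] at h
    exact absurd h (Set.notMem_empty _)

/-- in Case N, `κ(M)` consists of all primes of `M` outside `σ(M)` -/
theorem mem_kappa_of_caseN (hG : IsMinSimpleOddOrder G) {M : Subgroup G} (hM : IsCoatom M)
    (hN : CaseN M) {p : ℕ} (hp : p.Prime) (hpM : p ∣ Nat.card M) (hpσ : p ∉ sigma M) :
    p ∈ kappa M := by
  have hMtop : M ≠ ⊤ := hM.1
  have hσ := Cfsg.Agent.Lib.Helper47.BG11.sigmaHallIn_of_coatom hG hM
  have hr1 : PRankLE p 1 ↥M := by
    rcases pRankLE_one_of_caseN hG hM hN hp hpM hpσ with h | h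
    · exact h.2.2.2.2
    · exact h.2.2.2
  haveI : Fact p.Prime := ⟨hp⟩
  have hp2 : p ≠ 2 := Cfsg.Agent.Lib.Helper23.ne_two_of_dvd_card_subgroup hG hpM
  refine ⟨hp, hpM, hpσ, ?_⟩
  intro P
  constructor
  · have hD : IsPGroup p ↥((P : Subgroup M).map M.subtype) := P.isPGroup'.map _
    have hcyc : IsCyclic ↥((P : Subgroup M).map M.subtype) :=
      Cfsg.Agent.Lib.Helper63.BG13.isCyclic_of_le_of_pRankLE_one hp2 hD (map_subtype_le _) hr1
    exact isCyclic_of_surjective
      ((P : Subgroup M).equivMapOfInjective M.subtype (subtype_injective M)).symm.toMonoidHom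
      (MulEquiv.surjective _)
  · have hpP : p ∣ Nat.card ↥(P : Subgroup M) := P.dvd_card_of_dvd_card hpM
    obtain ⟨x, hx⟩ := exists_prime_orderOf_dvd_card' p hpP
    -- `x : ↥P` of order `p`
    set x' : M := (x : M) with hx'
    have hxo : orderOf (x' : G) = p := by
      rw [hx', Subgroup.orderOf_coe, Subgroup.orderOf_coe]; exact hx
    have hTM : zpowers (x' : G) ≤ M := by
      rw [zpowers_le]; exact x'.2
    have hcardT : Nat.card ↥(zpowers (x' : G)) = p := by
      rw [Nat.card_zpowers]; exact hxo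
    have hcop : (Nat.card ↥(zpowers (x' : G))).Coprime (Nat.card ↥(sigmaCore M)) := by
      rw [hcardT]
      refine (Nat.Prime.coprime_iff_not_dvd hp).mpr ?_
      intro h
      exact hpσ (Cfsg.Agent.Lib.Helper47.BG11.mem_sigma_of_dvd_card_le le_rfl hp h)
    obtain ⟨E', hE', hTE'⟩ :=
      Cfsg.Agent.Lib.Helper63.BG13.exists_compl_ge hG hMtop hσ hTM hcop
    obtain ⟨hne, _, _⟩ := hN.2 E' hE'
    obtain ⟨y, hy1⟩ := (Subgroup.ne_bot_iff_exists_ne_one).mp hne
    have hyW : (y : G) ∈ sigmaCore M := y.2.1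
    have hyC : (y : G) ∈ centralizer (E' : Set G) := y.2.2
    refine ⟨x', x.2, ?_, (y : G), hyW, ?_, ?_⟩
    · intro h
      have : orderOf (x' : G) = 1 := by rw [h]; simp
      rw [hxo] at this
      exact hp.one_lt.ne' this
    · intro h
      exact hy1 (Subtype.ext h)
    · have hxE : (x' : G) ∈ E' := hTE' (mem_zpowers _)
      exact (mem_centralizer_iff.mp hyC (x' : G) hxE)

/-- in Case N a Hall `κ(M)`-subgroup is a complement of `M_σ` in `M` -/
theorem isComplIn_of_hall_kappa (hG : IsMinSimpleOddOrder G) {M : Subgroup G} (hM : IsCoatom M)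
    (hN : CaseN M) {K : Subgroup G} (hK : IsPiHallOf (kappa M) K M) :
    IsComplIn K (sigmaCore M) M := by
  have hS : IsPiHallOf (sigma M) (sigmaCore M) M := (Cfsg.Agent.S1350.result hG M hM).1
  have hSn : M ≤ normalizer ((sigmaCore M : Subgroup G) : Set G) :=
    Cfsg.Agent.Lib.Helper24.BG.le_normalizer_sigmaCore M
  have hKM := hK.1
  have hSM := hS.1
  have hKS : K ≤ normalizer ((sigmaCore M : Subgroup G) : Set G) := hKM.trans hSn
  have hMH : M ≤ K ⊔ sigmaCore M := by
    rw [← relIndex_eq_one]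
    by_contra h1
    obtain ⟨p, hp, hpd⟩ := Nat.exists_prime_and_dvd h1
    have hpM : p ∣ Nat.card M := by
      have h2 : (K ⊔ sigmaCore M).relIndex M ∣ Nat.card M := by
        have := Subgroup.index_dvd_card ((K ⊔ sigmaCore M).subgroupOf M)
        exact this
      exact hpd.trans h2
    by_cases hpσ : p ∈ sigma M
    · exact hS.2.2 p hp hpσ (hpd.trans (relIndex_dvd_of_le_left M le_sup_right))
    · exact hK.2.2 p hp (mem_kappa_of_caseN hG hM hN hp hpM hpσ)
        (hpd.trans (relIndex_dvd_of_le_left M le_sup_left))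
  refine ⟨hKM, hSM, ?_, ?_⟩
  · apply Cfsg.Agent.Lib.Helper19.BG14.inf_eq_bot_of_primes
    intro p hp hpK hpS
    exact (hK.2.1 p hp hpK).2.2.1 (hS.2.1 p hp hpS)
  · intro m hm
    exact Cfsg.Agent.Lib.Helper19.BG14.mul_decomp hKS (hMH hm)

/-- normalizer in `M` of a subgroup `T` of a complement `K` of a normal subgroup `W` of `M`,
when `K` normalizes `T` -/
theorem inf_normalizer_eq_of_compl {M K W T : Subgroup G} (hK : IsComplIn K W M)
    (hWn : M ≤ normalizer (W : Set G)) (hTK : T ≤ K) (hKT : K ≤ normalizer (T : Set G)) :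
    M ⊓ normalizer (T : Set G) = K ⊔ (W ⊓ centralizer (T : Set G)) := by
  apply le_antisymm
  · rintro m ⟨hmM, hmN⟩
    obtain ⟨k, hk, w, hw, rfl⟩ := hK.2.2.2 m hmM
    have hkN : k ∈ normalizer (T : Set G) := hKT hk
    have hwN : w ∈ normalizer (T : Set G) := by
      have : w = k⁻¹ * (k * w) := by group
      rw [this]
      exact (normalizer (T : Set G)).mul_mem ((normalizer (T : Set G)).inv_mem hkN) hmN
    have hwC : w ∈ centralizer (T : Set G) := by
      rw [mem_centralizer_iff]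
      intro t ht
      have htK : t ∈ K := hTK ht
      have htM : t ∈ M := hK.1 htK
      have h1 : w * t * w⁻¹ ∈ T := (mem_normalizer_iff.mp hwN t).mp ht
      have h2 : w * t * w⁻¹ * t⁻¹ ∈ K := K.mul_mem (hTK h1) (K.inv_mem htK)
      have h3 : w * t * w⁻¹ * t⁻¹ ∈ W := by
        have h4 : t * w⁻¹ * t⁻¹ ∈ W := (mem_normalizer_iff.mp (hWn htM) w⁻¹).mp (W.inv_mem hw)
        have : w * t * w⁻¹ * t⁻¹ = w * (t * w⁻¹ * t⁻¹) := by group
        rw [this]
        exact W.mul_mem hw h4
      have h5 : w * t * w⁻¹ * t⁻¹ ∈ K ⊓ W := ⟨h2, h3⟩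
      rw [hK.2.2.1, mem_bot] at h5
      have : t * w = w * t := by
        have h6 : w * t = (w * t * w⁻¹ * t⁻¹) * (t * w) := by group
        rw [h6, h5, one_mul]
      exact this
    exact (K ⊔ (W ⊓ centralizer (T : Set G))).mul_mem (le_sup_left (a := K) hk)
      (le_sup_right (a := K) ⟨hw, hwC⟩)
  · refine sup_le (le_inf hK.1 hKT) (le_inf (inf_le_left.trans hK.2.1) ?_)
    exact inf_le_right.trans (centralizer_le_normalizer (T : Set G))

/-- **S1430 in Case N** (B&G Theorem 14.2, first half, in the exceptional configuration of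
Corollary 13.11): `U = 1` and `K` is a complement of `M_σ`. -/
theorem s1430_of_caseN (hG : IsMinSimpleOddOrder G) (hLE : StmtE G)
    {M : Subgroup G} (hM : IsCoatom M) (hN : CaseN M)
    {K : Subgroup G} (hK : IsPiHallOf (kappa M) K M) (hK1 : K ≠ ⊥) :
    (∀ k ∈ K, k ≠ 1 → sigmaCore M ⊓ centralizer ({k} : Set G) =
        (sigmaCore M ⊓ centralizer (K : Set G))) ∧
      (∃ U : Subgroup G, IsMulCommutative U ∧
        IsPiHallOf {q | q.Prime ∧ q ∉ kappa M ∧ q ∉ sigma M} U M ∧
        K ≤ normalizer (U : Set G) ∧ ∀ k ∈ K, k ≠ 1 → U ⊓ centralizer ({k} : Set G) = ⊥) ∧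
      ∀ X : Subgroup G, X ≤ K → (Nat.card X).Prime →
        M ⊓ normalizer (X : Set G) = K ⊔ (sigmaCore M ⊓ centralizer (K : Set G)) ∧
        M ⊓ normalizer (K : Set G) = K ⊔ (sigmaCore M ⊓ centralizer (K : Set G)) ∧
        ∀ Mstar : Subgroup G, IsCoatom Mstar → normalizer (X : Set G) ≤ Mstar →
          X ≤ sigmaCore Mstar := by
  have hKc := isComplIn_of_hall_kappa hG hM hN hK
  obtain ⟨hne, hsemi, hnorm⟩ := hN.2 K hKc
  have hSn : M ≤ normalizer ((sigmaCore M : Subgroup G) : Set G) :=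
    Cfsg.Agent.Lib.Helper24.BG.le_normalizer_sigmaCore M
  -- centralizers in `M_σ` of nontrivial subgroups of `K`
  have hcent : ∀ T : Subgroup G, T ≤ K → T ≠ ⊥ →
      sigmaCore M ⊓ centralizer (T : Set G) = sigmaCore M ⊓ centralizer (K : Set G) := by
    intro T hTK hT1
    obtain ⟨x, hx1⟩ := (Subgroup.ne_bot_iff_exists_ne_one).mp hT1
    have hx1' : (x : G) ≠ 1 := fun h => hx1 (Subtype.ext h)
    apply le_antisymm
    · rw [← hsemi (x : G) (hTK x.2) hx1']
      refine le_inf inf_le_left (inf_le_right.trans (centralizer_le ?_))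
      intro y hy
      rw [Set.mem_singleton_iff] at hy
      rw [hy]; exact x.2
    · exact le_inf inf_le_left (inf_le_right.trans (centralizer_le hTK))
  refine ⟨hsemi, ⟨⊥, ?_, ?_, ?_, ?_⟩, ?_⟩
  · exact ⟨⟨fun a b => Subsingleton.elim _ _⟩⟩
  · refine ⟨bot_le, ?_, ?_⟩
    · intro p hp hpd
      rw [Subgroup.card_bot] at hpd
      exact absurd (Nat.dvd_one.mp hpd) hp.one_lt.ne'
    · intro p hp hpπ hpd
      rw [relIndex_bot_left] at hpd
      exact hpπ.2.1 (mem_kappa_of_caseN hG hM hN hp hpd hpπ.2.2)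
  · intro k _
    rw [mem_normalizer_iff]
    intro h
    simp only [mem_bot]
    constructor
    · intro hh; rw [hh]; group
    · intro hh
      have : h = k⁻¹ * (k * h * k⁻¹) * k := by group
      rw [this, hh]; group
  · intro k _ _
    exact bot_inf_eq _
  · intro X hXK hXp
    have hX1 : X ≠ ⊥ := by
      intro h
      rw [h, Subgroup.card_bot] at hXp
      exact Nat.not_prime_one hXp
    have hKX : K ≤ normalizer (X : Set G) := hnorm X hXK hXp
    refine ⟨?_, ?_, ?_⟩
    · rw [inf_normalizer_eq_of_compl hKc hSn hXK hKX, hcent X hXK hX1]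
    · rw [inf_normalizer_eq_of_compl hKc hSn le_rfl le_normalizer]
    · intro Mstar hMstar hNX
      have hXM : X ≤ M := hXK.trans hK.1
      have hpK : Nat.card X ∣ Nat.card K := Subgroup.card_dvd_of_le hXK
      have hpκ : Nat.card X ∈ kappa M := hK.2.1 _ hXp hpK
      have hpM : Nat.card X ∣ Nat.card M := Subgroup.card_dvd_of_le hXM
      have hp13 := pRankLE_one_of_caseN hG hM hN hXp hpM hpκ.2.2.1
      have hC : sigmaCore M ⊓ centralizer (X : Set G) ≠ ⊥ := by
        rw [hcent X hXK hX1]; exact hne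
      have hσ : Nat.card X ∈ sigma Mstar := hLE M Mstar hM hMstar _ hp13 X rfl hXM hC hNX
      haveI : Fact (Nat.card X).Prime := ⟨hXp⟩
      have hXs : X ≤ Mstar := le_normalizer.trans hNX
      exact Cfsg.Agent.Lib.Helper47.BG11.le_sigmaCore_of_sigma
        (Cfsg.Agent.Lib.Helper47.BG11.sigmaHallIn_of_coatom hG hMstar) hσ hXs
        (IsPGroup.of_card (n := 1) (by rw [pow_one]))

end Cfsg.Agent.Lib.Helper19.BG1311
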