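import Mathlib
import Cfsg.Prelude.Def_OddOrderLocal

/-!
# The set `Ẑ = K K* ∖ (K ∪ K*)` (B&G section 14): TI and self-normalizing

Pure group theory: given two elementwise commuting subgroups `K`, `C` of coprime orders inside a
subgroup `M`, with `C ∩ gMg⁻¹ = 1` for `g ∉ M` and `K ∩ gKg⁻¹ = 1` for `g ∈ M ∖ KC`, the set
`KC ∖ (K ∪ C)` is a TI-subset of `G` with normalizer `KC`.
-/

set_option autoImplicit false

open Subgroup

namespace Cfsg.Agent.Lib.Helper19.BG14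

universe u
variable {G : Type u} [Group G]

/-- elements of a join of two elementwise commuting subgroups are products -/
theorem mem_sup_comm {K C : Subgroup G} (hc : ∀ k ∈ K, ∀ c ∈ C, k * c = c * k) {x : G}
    (hx : x ∈ K ⊔ C) : ∃ k ∈ K, ∃ c ∈ C, x = k * c := by
  let S : Subgroup G :=
    { carrier := {x | ∃ k ∈ K, ∃ c ∈ C, x = k * c}
      one_mem' := ⟨1, K.one_mem, 1, C.one_mem, by simp⟩
      mul_mem' := by
        rintro _ _ ⟨k1, hk1, c1, hc1, rfl⟩ ⟨k2, hk2, c2, hc2, rfl⟩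
        refine ⟨k1 * k2, K.mul_mem hk1 hk2, c1 * c2, C.mul_mem hc1 hc2, ?_⟩
        calc k1 * c1 * (k2 * c2) = k1 * (c1 * k2) * c2 := by group
          _ = k1 * (k2 * c1) * c2 := by rw [hc k2 hk2 c1 hc1]
          _ = k1 * k2 * (c1 * c2) := by group
      inv_mem' := by
        rintro _ ⟨k, hk, c, hcC, rfl⟩
        refine ⟨k⁻¹, K.inv_mem hk, c⁻¹, C.inv_mem hcC, ?_⟩
        have := hc k⁻¹ (K.inv_mem hk) c⁻¹ (C.inv_mem hcC)
        rw [mul_inv_rev, this] }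
  have h : K ⊔ C ≤ S :=
    sup_le (fun k hk => ⟨k, hk, 1, C.one_mem, by simp⟩)
      (fun c hcC => ⟨1, K.one_mem, c, hcC, by simp⟩)
  exact h hx

/-- a common element of two subgroups of coprime orders is trivial -/
theorem eq_one_of_coprime [Finite G] {K C : Subgroup G}
    (hcop : (Nat.card K).Coprime (Nat.card C)) {x : G} (hK : x ∈ K) (hC : x ∈ C) : x = 1 := by
  have h1 : orderOf x ∣ Nat.card K := by
    have := Subgroup.orderOf_dvd_natCard K hK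
    exact this
  have h2 : orderOf x ∣ Nat.card C := Subgroup.orderOf_dvd_natCard C hC
  have : orderOf x ∣ 1 := by
    have := Nat.dvd_gcd h1 h2
    rwa [hcop] at this
  exact orderOf_eq_one_iff.1 (Nat.dvd_one.1 this)

/-- power computations in `K × C`. -/
theorem pow_facts [Finite G] {K C : Subgroup G} (hc : ∀ k ∈ K, ∀ c ∈ C, k * c = c * k)
    (hcop : (Nat.card K).Coprime (Nat.card C)) {x : G} (hx : x ∈ K ⊔ C) :
    x ^ Nat.card K ∈ C ∧ x ^ Nat.card C ∈ K ∧ (x ∉ K → x ^ Nat.card K ≠ 1) ∧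
      (x ∉ C → x ^ Nat.card C ≠ 1) := by
  obtain ⟨k, hk, c, hcC, rfl⟩ := mem_sup_comm hc hx
  have hcomm : Commute k c := hc k hk c hcC
  have hkn : k ^ Nat.card K = 1 := by
    have h2 : ((⟨k, hk⟩ : K) ^ Nat.card K : K) = 1 := pow_card_eq_one'
    have h3 : (((⟨k, hk⟩ : K) ^ Nat.card K : K) : G) = k ^ Nat.card K := rfl
    rw [← h3, h2]; rfl
  have hcm : c ^ Nat.card C = 1 := by
    have h2 : ((⟨c, hcC⟩ : C) ^ Nat.card C : C) = 1 := pow_card_eq_one'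
    have h3 : (((⟨c, hcC⟩ : C) ^ Nat.card C : C) : G) = c ^ Nat.card C := rfl
    rw [← h3, h2]; rfl
  have e1 : (k * c) ^ Nat.card K = c ^ Nat.card K := by
    rw [hcomm.mul_pow, hkn, one_mul]
  have e2 : (k * c) ^ Nat.card C = k ^ Nat.card C := by
    rw [hcomm.mul_pow, hcm, mul_one]
  refine ⟨by rw [e1]; exact C.pow_mem hcC _, by rw [e2]; exact K.pow_mem hk _, ?_, ?_⟩
  · intro hnK h1
    rw [e1] at h1
    -- c^n = 1, c^m = 1 ⇒ c = 1
    have hc1 : c = 1 := by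
      have h1' : orderOf c ∣ Nat.card K := orderOf_dvd_of_pow_eq_one h1
      have h2' : orderOf c ∣ Nat.card C := orderOf_dvd_of_pow_eq_one hcm
      have : orderOf c ∣ 1 := by
        have := Nat.dvd_gcd h1' h2'
        rwa [hcop] at this
      exact orderOf_eq_one_iff.1 (Nat.dvd_one.1 this)
    apply hnK
    rw [hc1, mul_one]; exact hk
  · intro hnC h1
    rw [e2] at h1
    have hk1 : k = 1 := by
      have h1' : orderOf k ∣ Nat.card C := orderOf_dvd_of_pow_eq_one h1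
      have h2' : orderOf k ∣ Nat.card K := orderOf_dvd_of_pow_eq_one hkn
      have : orderOf k ∣ 1 := by
        have := Nat.dvd_gcd h2' h1'
        rwa [hcop] at this
      exact orderOf_eq_one_iff.1 (Nat.dvd_one.1 this)
    apply hnC
    rw [hk1, one_mul]; exact hcC

/-- **Key step**: if `x` and `g x g⁻¹` both lie in `Ẑ` then `g ∈ K C`. -/
theorem mem_of_conj_mem_zhat [Finite G] {M K C : Subgroup G}
    (hc : ∀ k ∈ K, ∀ c ∈ C, k * c = c * k)
    (hcop : (Nat.card K).Coprime (Nat.card C)) (hCM : C ≤ M)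
    (h1 : ∀ g : G, g ∉ M → C ⊓ M.map (MulAut.conj g).toMonoidHom = ⊥)
    (h2 : ∀ g ∈ M, g ∉ K ⊔ C → K ⊓ K.map (MulAut.conj g).toMonoidHom = ⊥)
    {x g : G} (hx : x ∈ (↑(K ⊔ C) : Set G) \ ((K : Set G) ∪ ↑C))
    (hgx : g * x * g⁻¹ ∈ (↑(K ⊔ C) : Set G) \ ((K : Set G) ∪ ↑C)) : g ∈ K ⊔ C := by
  obtain ⟨hxZ, hxn⟩ := hx
  obtain ⟨hgZ, hgn⟩ := hgx
  have hxK : x ∉ K := fun h => hxn (Or.inl h)
  have hxC : x ∉ C := fun h => hxn (Or.inr h)
  obtain ⟨a1, a2, a3, a4⟩ := pow_facts hc hcop hxZ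
  obtain ⟨b1, b2, _, _⟩ := pow_facts hc hcop hgZ
  have hconjpow : ∀ n : ℕ, (g * x * g⁻¹) ^ n = g * x ^ n * g⁻¹ := fun n => by
    rw [conj_pow]
  -- g ∈ M
  have hgM : g ∈ M := by
    by_contra hgM
    have hb := h1 g hgM
    have hmem : g * x ^ Nat.card K * g⁻¹ ∈ C ⊓ M.map (MulAut.conj g).toMonoidHom := by
      refine ⟨?_, ?_⟩
      · rw [← hconjpow]; exact b1
      · exact ⟨x ^ Nat.card K, hCM a1, by simp [MulAut.conj_apply]⟩
    rw [hb, Subgroup.mem_bot] at hmem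
    apply a3 hxK
    have : x ^ Nat.card K = g⁻¹ * (g * x ^ Nat.card K * g⁻¹) * g := by group
    rw [this, hmem]; group
  by_contra hgZ'
  have hb := h2 g hgM hgZ'
  have hmem : g * x ^ Nat.card C * g⁻¹ ∈ K ⊓ K.map (MulAut.conj g).toMonoidHom := by
    refine ⟨?_, ?_⟩
    · rw [← hconjpow]; exact b2
    · exact ⟨x ^ Nat.card C, a2, by simp [MulAut.conj_apply]⟩
  rw [hb, Subgroup.mem_bot] at hmem
  apply a4 hxC
  have : x ^ Nat.card C = g⁻¹ * (g * x ^ Nat.card C * g⁻¹) * g := by group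
  rw [this, hmem]; group

/-- `K C` normalizes `Ẑ`. -/
theorem le_normalizer_zhat {K C : Subgroup G}
    (hc : ∀ k ∈ K, ∀ c ∈ C, k * c = c * k) :
    K ⊔ C ≤ normalizer ((↑(K ⊔ C) : Set G) \ ((K : Set G) ∪ ↑C)) := by
  have hKn : K ⊔ C ≤ normalizer (K : Set G) := by
    refine sup_le le_normalizer ?_
    intro c hcC
    rw [mem_normalizer_iff]
    intro k
    have key : ∀ k' ∈ K, c * k' * c⁻¹ = k' := fun k' hk' => by
      rw [← hc k' hk' c hcC]; group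
    constructor
    · intro hk; rw [key k hk]; exact hk
    · intro hk
      have h3 : c⁻¹ * (c * k * c⁻¹) * c⁻¹⁻¹ = c * k * c⁻¹ := by
        have h4 := hc _ hk c⁻¹ (C.inv_mem hcC)
        calc c⁻¹ * (c * k * c⁻¹) * c⁻¹⁻¹ = (c⁻¹ * (c * k * c⁻¹)) * c⁻¹⁻¹ := by group
          _ = ((c * k * c⁻¹) * c⁻¹) * c⁻¹⁻¹ := by rw [h4]
          _ = c * k * c⁻¹ := by group
      have : k = c⁻¹ * (c * k * c⁻¹) * c⁻¹⁻¹ := by group
      rw [this, h3]; exact hk
  have hCn : K ⊔ C ≤ normalizer (C : Set G) := by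
    refine sup_le ?_ le_normalizer
    intro k hk
    rw [mem_normalizer_iff]
    intro c
    have key : ∀ c' ∈ C, k * c' * k⁻¹ = c' := fun c' hc' => by
      rw [hc k hk c' hc']; group
    constructor
    · intro hcC; rw [key c hcC]; exact hcC
    · intro hcC
      have h3 : k⁻¹ * (k * c * k⁻¹) * k⁻¹⁻¹ = k * c * k⁻¹ := by
        have h4 := hc k⁻¹ (K.inv_mem hk) _ hcC
        calc k⁻¹ * (k * c * k⁻¹) * k⁻¹⁻¹ = (k⁻¹ * (k * c * k⁻¹)) * k⁻¹⁻¹ := by group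
          _ = ((k * c * k⁻¹) * k⁻¹) * k⁻¹⁻¹ := by rw [h4]
          _ = k * c * k⁻¹ := by group
      have : c = k⁻¹ * (k * c * k⁻¹) * k⁻¹⁻¹ := by group
      rw [this, h3]; exact hcC
  intro g hg
  rw [mem_set_normalizer_iff]
  intro h
  have e1 : h ∈ K ⊔ C ↔ g * h * g⁻¹ ∈ K ⊔ C := by
    constructor
    · intro hh; exact (K ⊔ C).mul_mem ((K ⊔ C).mul_mem hg hh) ((K ⊔ C).inv_mem hg)
    · intro hh
      have : h = g⁻¹ * (g * h * g⁻¹) * g := by group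
      rw [this]
      exact (K ⊔ C).mul_mem ((K ⊔ C).mul_mem ((K ⊔ C).inv_mem hg) hh) hg
  have e2 : h ∈ K ↔ g * h * g⁻¹ ∈ K := (mem_normalizer_iff.1 (hKn hg)) h
  have e3 : h ∈ C ↔ g * h * g⁻¹ ∈ C := (mem_normalizer_iff.1 (hCn hg)) h
  simp only [Set.mem_sdiff, Set.mem_union, SetLike.mem_coe]
  rw [e1, e2, e3]

/-- **`Ẑ` is a TI-subset with normalizer `K C`.** -/
theorem zhat_ti [Finite G] {M K C : Subgroup G}
    (hc : ∀ k ∈ K, ∀ c ∈ C, k * c = c * k)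
    (hcop : (Nat.card K).Coprime (Nat.card C)) (hCM : C ≤ M)
    (h1 : ∀ g : G, g ∉ M → C ⊓ M.map (MulAut.conj g).toMonoidHom = ⊥)
    (h2 : ∀ g ∈ M, g ∉ K ⊔ C → K ⊓ K.map (MulAut.conj g).toMonoidHom = ⊥)
    (hK1 : K ≠ ⊥) (hC1 : C ≠ ⊥) :
    Cfsg.IsTISubset ((↑(K ⊔ C) : Set G) \ ((K : Set G) ∪ ↑C)) ∧
      normalizer ((↑(K ⊔ C) : Set G) \ ((K : Set G) ∪ ↑C)) = K ⊔ C := by
  have hnorm := le_normalizer_zhat (K := K) (C := C) hc
  refine ⟨?_, le_antisymm ?_ hnorm⟩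
  · intro g hg x hx hgx
    exact absurd (hnorm (mem_of_conj_mem_zhat hc hcop hCM h1 h2 hx hgx)) hg
  · intro g hg
    -- pick an element of Ẑ
    obtain ⟨k, hk, hk1⟩ := (Subgroup.ne_bot_iff_exists_ne_one).1 hK1 |> fun ⟨⟨k, hk⟩, h⟩ =>
      (⟨k, hk, fun e => h (Subtype.ext e)⟩ : ∃ k, k ∈ K ∧ k ≠ 1)
    obtain ⟨c, hcC, hc1⟩ := (Subgroup.ne_bot_iff_exists_ne_one).1 hC1 |> fun ⟨⟨c, hcC⟩, h⟩ =>
      (⟨c, hcC, fun e => h (Subtype.ext e)⟩ : ∃ c, c ∈ C ∧ c ≠ 1)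
    have hx : k * c ∈ (↑(K ⊔ C) : Set G) \ ((K : Set G) ∪ ↑C) := by
      refine ⟨(K ⊔ C).mul_mem ((le_sup_left : K ≤ K ⊔ C) hk) ((le_sup_right : C ≤ K ⊔ C) hcC), ?_⟩
      rintro (h | h)
      · have hcK : c ∈ K := by
          have : c = k⁻¹ * (k * c) := by group
          rw [this]; exact K.mul_mem (K.inv_mem hk) h
        exact hc1 (eq_one_of_coprime hcop hcK hcC)
      · have hkC : k ∈ C := by
          have : k = (k * c) * c⁻¹ := by group
          rw [this]; exact C.mul_mem h (C.inv_mem hcC)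
        exact hk1 (eq_one_of_coprime hcop hk hkC)
    have hgx := (mem_set_normalizer_iff.1 hg (k * c)).1 hx
    exact mem_of_conj_mem_zhat hc hcop hCM h1 h2 hx hgx

end Cfsg.Agent.Lib.Helper19.BG14
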