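import Cfsg.Agent.Lib.Helper6.Uni.Defs

/-! # S2314 hive, leaf UNI-A3 (helper19): the Steinberg class function is constant on cosets of a normal
subgroup contained in `B`. -/

set_option autoImplicit false

namespace Cfsg.Agent.Lib.Helper6.Uni

open Cfsg Cfsg.Agent.Lib.Helper6 Cfsg.Agent.Lib.Helper6.St

universe u

section A
variable {L : Type u} [Group L] [Fintype L]

omit [Fintype L] in
/-- a normal subgroup contained in `H` acts trivially on `L ⧸ H` -/
theorem a3_smul_eq (H V : Subgroup L) [V.Normal] (hVH : V ≤ H) (v : L) (hv : v ∈ V) (q : L ⧸ H) :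
    v • q = q := by
  induction q using QuotientGroup.induction_on with
  | H x =>
    rw [MulAction.Quotient.smul_mk, QuotientGroup.eq]
    apply hVH
    have h1 : (v * x)⁻¹ * x = x⁻¹ * v⁻¹ * x⁻¹⁻¹ := by group
    rw [smul_eq_mul, h1]
    exact Subgroup.Normal.conj_mem inferInstance _ (V.inv_mem hv) _

omit [Fintype L] in
theorem a3_fpc_mul_mem (H V : Subgroup L) [V.Normal] (hVH : V ≤ H) (g v : L) (hv : v ∈ V) :
    fixedPointCharacter H (g * v) = fixedPointCharacter H g := by
  unfold fixedPointCharacter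
  have : MulAction.fixedBy (L ⧸ H) (g * v) = MulAction.fixedBy (L ⧸ H) g := by
    ext q
    rw [MulAction.mem_fixedBy, MulAction.mem_fixedBy, mul_smul, a3_smul_eq H V hVH v hv q]
  rw [this]

/-- UNI-A3. A normal subgroup `V ≤ B` acts trivially on every `L ⧸ P_K`, so the Steinberg class function is
constant on the cosets of `V`. -/
theorem stChar_mul_mem (Q : Cfsg.BNPair L) (T : Finset L) (V : Subgroup L) [V.Normal] (hVB : V ≤ Q.B)
    (g v : L) (hv : v ∈ V) : stChar Q T (g * v) = stChar Q T g := by
  unfold stChar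
  refine Finset.sum_congr rfl (fun J _ => ?_)
  rw [a3_fpc_mul_mem (Q.parabolic (↑J : Set L)) V (hVB.trans le_sup_left) g v hv]

end A

end Cfsg.Agent.Lib.Helper6.Uni
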