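import Cfsg.Agent.Lib.Helper6.Uni.Defs

/-! # S2314 hive, leaf UNI-A2 (helper19): the cells `B n B` of a split (B,N)-pair of characteristic `p`
have cardinality `p ^ k * |B|`. -/

set_option autoImplicit false

namespace Cfsg.Agent.Lib.Helper6.Uni

open Cfsg Cfsg.Agent.Lib.Helper6 Cfsg.Agent.Lib.Helper6.St

universe u

section A
variable {L : Type u} [Group L] [Fintype L]

omit [Fintype L] in
theorem a2_conj_mem (Q : Cfsg.BNPair L) (n : L) (hn : n ∈ Q.N) (t : L) (ht : t ∈ Q.B ⊓ Q.N) :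
    n⁻¹ * t * n ∈ Q.B := by
  have := Q.conj_mem n⁻¹ (Q.N.inv_mem hn) t ht
  simpa using this

omit [Fintype L] in
/-- the cell `B n B` is the full preimage of the `U`-orbit of `n B` in `L ⧸ B` -/
theorem a2_C_eq (Q : Cfsg.BNPair L) (U : Subgroup L)
    (hUB : U ≤ Q.B) (hUn : Q.B ≤ Subgroup.normalizer (U : Set L)) (hUH : U ⊔ (Q.B ⊓ Q.N) = Q.B)
    (n : L) (hn : n ∈ Q.N) :
    C Q n = (QuotientGroup.mk : L → L ⧸ Q.B) ⁻¹' (MulAction.orbit U (QuotientGroup.mk n : L ⧸ Q.B)) := by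
  ext g
  rw [mem_C, Set.mem_preimage, MulAction.mem_orbit_iff]
  constructor
  · rintro ⟨x, hx, y, hy, rfl⟩
    have hx' : x ∈ (↑(U ⊔ (Q.B ⊓ Q.N)) : Set L) := by rw [hUH]; exact hx
    rw [Subgroup.coe_mul_of_right_le_normalizer_left U _ (inf_le_left.trans hUn)] at hx'
    obtain ⟨u, hu, h, hh, rfl⟩ := hx'
    refine ⟨⟨u, hu⟩, ?_⟩
    change u • (QuotientGroup.mk n : L ⧸ Q.B) = _
    rw [MulAction.Quotient.smul_mk, smul_eq_mul, QuotientGroup.eq]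
    have h1 : (u * n)⁻¹ * (u * h * n * y) = (n⁻¹ * h * n) * y := by group
    change (u * n)⁻¹ * (u * h * n * y) ∈ Q.B
    rw [h1]
    exact Q.B.mul_mem (a2_conj_mem Q n hn h hh) hy
  · rintro ⟨⟨u, hu⟩, h⟩
    change u • (QuotientGroup.mk n : L ⧸ Q.B) = _ at h
    rw [MulAction.Quotient.smul_mk, smul_eq_mul, QuotientGroup.eq] at h
    exact ⟨u, hUB hu, (u * n)⁻¹ * g, h, by group⟩

/-- UNI-A2. Cells have `p`-power index. -/
theorem card_C_ppow (Q : Cfsg.BNPair L) (p : ℕ) [Fact p.Prime] (U : Subgroup L)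
    (hUB : U ≤ Q.B) (hUp : IsPGroup p U) (hUn : Q.B ≤ Subgroup.normalizer (U : Set L)) (hUH : U ⊔ (Q.B ⊓ Q.N) = Q.B)
    (n : L) (hn : n ∈ Q.N) : ∃ k : ℕ, Nat.card (C Q n) = p ^ k * Nat.card Q.B := by
  obtain ⟨k, hk⟩ := hUp.card_orbit (QuotientGroup.mk n : L ⧸ Q.B)
  refine ⟨k, ?_⟩
  rw [a2_C_eq Q U hUB hUn hUH n hn,
    Nat.card_congr (QuotientGroup.preimageMkEquivSubgroupProdSet Q.B _), Nat.card_prod, hk, mul_comm]

end A

end Cfsg.Agent.Lib.Helper6.Uni
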