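import Mathlib
import Cfsg.Prelude.Def_ClassicalGeometry
import Cfsg.Prelude.Def_GeometricClasses
import Cfsg.Agent.Lib.Helper81.OnDefs
import Cfsg.Agent.Lib.Helper37.OrthSum
import Cfsg.Agent.Lib.Helper8.DicksonOmega
import Cfsg.Agent.Lib.Helper13.Orth

/-! # S5989 hive "On" (helper81), leaf ON-E1 `exists_split_elt` (helper19)

"Split" elements `x = diag(A, A⁻ᵀ)` of `O⁺_{2d}(q)`: `A` is `n` copies of the multiplication by an element of
order `r` of `F_{q^i}` (`i` the order of `q` mod `r`) and an identity block. -/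

set_option autoImplicit false

namespace Cfsg.Agent.Lib.Helper81.On

open Polynomial Module Matrix

/-- transport of an endomorphism with `T ^ r = 1` to a matrix -/
theorem e1_transport {F : Type*} [Field F] {M : Type*} [AddCommGroup M] [Module F M]
    [Module.Finite F M] (d : ℕ) (hd : finrank F M = d) (T : Module.End F M) (r : ℕ) (hr : 0 < r)
    (hT : T ^ r = 1) :
    ∃ A A' : Matrix (Fin d) (Fin d) F, A * A' = 1 ∧ A' * A = 1 ∧ A ^ r = 1 ∧
      finrank F (Cfsg.Agent.Lib.Helper8.fixSub A) = finrank F (LinearMap.ker (T - 1)) := by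
  classical
  let b : Basis (Fin d) F M := Module.finBasisOfFinrankEq F M hd
  refine ⟨LinearMap.toMatrix b b T, LinearMap.toMatrix b b (T ^ (r - 1)), ?_, ?_, ?_, ?_⟩
  · rw [← LinearMap.toMatrix_mul, ← pow_succ', Nat.sub_add_cancel hr, hT, LinearMap.toMatrix_one]
  · rw [← LinearMap.toMatrix_mul, ← pow_succ, Nat.sub_add_cancel hr, hT, LinearMap.toMatrix_one]
  · rw [LinearMap.toMatrix_pow, hT, LinearMap.toMatrix_one]
  · have hkey : ∀ y : M, LinearMap.toMatrix b b T *ᵥ (b.equivFun y) = b.equivFun (T y) := by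
      intro y
      exact LinearMap.toMatrix_mulVec_repr b b T y
    have : Cfsg.Agent.Lib.Helper8.fixSub (LinearMap.toMatrix b b T) =
        (LinearMap.ker (T - 1)).map (b.equivFun : M →ₗ[F] (Fin d → F)) := by
      ext x
      rw [Cfsg.Agent.Lib.Helper8.mem_fixSub, Submodule.mem_map]
      constructor
      · intro hx
        refine ⟨b.equivFun.symm x, ?_, by rw [LinearEquiv.coe_coe, LinearEquiv.apply_symm_apply]⟩
        rw [LinearMap.mem_ker, LinearMap.sub_apply, Module.End.one_apply, sub_eq_zero]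
        apply b.equivFun.injective
        rw [← hkey, LinearEquiv.apply_symm_apply]
        exact hx
      · rintro ⟨y, hy, rfl⟩
        rw [LinearMap.mem_ker, LinearMap.sub_apply, Module.End.one_apply, sub_eq_zero] at hy
        rw [LinearEquiv.coe_coe, hkey, hy]
    rw [this, LinearEquiv.finrank_map_eq]

/-- powers of a block diagonal matrix -/
theorem e1_fromBlocks_pow {F : Type*} [Field F] {d : ℕ} (A D : Matrix (Fin d) (Fin d) F) (k : ℕ) :
    (fromBlocks A 0 0 D) ^ k = fromBlocks (A ^ k) 0 0 (D ^ k) := by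
  induction k with
  | zero => rw [pow_zero, pow_zero, pow_zero, fromBlocks_one]
  | succ k ih =>
    rw [pow_succ, ih, fromBlocks_multiply, pow_succ, pow_succ]
    simp

/-- the fixed spaces of a matrix and of the transpose of its inverse have the same dimension -/
theorem e1_finrank_fixSub_transpose {F : Type*} [Field F] {d : ℕ} (A A' : Matrix (Fin d) (Fin d) F)
    (h1 : A * A' = 1) (h2 : A' * A = 1) :
    finrank F (Cfsg.Agent.Lib.Helper8.fixSub A'ᵀ) = finrank F (Cfsg.Agent.Lib.Helper8.fixSub A) := by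
  have e1 : Cfsg.Agent.Lib.Helper8.fixSub A' = Cfsg.Agent.Lib.Helper8.fixSub A := by
    ext v
    rw [Cfsg.Agent.Lib.Helper8.mem_fixSub, Cfsg.Agent.Lib.Helper8.mem_fixSub]
    constructor
    · intro h
      calc A *ᵥ v = A *ᵥ (A' *ᵥ v) := by rw [h]
        _ = v := by rw [mulVec_mulVec, h1, one_mulVec]
    · intro h
      calc A' *ᵥ v = A' *ᵥ (A *ᵥ v) := by rw [h]
        _ = v := by rw [mulVec_mulVec, h2, one_mulVec]
  have e2 := Cfsg.Agent.Lib.Helper8.rank_sub_one_add_finrank_fixSub A'ᵀ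
  have e3 := Cfsg.Agent.Lib.Helper8.rank_sub_one_add_finrank_fixSub A'
  have e4 : (A'ᵀ - 1).rank = (A' - 1).rank := by
    have : A'ᵀ - 1 = (A' - 1)ᵀ := by rw [transpose_sub, transpose_one]
    rw [this, rank_transpose]
  rw [← e1]
  omega

/-- the isometry `diag(A, A⁻ᵀ)` of the plus form -/
theorem e1_of_matrix {F : Type*} [Field F] (d : ℕ) (A A' : Matrix (Fin d) (Fin d) F)
    (h1 : A * A' = 1) (h2 : A' * A = 1) (r : ℕ) (hA : A ^ r = 1) :
    ∃ x : GL (Fin d ⊕ Fin d) F, x ∈ Cfsg.isometryGroup F (Cfsg.quadFormPlus d F) ∧ x ^ r = 1 ∧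
      finrank F (LinearMap.ker (Matrix.toLin' (x : Matrix (Fin d ⊕ Fin d) (Fin d ⊕ Fin d) F) - 1))
        = 2 * finrank F (Cfsg.Agent.Lib.Helper8.fixSub A) := by
  have hA' : A' ^ r = 1 := by
    have hc : Commute A' A := by
      show A' * A = A * A'
      rw [h1, h2]
    have := hc.mul_pow r
    rw [h2, one_pow, hA, mul_one] at this
    exact this.symm
  have hv : fromBlocks A 0 0 A'ᵀ * fromBlocks A' 0 0 Aᵀ = (1 : Matrix (Fin d ⊕ Fin d) (Fin d ⊕ Fin d) F) := by
    rw [fromBlocks_multiply, ← fromBlocks_one]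
    simp only [Matrix.mul_zero, Matrix.zero_mul, add_zero, zero_add]
    rw [h1, ← transpose_mul, h1, transpose_one]
  have hi : fromBlocks A' 0 0 Aᵀ * fromBlocks A 0 0 A'ᵀ = (1 : Matrix (Fin d ⊕ Fin d) (Fin d ⊕ Fin d) F) := by
    rw [fromBlocks_multiply, ← fromBlocks_one]
    simp only [Matrix.mul_zero, Matrix.zero_mul, add_zero, zero_add]
    rw [h2, ← transpose_mul, h2, transpose_one]
  refine ⟨⟨fromBlocks A 0 0 A'ᵀ, fromBlocks A' 0 0 Aᵀ, hv, hi⟩, ?_, ?_, ?_⟩
  · rw [Cfsg.Agent.Lib.Helper13.mem_isometryGroup_iff]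
    intro v
    show Cfsg.quadFormPlus d F (fromBlocks A 0 0 A'ᵀ *ᵥ v) = Cfsg.quadFormPlus d F v
    unfold Cfsg.quadFormPlus
    rw [fromBlocks_mulVec]
    simp only [Matrix.zero_mulVec, add_zero, zero_add, Sum.elim_inl, Sum.elim_inr]
    have e1 : ∑ i : Fin d, (A *ᵥ (v ∘ Sum.inl)) i * (A'ᵀ *ᵥ (v ∘ Sum.inr)) i =
        (A'ᵀ *ᵥ (v ∘ Sum.inr)) ⬝ᵥ (A *ᵥ (v ∘ Sum.inl)) := by
      unfold dotProduct
      exact Finset.sum_congr rfl (fun i _ => mul_comm _ _)
    rw [e1, dotProduct_mulVec, mulVec_transpose, vecMul_vecMul, h2, vecMul_one]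
    unfold dotProduct
    exact Finset.sum_congr rfl (fun i _ => mul_comm _ _)
  · apply Units.ext
    rw [Units.val_pow_eq_pow_val, Units.val_one]
    show (fromBlocks A 0 0 A'ᵀ) ^ r = 1
    rw [e1_fromBlocks_pow, hA, ← transpose_pow, hA', transpose_one, fromBlocks_one]
  · show finrank F (LinearMap.ker (Matrix.toLin' (fromBlocks A 0 0 A'ᵀ) - 1)) = _
    have e0 : Matrix.toLin' (fromBlocks A 0 0 A'ᵀ) - 1 =
        Matrix.toLin' (fromBlocks A 0 0 A'ᵀ - 1) := by
      rw [map_sub, Matrix.toLin'_one]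
      rfl
    rw [e0]
    have e1 := Cfsg.Agent.Lib.Helper37.finrank_fixSub_fromBlocks A A'ᵀ
    unfold Cfsg.Agent.Lib.Helper8.fixSub at e1
    rw [e1]
    have e2 := e1_finrank_fixSub_transpose A A' h1 h2
    unfold Cfsg.Agent.Lib.Helper8.fixSub at e2 ⊢
    omega

/-- the matrix `A`: `n` copies of the multiplication by an element of order `r` of `F_{q^i}`, and an identity
block of size `e` -/
theorem e1_exists_matrix {F : Type*} [Field F] [Fintype F] {p : ℕ} [Fact p.Prime] [CharP F p]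
    {r : ℕ} [Fact r.Prime] (n e i : ℕ) (hi : 0 < i) (hri : r ∣ Fintype.card F ^ i - 1) :
    ∃ A A' : Matrix (Fin (n * i + e)) (Fin (n * i + e)) F, A * A' = 1 ∧ A' * A = 1 ∧ A ^ r = 1 ∧
      finrank F (Cfsg.Agent.Lib.Helper8.fixSub A) = e := by
  classical
  have hrp : r.Prime := Fact.out
  have : NeZero i := ⟨hi.ne'⟩
  let L := FiniteField.Extension F p i
  have : Finite L := inferInstance
  let _ : Fintype L := Fintype.ofFinite L
  have hdimL : Module.finrank F L = i := FiniteField.finrank_extension F p i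
  have hcardL : Nat.card L = Fintype.card F ^ i := by
    rw [FiniteField.natCard_extension, Nat.card_eq_fintype_card]
  have hrU : r ∣ Nat.card Lˣ := by
    rw [Nat.card_units, hcardL]
    exact hri
  obtain ⟨ζ, hζ⟩ := exists_prime_orderOf_dvd_card' r hrU
  have hζ1 : ζ ≠ 1 := by
    rintro rfl
    rw [orderOf_one] at hζ
    exact hrp.one_lt.ne hζ
  have hζ1' : (ζ : L) ≠ 1 := fun h => hζ1 (Units.ext h)
  have hζr : (ζ : L) ^ r = 1 := by
    rw [← Units.val_pow_eq_pow_val, ← hζ, pow_orderOf_eq_one, Units.val_one]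
  let N := Fin n → L
  let W := Fin e → F
  let S : Module.End F N := Algebra.lsmul F F N (ζ : L)
  have hS : S ^ r = 1 := by
    show (Algebra.lsmul F F N (ζ : L)) ^ r = 1
    rw [← map_pow, hζr, map_one]
  let T : Module.End F (N × W) := LinearMap.prodMapRingHom F N W (S, 1)
  have hT : T ^ r = 1 := by
    show (LinearMap.prodMapRingHom F N W (S, 1)) ^ r = 1
    rw [← map_pow, Prod.pow_mk, hS, one_pow]
    exact map_one (LinearMap.prodMapRingHom F N W)
  have hTapp : ∀ y : N × W, T y = ((ζ : L) • y.1, y.2) := fun y => rfl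
  have hfr : finrank F (N × W) = n * i + e := by
    rw [Module.finrank_prod, Module.finrank_pi_fintype, Module.finrank_fintype_fun_eq_card,
      Fintype.card_fin]
    simp [hdimL]
  have hker : LinearMap.ker (T - 1) = LinearMap.ker (LinearMap.fst F N W) := by
    ext y
    rw [LinearMap.mem_ker, LinearMap.mem_ker, LinearMap.sub_apply, Module.End.one_apply, hTapp,
      LinearMap.fst_apply]
    constructor
    · intro h
      have h1 : (ζ : L) • y.1 - y.1 = 0 := by
        have := congrArg Prod.fst h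
        simpa using this
      have h2 : ((ζ : L) - 1) • y.1 = 0 := by rw [sub_smul, one_smul]; exact h1
      rcases smul_eq_zero.mp h2 with h3 | h3
      · exact absurd (sub_eq_zero.mp h3) hζ1'
      · exact h3
    · intro h
      apply Prod.ext
      · simp [h]
      · simp
  obtain ⟨A, A', h1, h2, h3, h4⟩ := e1_transport (n * i + e) hfr T r hrp.pos hT
  refine ⟨A, A', h1, h2, h3, ?_⟩
  rw [h4, hker, LinearMap.ker_fst, LinearMap.finrank_range_of_inj LinearMap.inr_injective,
    Module.finrank_fintype_fun_eq_card, Fintype.card_fin]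

section concrete

variable {F : Type*} [Field F]

local notation "Mat" d => Matrix (Fin d ⊕ Fin d) (Fin d ⊕ Fin d) F

section elements

variable [Fintype F] {p : ℕ} [Fact p.Prime] [CharP F p] {r : ℕ} [Fact r.Prime]

/-- ON-E1: "split" elements `x = diag(A, A⁻ᵀ)`: for `n * i ≤ d` (`i` = order of `q` mod `r`) an
isometry of `quadFormPlus d` with `x^r = 1` and fixed space of dimension `2d - 2 n i`. -/
theorem exists_split_elt (hrp : r ≠ p) (d n : ℕ)
    (hn : n * orderOf ((Fintype.card F : ℕ) : ZMod r) ≤ d) :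
    ∃ x : GL (Fin d ⊕ Fin d) F, x ∈ Cfsg.isometryGroup F (Cfsg.quadFormPlus d F) ∧ x ^ r = 1 ∧
      finrank F (LinearMap.ker (Matrix.toLin' (x : Mat d) - 1))
        = 2 * d - 2 * (n * orderOf ((Fintype.card F : ℕ) : ZMod r)) := by
  classical
  have hr : r.Prime := Fact.out
  by_cases hi : orderOf ((Fintype.card F : ℕ) : ZMod r) = 0
  · refine ⟨1, Subgroup.one_mem _, one_pow r, ?_⟩
    rw [hi, Units.val_one, Matrix.toLin'_one]
    have h0 : (LinearMap.id : (Fin d ⊕ Fin d → F) →ₗ[F] (Fin d ⊕ Fin d → F)) - 1 = 0 := sub_self _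
    rw [h0, LinearMap.ker_zero, finrank_top, Module.finrank_fintype_fun_eq_card]
    simp only [Fintype.card_sum, Fintype.card_fin]
    omega
  · have hipos : 0 < orderOf ((Fintype.card F : ℕ) : ZMod r) := Nat.pos_of_ne_zero hi
    have hri : r ∣ Fintype.card F ^ orderOf ((Fintype.card F : ℕ) : ZMod r) - 1 := by
      have h1 := pow_orderOf_eq_one (((Fintype.card F : ℕ) : ZMod r))
      have hpos : 1 ≤ Fintype.card F ^ orderOf ((Fintype.card F : ℕ) : ZMod r) :=
        Nat.one_le_pow _ _ Fintype.card_pos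
      rw [← ZMod.natCast_eq_zero_iff, Nat.cast_sub hpos, Nat.cast_pow, h1, Nat.cast_one, sub_self]
    obtain ⟨e, rfl⟩ := Nat.exists_eq_add_of_le hn
    obtain ⟨A, A', h1, h2, h3, h4⟩ := e1_exists_matrix (F := F) (p := p) (r := r) n e
      (orderOf ((Fintype.card F : ℕ) : ZMod r)) hipos hri
    obtain ⟨x, hx1, hx2, hx3⟩ := e1_of_matrix _ A A' h1 h2 r h3
    refine ⟨x, hx1, hx2, ?_⟩
    rw [hx3, h4]
    omega

end elements

end concrete

end Cfsg.Agent.Lib.Helper81.On
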