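import Cfsg.Agent.Lib.Helper41.PsDefs

/-!
# Ps hive (S4321, helper41), leaf PS23 (helper19): `ps_cG2`, `[G, b] ⊆ B`.
-/

set_option autoImplicit false

universe u

namespace Cfsg.Agent.Lib.Helper41.Ps

open Subgroup
open Cfsg.Agent.Lib.Helper22.Cg

/-- PS23 (G2). `[G, b] ⊆ B`. Uses `class(a) = a^P`, `class(a*b) = (a*b)^P`, `P` normal. -/
theorem ps_cG2 {G : Type u} [Group G] [Finite G] (p : ℕ) [Fact p.Prime] (P : Sylow p G)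
    (hN : ∀ g : G, ∀ y ∈ P, g * y * g⁻¹ ∈ P) (a b : G) (ha : a ∈ P) (hb : b ∈ P)
    (hbZ : ∀ y ∈ P, b * y = y * b)
    (hCa : ∀ g : G, ∃ y ∈ P, ∃ c : G, c * a = a * c ∧ g = y * c)
    (hCab : ∀ g : G, ∃ y ∈ P, ∃ c : G, c * (a * b) = (a * b) * c ∧ g = y * c)
    (B : Subgroup G) (hB : ∀ z : G, z ∈ B ↔ ∃ y ∈ P, z = y * a * y⁻¹ * a⁻¹)
    (hBZ : ∀ z ∈ B, z ∈ P ∧ ∀ u ∈ P, z * u = u * z) (g : G) :
    g * b * g⁻¹ * b⁻¹ ∈ B := by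
  obtain ⟨y, hy, c, hc, hg⟩ := hCa g
  obtain ⟨y', hy', c', hc', hg'⟩ := hCab g
  -- the two commutators in `B`
  have hφ : y * a * y⁻¹ * a⁻¹ ∈ B := (hB _).2 ⟨y, hy, rfl⟩
  have hφ' : y' * a * y'⁻¹ * a⁻¹ ∈ B := (hB _).2 ⟨y', hy', rfl⟩
  have hz : (y * a * y⁻¹ * a⁻¹)⁻¹ * (y' * a * y'⁻¹ * a⁻¹) ∈ B := B.mul_mem (B.inv_mem hφ) hφ'
  -- `g a g⁻¹ = y a y⁻¹`
  have h1 : g * a * g⁻¹ = y * a * y⁻¹ := by
    have h0 : c * a * c⁻¹ = a := by rw [hc]; group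
    calc g * a * g⁻¹ = y * (c * a * c⁻¹) * y⁻¹ := by rw [hg]; group
      _ = y * a * y⁻¹ := by rw [h0]
  -- `g (ab) g⁻¹ = y' a y'⁻¹ b`
  have h2 : g * (a * b) * g⁻¹ = y' * a * y'⁻¹ * b := by
    have h0 : c' * (a * b) * c'⁻¹ = a * b := by rw [hc']; group
    have hby : y' * b * y'⁻¹ = b := by
      have := hbZ y' hy'
      calc y' * b * y'⁻¹ = (b * y') * y'⁻¹ := by rw [this]
        _ = b := by group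
    calc g * (a * b) * g⁻¹ = y' * (c' * (a * b) * c'⁻¹) * y'⁻¹ := by rw [hg']; group
      _ = y' * (a * b) * y'⁻¹ := by rw [h0]
      _ = y' * a * y'⁻¹ * (y' * b * y'⁻¹) := by group
      _ = y' * a * y'⁻¹ * b := by rw [hby]
  -- hence `g b g⁻¹ = a⁻¹ z a b` with `z ∈ B`
  have h3 : g * b * g⁻¹ = (g * a * g⁻¹)⁻¹ * (g * (a * b) * g⁻¹) := by group
  have h4 : g * b * g⁻¹ * b⁻¹ =
      a⁻¹ * ((y * a * y⁻¹ * a⁻¹)⁻¹ * (y' * a * y'⁻¹ * a⁻¹)) * a := by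
    rw [h3, h1, h2]; group
  -- `z` commutes with `a ∈ P`
  have hcomm := (hBZ _ hz).2 a ha
  rw [h4]
  have h5 : a⁻¹ * ((y * a * y⁻¹ * a⁻¹)⁻¹ * (y' * a * y'⁻¹ * a⁻¹)) * a =
      (y * a * y⁻¹ * a⁻¹)⁻¹ * (y' * a * y'⁻¹ * a⁻¹) := by
    rw [mul_assoc, hcomm]; group
  rw [h5]
  exact hz

end Cfsg.Agent.Lib.Helper41.Ps
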