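import Cfsg.Agent.Lib.Helper19.BG124d
import Cfsg.Agent.Lib.Helper91.BG117C1
import Cfsg.Agent.Lib.Helper91.BG117A6
import Cfsg.Agent.Lib.Helper50.BG117End
import Cfsg.Agent.Lib.Helper47.BG117A4
import Cfsg.Agent.S1409
import Cfsg.Agent.S1414
import Cfsg.Agent.S1443

set_option autoImplicit false
set_option linter.style.haveILetI false
set_option linter.unusedSectionVars false

/-!
# Bender–Glauberman Theorem 11.7, the key step `(*)`

For exceptional data `(M, p, A₀, A)` and a prime `q ∉ σ(M)`, `q ≠ p`, the group `A` centralizes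
every normal `q`-subgroup of `M` (`hstar`).  This is the assembly of the pieces
`case1`, `a4`, `a6`, `bg117_end` following helper60's proof.
-/

namespace Cfsg.Agent.Lib.Helper19.BG117

open Subgroup Cfsg Cfsg.Agent.Lib.Helper33 Cfsg.Agent.Lib.Helper24 Cfsg.Agent.Lib.Helper32
open Cfsg.Agent.Lib.Helper24.BG Cfsg.Agent.Lib.Helper23 Cfsg.Agent.Lib.Helper63
open Cfsg.Agent.Lib.Helper47.BG11 Cfsg.Agent.Lib.Helper19.BG124

universe u

variable {G : Type u} [Group G] [Finite G]

/-- `q ∉ σ(M)` implies `r_q(M) ≤ 2` -/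
theorem pRankLE_two_of_not_sigma (hG : IsMinSimpleOddOrder G) {M : Subgroup G} (hM : IsCoatom M)
    {q : ℕ} (hq : q.Prime) (hqσ : q ∉ sigma M) : PRankLE q 2 M := by
  by_contra h
  exact hqσ (alpha_subset_sigma hG (uniqStmt hG) hM ⟨hq, h⟩)

/-- `q ∉ σ(M)` implies `q ∉ β(M)` -/
theorem not_beta_of_not_sigma (hG : IsMinSimpleOddOrder G) {M : Subgroup G} (hM : IsCoatom M)
    {q : ℕ} (hqσ : q ∉ sigma M) : q ∉ beta M :=
  fun h => hqσ (alpha_subset_sigma hG (uniqStmt hG) hM h.1)

/-- a coprime group of operators of an abelian `q`-group (`q` odd) centralizing all elements of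
order `q` centralizes the group (from S1443) -/
theorem le_centralizer_of_omega {q : ℕ} [Fact q.Prime] (hq2 : q ≠ 2) {Q A : Subgroup G}
    (hQq : IsPGroup q Q) (hAQ : A ≤ normalizer (Q : Set G)) (hcop : (Nat.card A).Coprime q)
    (hfix : ∀ x ∈ Q, x ^ q = 1 → ∀ a ∈ A, a * x = x * a) :
    A ≤ centralizer (Q : Set G) := by
  refine Cfsg.Agent.S1443.result q hq2 Q ⊥ A hQq bot_le ⟨?_, ?_⟩ hAQ hcop ?_
  · exact ⟨⟨fun a b => by
      have ha := a.2
      have hb := b.2
      rw [Subgroup.mem_bot] at ha hb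
      apply Subtype.ext
      simp [ha, hb]⟩⟩
  · intro a ha
    rw [Subgroup.mem_bot] at ha
    rw [ha, one_pow]
  · intro x hx hxo a ha
    rw [mem_centralizer_iff]
    intro y hy
    rw [Set.mem_singleton_iff] at hy
    subst hy
    have hxq : y ^ q = 1 := by rw [← hxo]; exact pow_orderOf_eq_one y
    exact (hfix y hx.1 hxq a ha).symm

theorem isCyclic_mulAut_of_card_prime {q : ℕ} [hq : Fact q.Prime] {B₀ : Subgroup G}
    (hB₀ : Nat.card B₀ = q) : IsCyclic (MulAut ↥B₀) := by
  haveI : IsCyclic ↥B₀ := isCyclic_of_prime_card hB₀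
  have e := IsCyclic.mulAutMulEquiv ↥B₀
  rw [hB₀] at e
  haveI : IsCyclic (ZMod q)ˣ := inferInstance
  exact isCyclic_of_surjective e.symm.toMonoidHom e.symm.surjective

/-- a non-cyclic elementary abelian group acting on a group of prime order has a nontrivial
kernel -/
theorem inf_centralizer_ne_bot {p q : ℕ} [hp : Fact p.Prime] [hq : Fact q.Prime]
    {A B₀ : Subgroup G} (hA : IsElementaryAbelian p A) (hAc : Nat.card A = p ^ 2)
    (hB₀ : Nat.card B₀ = q) (hAN : A ≤ normalizer (B₀ : Set G)) :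
    A ⊓ centralizer (B₀ : Set G) ≠ ⊥ := by
  classical
  intro hbot
  haveI := isCyclic_mulAut_of_card_prime hB₀
  let f : ↥A →* MulAut ↥B₀ := (B₀.normalizerMonoidHom).comp (Subgroup.inclusion hAN)
  have hinj : Function.Injective f := by
    rw [injective_iff_map_eq_one]
    intro a ha
    have h1 : Subgroup.inclusion hAN a ∈ (B₀.normalizerMonoidHom).ker := ha
    rw [normalizerMonoidHom_ker, mem_subgroupOf] at h1
    have h2 : (a : G) ∈ A ⊓ centralizer (B₀ : Set G) := ⟨a.2, h1⟩
    rw [hbot, mem_bot] at h2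
    exact Subtype.ext h2
  haveI : Fintype (MulAut ↥B₀) := Fintype.ofFinite _
  have hle := IsCyclic.card_pow_eq_one_le (α := MulAut ↥B₀) (n := p) hp.out.pos
  have h2 : Nat.card ↥A ≤ (Finset.univ.filter fun a : MulAut ↥B₀ => a ^ p = 1).card := by
    haveI : Fintype ↥A := Fintype.ofFinite _
    rw [Nat.card_eq_fintype_card (α := ↥A), ← Finset.card_univ]
    refine Finset.card_le_card_of_injOn (fun a => f a) ?_ (fun a _ b _ h => hinj h)
    intro a _
    simp only [Finset.coe_filter, Finset.mem_univ, true_and]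
    show f a ^ p = 1
    rw [← map_pow]
    have : a ^ p = 1 := Subtype.ext (by simpa using hA.2 a a.2)
    rw [this, map_one]
  rw [hAc] at h2
  have := hp.out.one_lt
  nlinarith [h2.trans hle]

end Cfsg.Agent.Lib.Helper19.BG117
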