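import Cfsg.Agent.Lib.Helper19.BG117H
import Cfsg.Agent.Lib.Helper51.NPC
import Cfsg.Agent.S1022
import Cfsg.Agent.Lib.Helper32.BG126
import Cfsg.Agent.Lib.Helper47.BG117A23
import Cfsg.Agent.Lib.Helper23.LargeFitD
set_option autoImplicit false
set_option linter.style.haveILetI false
set_option linter.unusedSectionVars false

/-!
# Bender–Glauberman Theorem 11.7, the key step `(*)`: assembly

`hstar` : for exceptional data `(M, p, A₀, A)` and a prime `q ∉ σ(M)`, `q ≠ p`, the group `A`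
centralizes every normal `q`-subgroup of `M`; `hstar'` : the same for `O_q(M)`, `q = p` included.
-/

namespace Cfsg.Agent.Lib.Helper19.BG117

open Subgroup Cfsg Cfsg.Agent.Lib.Helper33 Cfsg.Agent.Lib.Helper24 Cfsg.Agent.Lib.Helper32
open Cfsg.Agent.Lib.Helper24.BG Cfsg.Agent.Lib.Helper23 Cfsg.Agent.Lib.Helper63
open Cfsg.Agent.Lib.Helper47.BG11 Cfsg.Agent.Lib.Helper19.BG124 Cfsg.Agent.Lib.Helper47.BG117

universe u

variable {G : Type u} [Group G] [Finite G]

theorem le_normalizer_of_conj_mem {A B : Subgroup G}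
    (h : ∀ a ∈ A, ∀ x ∈ B, a * x * a⁻¹ ∈ B) : A ≤ normalizer (B : Set G) := by
  intro a ha
  rw [mem_normalizer_iff]
  intro x
  constructor
  · exact h a ha x
  · intro hx
    have := h a⁻¹ (inv_mem ha) _ hx
    simpa [mul_assoc] using this

/-- a normal subgroup of order `q ∉ σ(M)` of `M` makes `M` exceptional for `q` -/
theorem exc_of_normal_line (hG : IsMinSimpleOddOrder G) {M : Subgroup G} (hM : IsCoatom M)
    {q : ℕ} [hq : Fact q.Prime] (hqσ : q ∉ sigma M)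
    {B₀ : Subgroup G} (hB₀M : B₀ ≤ M) (hB₀n : M ≤ normalizer (B₀ : Set G))
    (hB₀c : Nat.card B₀ = q) :
    normalizer (B₀ : Set G) = M ∧ ¬ IsIdealPrime q G ∧ ∃ B₁ : Subgroup G, Exc M q B₀ B₁ := by
  have hU := uniqStmt hG
  have hB₀1 : B₀ ≠ ⊥ := by
    intro h
    rw [h, card_bot] at hB₀c
    exact hq.out.one_lt.ne hB₀c
  have hNB₀ : normalizer (B₀ : Set G) = M :=
    Cfsg.Agent.Lib.Helper91.BG117.normalizer_eq_of_coatom hG hM hB₀M hB₀1 hB₀n
  obtain ⟨⟨hr2, hr1⟩, B₁, hB₁e, hB₁c, hB₀B₁⟩ := BG10.bg10_6 hG hU hM hqσ hB₀c hNB₀.le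
  have hqi : ¬ IsIdealPrime q G := BG10.not_isIdealPrime hG hU hM hr2 hr1
  have hB₁M : B₁ ≤ M := by
    intro x hx
    apply hNB₀.le
    apply centralizer_le_normalizer
    rw [mem_centralizer_iff]
    intro y hy
    have := hB₁e.1.is_comm.comm ⟨y, hB₀B₁ hy⟩ ⟨x, hx⟩
    exact congrArg Subtype.val this
  exact ⟨hNB₀, hqi, B₁,
    BG12.exc_of_not_sigma hG hM hqσ hB₁M hB₁e hB₁c hB₀B₁ hB₀c hNB₀.le⟩

/-- the case of a normal subgroup `B₀` of order `q` -/
theorem hstar_case2 (hG : IsMinSimpleOddOrder G) {M A₀ A : Subgroup G} {p : ℕ} [hp : Fact p.Prime]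
    (e : Exc M p A₀ A) {q : ℕ} [hq : Fact q.Prime] (hqσ : q ∉ sigma M) (hqp : q ≠ p)
    {B₀ : Subgroup G} (hB₀M : B₀ ≤ M) (hB₀n : M ≤ normalizer (B₀ : Set G))
    (hB₀c : Nat.card B₀ = q) (hnc : ¬ A ≤ centralizer (B₀ : Set G)) : False := by
  have hM := e.coatom
  have hU := uniqStmt hG
  have hσH := sigmaHallIn hG hM
  obtain ⟨hNB₀, hqi, B₁, e1⟩ := exc_of_normal_line hG hM hqσ hB₀M hB₀n hB₀c
  have hB₀q : IsPGroup q B₀ := IsPGroup.of_card (n := 1) (by rw [hB₀c, pow_one])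
  -- `X = C_A(B₀)` has order `p` and `p < q`
  have hAN : A ≤ normalizer (B₀ : Set G) := e.le.trans hB₀n
  have hX1 : A ⊓ centralizer (B₀ : Set G) ≠ ⊥ := inf_centralizer_ne_bot e.elem e.card hB₀c hAN
  have hXA : A ⊓ centralizer (B₀ : Set G) ≤ A := inf_le_left
  have hXne : A ⊓ centralizer (B₀ : Set G) ≠ A := fun h => hnc (h ▸ inf_le_right)
  have hXc : Nat.card ↥(A ⊓ centralizer (B₀ : Set G)) = p := by
    rcases Ward.card_eq_of_le_of_card_sq hp.out e.card hXA with h | h | h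
    · exact absurd (Subgroup.card_eq_one.mp h) hX1
    · exact h
    · exact absurd h hXne
  have hplt : p < q := by
    have hdvd := Cfsg.Agent.S1022.relIndex_centralizer_dvd_pred hq.out B₀ hB₀c A hAN
    have h1 := Subgroup.relIndex_mul_relIndex (⊥ : Subgroup G) _ A bot_le hXA
    rw [Subgroup.relIndex_bot_left, Subgroup.relIndex_bot_left, inf_relIndex_left, hXc,
      e.card] at h1
    have h2 : (centralizer (B₀ : Set G)).relIndex A = p := by
      have hp0 := hp.out.pos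
      have : p * (centralizer (B₀ : Set G)).relIndex A = p * p := by rw [h1]; ring
      exact Nat.eq_of_mul_eq_mul_left hp0 this
    rw [h2] at hdvd
    have := Nat.le_of_dvd (by have := hq.out.one_lt; omega) hdvd
    have := hq.out.one_lt
    omega
  -- an `A`-invariant Sylow `q`-subgroup of `M`
  have hpβ : p ∉ beta M := not_beta_of_not_sigma hG hM e.notSigma
  have hpM : p ∣ Nat.card M := by
    have h1 : Nat.card A ∣ Nat.card M := Subgroup.card_dvd_of_le e.le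
    rw [e.card] at h1
    exact dvd_trans (dvd_pow_self p (by norm_num)) h1
  obtain ⟨S, hSM, hSq, hSi, hAS⟩ :=
    exists_invariant_sylow_of_lt hG hM hplt hpβ hpM e.le e.isPGroup
  -- an `E_{q²}`-subgroup `B` of `S` containing `B₀`
  obtain ⟨m, hmM, hB₁S⟩ := Cfsg.Agent.Lib.Helper51.exists_cj_le M S B₁ hSM hSq hSi e1.le e1.isPGroup
  have hBS : cj m⁻¹ B₁ ≤ S := le_cj_iff.mp hB₁S
  have hBM : cj m⁻¹ B₁ ≤ M := hBS.trans hSM
  have hB₀B : B₀ ≤ cj m⁻¹ B₁ := by
    have h1 : cj m⁻¹ B₀ = B₀ := cj_eq_self_iff.mpr (hB₀n (inv_mem hmM))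
    rw [← h1]
    exact cj_mono e1.le₀
  have e2 : Exc M q B₀ (cj m⁻¹ B₁) :=
    BG12.exc_of_not_sigma hG hM hqσ hBM (elemAb_cj e1.elem _) (by rw [card_cj, e1.card]) hB₀B
      hB₀c hNB₀.le
  obtain ⟨hSab, hSΩ⟩ := e2.bg_11_5 hG hSq hSM hSi hBS
  set B := cj m⁻¹ B₁ with hBdef
  -- `A` normalizes `B = Ω₁(S)`
  have hAB : A ≤ normalizer (B : Set G) := by
    apply le_normalizer_of_conj_mem
    intro a ha x hx
    apply hSΩ
    · exact (mem_normalizer_iff.mp (hAS ha) x).mp (hBS hx)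
    · rw [conj_pow, e2.elem.2 x hx, mul_one, mul_inv_cancel]
  -- (a3), (a4)
  have hfpf := fpf_lines hG e2 hB₀n
  obtain ⟨A₁, A₂, hA₁, hA₂, hA₁c, hA₂c, hne12, hf₁, hf₂⟩ := e.bg_11_6_c hG
  have hMσ : M ≤ normalizer ((sigmaCore M : Subgroup G) : Set G) := BG.le_normalizer_sigmaCore M
  have hpW : ¬ p ∣ Nat.card ↥(sigmaCore M) := fun h =>
    e.notSigma (mem_sigma_of_dvd_card_le le_rfl hp.out h)
  have hqW : ¬ q ∣ Nat.card ↥(sigmaCore M) := fun h =>
    hqσ (mem_sigma_of_dvd_card_le le_rfl hq.out h)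
  obtain ⟨B', hB'B, hB'c, hB'ne, hB'inf, hB'sup, hAB'⟩ :=
    Cfsg.Agent.Lib.Helper47.BG117.a4 hG (Ne.symm hqp) hM.1 e.le hBM e.elem e.card e2.elem e2.card
      hB₀B hB₀c hAB hAN (e.bg_11_3 hG) (sigmaCore_ne_bot hG hM) (e.le.trans hMσ) (hBM.trans hMσ)
      hpW hqW hfpf hA₁ hA₂ hA₁c hA₂c hne12 hf₁ hf₂
  -- (a5)
  have hB'A : B' ≤ centralizer (A : Set G) := Subgroup.le_centralizer_iff.mp hAB'
  have hqC : q ∣ Nat.card (centralizer (A : Set G)) := by
    have := Subgroup.card_dvd_of_le hB'A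
    rwa [hB'c] at this
  have hXB : A ⊓ centralizer (B₀ : Set G) ≤ centralizer (B : Set G) := by
    rw [Subgroup.le_centralizer_iff, ← hB'sup]
    refine sup_le ?_ ?_
    · exact Subgroup.le_centralizer_iff.mp inf_le_right
    · exact Subgroup.le_centralizer_iff.mp (inf_le_left.trans hAB')
  -- hab
  have hab : ∀ T : Subgroup G, IsPGroup q T → T ≤ M → B ≤ T →
      (∀ x ∈ T, ∀ y ∈ T, x * y = y * x) ∧ ∀ x ∈ T, x ^ q = 1 → x ∈ B := by
    intro T hTq hTM hBT
    obtain ⟨P, hTP⟩ := BG12.exists_sylow_map_ge hTM hTq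
    obtain ⟨hPM, hPq, hPi⟩ := sylow_map_facts M P
    obtain ⟨h1, h2⟩ := e2.bg_11_5 hG hPq hPM hPi (hBT.trans hTP)
    exact ⟨fun x hx y hy => h1 x (hTP hx) y (hTP hy), fun x hx hxq => h2 x (hTP hx) hxq⟩
  -- (a6)
  have hNA : normalizer (A : Set G) ≤ normalizer ((A ⊓ centralizer (B₀ : Set G) : Subgroup G) : Set G) :=
    Cfsg.Agent.Lib.Helper91.BG117.a6 hG (stmt1410 hG) e hqp hNB₀.le hB₀B hBM e2.isPGroup hAB rfl hXB
      hqC hab
  -- a Sylow `p`-subgroup `P ≥ A` of `M`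
  obtain ⟨P, hAP⟩ := BG12.exists_sylow_map_ge e.le e.isPGroup
  obtain ⟨hPM, hPp, hPi⟩ := sylow_map_facts M P
  obtain ⟨hPab, hPΩ⟩ := e.bg_11_5 hG hPp hPM hPi hAP
  have hNP : normalizer ((((P : Subgroup M).map M.subtype : Subgroup G)) : Set G) ≤
      normalizer ((A ⊓ centralizer (B₀ : Set G) : Subgroup G) : Set G) := by
    refine le_trans ?_ hNA
    apply le_normalizer_of_conj_mem
    intro n hn a ha
    apply hPΩ
    · exact (mem_normalizer_iff.mp hn a).mp (hAP ha)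
    · rw [conj_pow, e.elem.2 a ha, mul_one, mul_inv_cancel]
  have hr2p : PRankLE p 2 M := pRankLE_two_of_not_sigma hG hM hp.out e.notSigma
  have hr1p : ¬ PRankLE p 1 M := by
    intro h
    have := BG10.card_le_of_pRankLE h e.le e.elem
    rw [e.card] at this
    have := hp.out.one_lt
    nlinarith
  have hpi : ¬ IsIdealPrime p G := BG10.not_isIdealPrime hG hU hM hr2p hr1p
  exact Cfsg.Agent.Lib.Helper50.BG117.bg117_end hG
    (fun H hH => (Cfsg.Agent.S1414.result hG H hH).2.2.2.1) (fun H hH => sigmaHallIn hG hH)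
    (Ne.symm hqp) hpi hqi hPM hPp hPi hAP e.card hPΩ e.cent_le inf_le_left hXc hNP hB₀q hAN
    (Subgroup.le_centralizer_iff.mp inf_le_right) hnc

/-- **The key step `(*)` of B&G Theorem 11.7**: `A` centralizes every normal `q`-subgroup of `M`
for `q ∉ σ(M)`, `q ≠ p`. -/
theorem hstar (hG : IsMinSimpleOddOrder G) {M A₀ A : Subgroup G} {p : ℕ} [hp : Fact p.Prime]
    (e : Exc M p A₀ A) {q : ℕ} [hq : Fact q.Prime] (hqσ : q ∉ sigma M) (hqp : q ≠ p)
    {Q : Subgroup G} (hQq : IsPGroup q Q) (hQM : Q ≤ M) (hQn : M ≤ normalizer (Q : Set G)) :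
    A ≤ centralizer (Q : Set G) := by
  by_contra hnc
  have hM := e.coatom
  have hU := uniqStmt hG
  have hσH := sigmaHallIn hG hM
  have hQ1 : Q ≠ ⊥ := by
    rintro rfl
    apply hnc
    intro a _
    rw [mem_centralizer_iff]
    intro y hy
    have : y = 1 := by simpa using hy
    subst this
    simp
  have hr2 : PRankLE q 2 M := pRankLE_two_of_not_sigma hG hM hq.out hqσ
  have hZQ : omegaCenter q Q ≤ Q := fun x hx => hx.1
  have hZM : omegaCenter q Q ≤ M := hZQ.trans hQM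
  have hZe : IsElementaryAbelian q (omegaCenter q Q) :=
    ⟨⟨⟨fun a b => Subtype.ext (b.2.2.1 a a.2.1)⟩⟩, fun x hx => hx.2.2⟩
  have hZn : M ≤ normalizer ((omegaCenter q Q : Subgroup G) : Set G) :=
    hQn.trans (le_normalizer_omegaCenter q Q)
  have hZ1 : omegaCenter q Q ≠ ⊥ := by
    obtain ⟨w, hwQ, hwc, hw1, hwq⟩ := exists_central_order_p hQq hQ1
    intro h
    have hw : w ∈ omegaCenter q Q := ⟨hwQ, fun y hy => mem_centralizer_iff.mp hwc y hy, hwq⟩
    rw [h, mem_bot] at hw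
    exact hw1 hw
  have hZle : Nat.card ↥(omegaCenter q Q) ≤ q ^ 2 := BG10.card_le_of_pRankLE hr2 hZM hZe
  have hZp : IsPGroup q ↥(omegaCenter q Q) := hQq.to_le hZQ
  obtain ⟨k, hk⟩ := hZp.exists_card_eq
  have hq1 := hq.out.one_lt
  have hk0 : k ≠ 0 := by
    rintro rfl
    rw [pow_zero] at hk
    exact hZ1 (Subgroup.card_eq_one.mp hk)
  have hk2 : k ≤ 2 := by
    by_contra h
    push Not at h
    have : q ^ 3 ≤ q ^ k := Nat.pow_le_pow_right hq.out.pos h
    have h3 : q ^ 2 < q ^ 3 := Nat.pow_lt_pow_right hq1 (by norm_num)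
    omega
  have hk12 : k = 1 ∨ k = 2 := by omega
  rcases hk12 with rfl | rfl
  · -- `Ω₁(Z(Q))` of order `q`
    rw [pow_one] at hk
    obtain ⟨-, -, B₁, e1⟩ := exc_of_normal_line hG hM hqσ hZM hZn hk
    -- `Q` is abelian
    obtain ⟨P, hQP⟩ := BG12.exists_sylow_map_ge hQM hQq
    obtain ⟨hPM, hPq, hPi⟩ := sylow_map_facts M P
    have hPab := e1.bg_11_5_any hG hPq hPM hPi
    have hq2 : q ≠ 2 := by
      rintro rfl
      have h1 : 2 ∣ Nat.card G := by
        have : Nat.card ↥(omegaCenter 2 Q) ∣ Nat.card G := Subgroup.card_subgroup_dvd_card _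
        rwa [hk] at this
      have h2 := hG.1
      rw [Nat.odd_iff] at h2
      omega
    have hcop : (Nat.card A).Coprime q := by
      rw [e.card]
      exact Nat.Coprime.pow_left 2 ((Nat.coprime_primes hp.out hq.out).mpr (Ne.symm hqp))
    apply hstar_case2 hG e hqσ hqp hZM hZn hk
    intro hAZ
    apply hnc
    apply le_centralizer_of_omega hq2 hQq (e.le.trans hQn) hcop
    intro x hx hxq a ha
    have hxZ : x ∈ omegaCenter q Q :=
      ⟨hx, fun y hy => hPab y (hQP hy) x (hQP hx), hxq⟩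
    exact (mem_centralizer_iff.mp (hAZ ha) x hxZ).symm
  · -- `Ω₁(Z(Q))` of order `q²`: case 1
    have hr1 : ¬ PRankLE q 1 M := by
      intro h
      have := BG10.card_le_of_pRankLE h hZM hZe
      rw [hk] at this
      nlinarith
    exact Cfsg.Agent.Lib.Helper91.BG117.case1 hG (stmt1410 hG) hM hσH (sigmaCore_ne_bot hG hM) hqσ
      hZM hZn hZe hk (fun B' hB' hZB' => BG10.max_elemAb hG hU hM hr2 hZM hZe hk hB' hZB')

/-- `(*)` in the shape consumed by the reduction of 11.7 (the prime `p` included) -/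
theorem hstar' (hG : IsMinSimpleOddOrder G) {M A₀ A : Subgroup G} {p : ℕ} [hp : Fact p.Prime]
    (e : Exc M p A₀ A) : ∀ q : ℕ, q.Prime → q ∉ sigma M →
      A ≤ centralizer ((Cfsg.Agent.Lib.Helper23.pCoreOf q M : Subgroup G) : Set G) := by
  intro q hq hqσ
  haveI : Fact q.Prime := ⟨hq⟩
  by_cases hqp : q = p
  · subst hqp
    obtain ⟨P, hAP⟩ := BG12.exists_sylow_map_ge e.le e.isPGroup
    obtain ⟨hPM, hPp, hPi⟩ := sylow_map_facts M P
    have hPab := e.bg_11_5_any hG hPp hPM hPi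
    have hOP := Cfsg.Agent.Lib.Helper23.pCoreOf_le_of_sylowIn hPM hPp hPi
    intro a ha
    rw [mem_centralizer_iff]
    intro y hy
    exact hPab y (hOP hy) a (hAP ha)
  · exact hstar hG e hqσ hqp (Cfsg.Agent.Lib.Helper23.isPGroup_pCoreOf q M)
      (Cfsg.Agent.Lib.Helper23.pCoreOf_le q M) (Cfsg.Agent.Lib.Helper23.le_normalizer_pCoreOf q M)

end Cfsg.Agent.Lib.Helper19.BG117
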