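import Cfsg.Agent.Lib.Helper19.BG117H2
import Cfsg.Agent.Lib.Helper24.PLenOne
import Cfsg.Agent.Lib.Helper48.CoprimeGen
import Cfsg.Agent.Lib.Helper55.Cores

set_option autoImplicit false
set_option linter.style.haveILetI false
set_option linter.unusedSectionVars false

/-!
# Bender–Glauberman Theorem 11.7: the reduction (R2bc)

`r2_of_cent` : if `A` centralizes every `A`-invariant `r`-subgroup of `M` for the primes
`r ∉ σ(M)`, `r ≠ p`, then `M_σ A` is normal in `M`.
-/

namespace Cfsg.Agent.Lib.Helper19.BG117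

open Subgroup Cfsg Cfsg.Agent.Lib.Helper33 Cfsg.Agent.Lib.Helper24 Cfsg.Agent.Lib.Helper32
open Cfsg.Agent.Lib.Helper24.BG Cfsg.Agent.Lib.Helper23 Cfsg.Agent.Lib.Helper63
open Cfsg.Agent.Lib.Helper47.BG11 Cfsg.Agent.Lib.Helper19.BG124 Cfsg.Agent.Lib.Helper47.BG117

universe u

variable {G : Type u} [Group G] [Finite G]

theorem le_normalizer_sup {X H K : Subgroup G} (h1 : X ≤ normalizer (H : Set G))
    (h2 : X ≤ normalizer (K : Set G)) : X ≤ normalizer ((H ⊔ K : Subgroup G) : Set G) := by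
  intro x hx
  rw [← cj_eq_self_iff, cj_sup, cj_eq_self_iff.mpr (h1 hx), cj_eq_self_iff.mpr (h2 hx)]

/-- **(R2bc)** of the reduction of B&G Theorem 11.7. -/
theorem r2_of_cent (hG : IsMinSimpleOddOrder G) {M A₀ A : Subgroup G} {p : ℕ} [hp : Fact p.Prime]
    (e : Exc M p A₀ A)
    (hcent : ∀ r : ℕ, r.Prime → r ∉ sigma M → r ≠ p → ∀ R : Subgroup G, R ≤ M → IsPGroup r R →
      A ≤ normalizer (R : Set G) → A ≤ centralizer (R : Set G)) :
    M ≤ normalizer ((sigmaCore M ⊔ A : Subgroup G) : Set G) := by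
  have hM := e.coatom
  have hσH := sigmaHallIn hG hM
  have hMσ : M ≤ normalizer ((sigmaCore M : Subgroup G) : Set G) := BG.le_normalizer_sigmaCore M
  obtain ⟨S, hAS⟩ := BG12.exists_sylow_map_ge e.le e.isPGroup
  obtain ⟨hPM, hPp, hPi⟩ := sylow_map_facts M S
  obtain ⟨hPab, hPΩ⟩ := e.bg_11_5 hG hPp hPM hPi hAS
  have hpl : PLengthLE p 1 ↥M := stmt1410 hG p M hM.1
  obtain ⟨-, htop⟩ := plen_one_struct hpl S
  have hKM : (pPrimeCore p ↥M).map M.subtype ≤ M := map_subtype_le _
  have hKn : M ≤ normalizer ((((pPrimeCore p ↥M).map M.subtype : Subgroup G)) : Set G) :=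
    le_normalizer_map_of_normal M (pPrimeCore p ↥M)
  have hKcop : (Nat.card ↥((pPrimeCore p ↥M).map M.subtype)).Coprime p := by
    rw [card_map_of_injective M.subtype_injective]
    exact Cfsg.Agent.Lib.Helper55.pPrimeCore_card_coprime p
  -- Step 1: `K = O_{p'}(M)` normalizes `M_σ A`
  have hK_le : (pPrimeCore p ↥M).map M.subtype ≤
      normalizer ((sigmaCore M ⊔ A : Subgroup G) : Set G) := by
    have key := Cfsg.Agent.Lib.Helper48.le_of_forall_sylow_le ((pPrimeCore p ↥M).map M.subtype)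
      ((pPrimeCore p ↥M).map M.subtype ⊓ normalizer ((sigmaCore M ⊔ A : Subgroup G) : Set G))
      inf_le_left ?_
    · exact key.trans inf_le_right
    intro r hr
    have hcop : (Nat.card A).Coprime (Nat.card ↥((pPrimeCore p ↥M).map M.subtype)) := by
      rw [e.card]
      exact Nat.Coprime.pow_left 2 hKcop.symm
    obtain ⟨R, hAR⟩ := Cfsg.Agent.Lib.Helper24.exists_invariant_sylow (p := r) A
      ((pPrimeCore p ↥M).map M.subtype) (e.le.trans hKn) hcop (Or.inl (e.solvable hG))
    refine ⟨R, le_inf (map_subtype_le _) ?_⟩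
    have hR'M : (R : Subgroup ↥((pPrimeCore p ↥M).map M.subtype)).map
        ((pPrimeCore p ↥M).map M.subtype).subtype ≤ M := (map_subtype_le _).trans hKM
    have hR'r : IsPGroup r ↥((R : Subgroup ↥((pPrimeCore p ↥M).map M.subtype)).map
        ((pPrimeCore p ↥M).map M.subtype).subtype) := R.2.map _
    by_cases hrσ : r ∈ sigma M
    · exact (le_sigmaCore_of_sigma hσH hrσ hR'M hR'r).trans (le_sup_left.trans le_normalizer)
    · by_cases hrp : r = p
      · subst hrp
        have h1 : Nat.card ↥((R : Subgroup ↥((pPrimeCore r ↥M).map M.subtype)).map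
            ((pPrimeCore r ↥M).map M.subtype).subtype) ∣
            Nat.card ↥((pPrimeCore r ↥M).map M.subtype) :=
          Subgroup.card_dvd_of_le (map_subtype_le _)
        obtain ⟨k, hk⟩ := hR'r.exists_card_eq
        have hk0 : k = 0 := by
          by_contra h
          have h2 : r ∣ Nat.card ↥((pPrimeCore r ↥M).map M.subtype) :=
            dvd_trans (hk ▸ dvd_pow_self r h) h1
          exact (Nat.Prime.coprime_iff_not_dvd hr.out).mp hKcop.symm h2
        rw [hk0, pow_zero] at hk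
        rw [Subgroup.card_eq_one.mp hk]
        exact bot_le
      · have hc := hcent r hr.out hrσ hrp _ hR'M hR'r hAR
        exact le_normalizer_sup (hR'M.trans hMσ)
          ((Subgroup.le_centralizer_iff.mp hc).trans (centralizer_le_normalizer _))
  -- Step 2: `N_M(P)` normalizes `M_σ A`
  have hN_le : (normalizer ((S : Subgroup ↥M) : Set ↥M)).map M.subtype ≤
      normalizer ((sigmaCore M ⊔ A : Subgroup G) : Set G) := by
    apply le_normalizer_sup ((map_subtype_le _).trans hMσ)
    apply le_normalizer_of_conj_mem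
    rintro _ ⟨n, hn, rfl⟩ a ha
    apply hPΩ
    · obtain ⟨s, hs, hsa⟩ := hAS ha
      refine ⟨n * s * n⁻¹, (mem_normalizer_iff.mp hn s).mp hs, ?_⟩
      rw [← hsa]
      simp
    · rw [conj_pow, e.elem.2 a ha, mul_one, mul_inv_cancel]
  -- Step 3
  have h1 : pPrimeCore p ↥M ≤
      (normalizer ((sigmaCore M ⊔ A : Subgroup G) : Set G)).subgroupOf M := by
    intro k hk
    rw [mem_subgroupOf]
    exact hK_le ⟨k, hk, rfl⟩
  have h2 : normalizer ((S : Subgroup ↥M) : Set ↥M) ≤
      (normalizer ((sigmaCore M ⊔ A : Subgroup G) : Set G)).subgroupOf M := by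
    intro n hn
    rw [mem_subgroupOf]
    exact hN_le ⟨n, hn, rfl⟩
  have h3 : (⊤ : Subgroup ↥M) ≤
      (normalizer ((sigmaCore M ⊔ A : Subgroup G) : Set G)).subgroupOf M := htop ▸ sup_le h1 h2
  intro m hm
  have := h3 (mem_top (⟨m, hm⟩ : ↥M))
  rwa [mem_subgroupOf] at this

end Cfsg.Agent.Lib.Helper19.BG117
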