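import Cfsg.Agent.Lib.Helper19.BG124c
import Cfsg.Agent.Lib.Helper96.BG103
import Cfsg.Agent.S1404

set_option autoImplicit false
set_option linter.style.haveILetI false
set_option linter.unusedSectionVars false

/-!
# Bender–Glauberman Proposition 12.4 (statement S1416), from Lemma 12.3

`bg124 hG h123` : for a maximal subgroup `M` and `A ≤ M` elementary abelian of order `p²`:
`C_G(A) ≤ M`, and if no subgroup `A₀` of order `p` of `A` has `𝓜(N_G(A₀)) = {M}` then `p ∈ σ(M)`,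
`M_α = 1` and `M_σ` is nilpotent.  The only unproved input is Lemma 12.3 (`Stmt123`).
-/

namespace Cfsg.Agent.Lib.Helper19.BG124

open Subgroup Cfsg Cfsg.Agent.Lib.Helper33 Cfsg.Agent.Lib.Helper24 Cfsg.Agent.Lib.Helper32
open Cfsg.Agent.Lib.Helper24.BG Cfsg.Agent.Lib.Helper23 Cfsg.Agent.Lib.Helper63
open Cfsg.Agent.Lib.Helper47.BG11

universe u

variable {G : Type u} [Group G] [Finite G]

/-- `Ω₁(Z(Q))` as a subgroup of `G` -/
def omegaCenter (p : ℕ) (Q : Subgroup G) : Subgroup G where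
  carrier := {x | x ∈ Q ∧ (∀ y ∈ Q, y * x = x * y) ∧ x ^ p = 1}
  one_mem' := ⟨Q.one_mem, fun y _ => by simp, one_pow p⟩
  mul_mem' := by
    rintro a b ⟨ha, hac, hap⟩ ⟨hb, hbc, hbp⟩
    refine ⟨Q.mul_mem ha hb, fun y hy => ?_, ?_⟩
    · rw [← mul_assoc, hac y hy, mul_assoc, hbc y hy, mul_assoc]
    · have hcomm : Commute a b := hbc a ha
      rw [hcomm.mul_pow, hap, hbp, one_mul]
  inv_mem' := by
    rintro a ⟨ha, hac, hap⟩
    refine ⟨Q.inv_mem ha, fun y hy => ?_, by rw [inv_pow, hap, inv_one]⟩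
    have := hac y hy
    calc y * a⁻¹ = a⁻¹ * (a * y) * a⁻¹ := by group
      _ = a⁻¹ * (y * a) * a⁻¹ := by rw [this]
      _ = a⁻¹ * y := by group

theorem mem_omegaCenter {p : ℕ} {Q : Subgroup G} {x : G} :
    x ∈ omegaCenter p Q ↔ x ∈ Q ∧ (∀ y ∈ Q, y * x = x * y) ∧ x ^ p = 1 := Iff.rfl

theorem conj_mem_omegaCenter {p : ℕ} {Q : Subgroup G} {m x : G}
    (hm : m ∈ normalizer (Q : Set G)) (hx : x ∈ omegaCenter p Q) :
    m * x * m⁻¹ ∈ omegaCenter p Q := by
  obtain ⟨hxQ, hxc, hxp⟩ := hx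
  refine ⟨(mem_normalizer_iff.mp hm x).mp hxQ, fun y hy => ?_, ?_⟩
  · have hy' : m⁻¹ * y * m ∈ Q := by
      have := (mem_normalizer_iff.mp (inv_mem hm) y).mp hy
      simpa using this
    have h := hxc _ hy'
    calc y * (m * x * m⁻¹) = m * ((m⁻¹ * y * m) * x) * m⁻¹ := by group
      _ = m * (x * (m⁻¹ * y * m)) * m⁻¹ := by rw [h]
      _ = m * x * m⁻¹ * y := by group
  · rw [conj_pow, hxp, mul_one, mul_inv_cancel]

theorem le_normalizer_omegaCenter (p : ℕ) (Q : Subgroup G) :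
    normalizer (Q : Set G) ≤ normalizer ((omegaCenter p Q : Subgroup G) : Set G) := by
  intro m hm
  rw [mem_normalizer_iff]
  intro x
  refine ⟨fun hx => conj_mem_omegaCenter hm hx, fun hx => ?_⟩
  have := conj_mem_omegaCenter (p := p) (inv_mem hm) hx
  have h2 : m⁻¹ * (m * x * m⁻¹) * m⁻¹⁻¹ = x := by group
  rwa [h2] at this

namespace NU

variable {M A : Subgroup G} {p : ℕ} [hp : Fact p.Prime]

/-- **B&G 12.4** under the non-uniqueness hypothesis. -/
theorem final (hG : IsMinSimpleOddOrder G) (h123 : Stmt123 G) (e : NU M p A) :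
    p ∈ sigma M ∧ alphaCore M = ⊥ ∧ Group.IsNilpotent ↥(sigmaCore M) ∧
      centralizer (A : Set G) ≤ M := by
  have hpσ := e.mem_sigma hG h123
  have hpα := e.not_alpha hG
  have hσ := sigmaHallIn hG e.coatom
  -- `A` centralizes `M_α`, so `M_α = 1`
  have hAα : A ≤ normalizer ((alphaCore M : Subgroup G) : Set G) :=
    e.le.trans (Cfsg.Agent.Lib.Helper96.BG103.le_normalizer_alphaCore M)
  have hcα : alphaCore M ≤ centralizer (A : Set G) :=
    e.le_centralizer_of_points hAα (e.not_dvd_card_alphaCore hG) (fun A₀ hA₀ hc H hH hne hNH =>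
      (h123 M H e.coatom hH hne p A A₀ e.le e.elem e.card hA₀ hc hNH).2 hpα)
  have hα := e.alphaCore_eq_bot hG hcα
  have hnilK := commutator_nilpotent_of_alphaCore_eq_bot hG e.coatom hα
  -- `M_σ ≤ M'` is nilpotent
  have hF : SigmaFusion M := fun q _ hq X hXq hX1 hXM =>
    (Cfsg.Agent.S1404.result hG M e.coatom q hq X hXq hX1 hXM).1
  have hσK : sigmaCore M ≤ ⁅M, M⁆ := by
    rw [sigmaCore, ← Cfsg.Agent.Lib.Helper23.Beta.map_commutator_subtype]
    exact Subgroup.map_mono (Cfsg.Agent.Lib.Helper23.Beta.piCore_sigma_le_commutator hG hF)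
  have hnilσ : Group.IsNilpotent ↥(sigmaCore M) := by
    haveI := hnilK
    exact Group.nilpotent_of_mulEquiv (subgroupOfEquivOfLe hσK)
  -- the normal Sylow `p`-subgroup `Q` of `M`
  obtain ⟨Q, hQp, hQσ, hQi, hQn, hQall⟩ := Exc.exists_normal_sylow hσ hnilσ hpσ
  have hQM : Q ≤ M := hQσ.trans (sigmaCore_le M)
  have hAQ : A ≤ Q := hQall A e.le e.isPGroup
  have hWA : omegaCenter p Q ≤ A := by
    intro x hx
    refine mem_of_maximal e.elem (e.maxA hG) ?_ hx.2.2
    exact mem_centralizer_iff.mpr (fun a ha => hx.2.1 a (hAQ ha))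
  have hMW : M ≤ normalizer ((omegaCenter p Q : Subgroup G) : Set G) :=
    hQn.trans (le_normalizer_omegaCenter p Q)
  have hW1 : omegaCenter p Q ≠ ⊥ := by
    obtain ⟨P, hP⟩ := exists_sylow_map_eq M Q hQM hQp
      (fun h => hQi (dvd_trans h (Subgroup.relIndex_dvd_index_of_le hQM)))
    obtain ⟨z, hz, hzo⟩ := Cfsg.Agent.Lib.Helper96.BG104.exists_mem_zc_orderOf e.dvd_card P
    rw [Cfsg.Agent.Lib.Helper96.BG104.mem_zc_iff, hP] at hz
    intro h
    have hzW : z ∈ omegaCenter p Q :=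
      ⟨hz.1, hz.2, by rw [← hzo]; exact pow_orderOf_eq_one z⟩
    rw [h, Subgroup.mem_bot] at hzW
    rw [hzW, orderOf_one] at hzo
    exact hp.out.one_lt.ne hzo
  rcases Cfsg.Agent.Lib.Helper24.Ward.card_eq_of_le_of_card_sq hp.out e.card hWA with h | h | h
  · exact absurd (Subgroup.card_eq_one.mp h) hW1
  · exfalso
    obtain ⟨H, hH, hne, hNH⟩ := e.nu _ hWA h
    rw [normalizer_eq_of_le hG e.coatom hW1 (hWA.trans e.le) hMW] at hNH
    exact hH.1 (e.coatom.2 H (lt_of_le_of_ne hNH (Ne.symm hne)))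
  · have hA1 : A ≠ ⊥ := h ▸ hW1
    have hN : normalizer (A : Set G) = M :=
      normalizer_eq_of_le hG e.coatom hA1 e.le (h ▸ hMW)
    exact ⟨hpσ, hα, hnilσ, (Subgroup.centralizer_le_normalizer _).trans hN.le⟩

end NU

/-- **B&G Proposition 12.4** (statement S1416), from Lemma 12.3. -/
theorem bg124 (hG : IsMinSimpleOddOrder G) (h123 : Stmt123 G)
    (M : Subgroup G) (hM : IsCoatom M) (p : ℕ) [Fact p.Prime] (A : Subgroup G)
    (hA : A ≤ M ∧ IsElementaryAbelian p A ∧ Nat.card A = p ^ 2) :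
    centralizer (A : Set G) ≤ M ∧
      ((∀ A₀ : Subgroup G, A₀ ≤ A → Nat.card A₀ = p →
          ¬ (normalizer (A₀ : Set G) ≤ M ∧
            ∀ L : Subgroup G, IsCoatom L → normalizer (A₀ : Set G) ≤ L → L = M)) →
        p ∈ sigma M ∧ alphaCore M = ⊥ ∧ Group.IsNilpotent (sigmaCore M)) := by
  obtain ⟨hAM, hAe, hAc⟩ := hA
  by_cases hU : ∃ A₀ : Subgroup G, A₀ ≤ A ∧ Nat.card A₀ = p ∧ normalizer (A₀ : Set G) ≤ M ∧
      ∀ L : Subgroup G, IsCoatom L → normalizer (A₀ : Set G) ≤ L → L = M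
  · obtain ⟨A₀, hA₀, hc, hN, huniq⟩ := hU
    refine ⟨(Subgroup.centralizer_le hA₀).trans ((Subgroup.centralizer_le_normalizer _).trans hN),
      fun h => absurd ⟨hN, huniq⟩ (h A₀ hA₀ hc)⟩
  · have e : NU M p A := by
      refine ⟨hM, hAM, hAe, hAc, ?_⟩
      intro A₀ hA₀ hc
      have hA₀1 : A₀ ≠ ⊥ := by
        intro h
        rw [h, card_bot] at hc
        exact (Fact.out : p.Prime).one_lt.ne hc
      have hA₀top : A₀ ≠ ⊤ := fun h => hM.1 (top_le_iff.mp (h ▸ hA₀.trans hAM))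
      have hNtop := BG10.normalizer_ne_top hG hA₀1 hA₀top
      obtain ⟨L, hL, hNL⟩ := (eq_top_or_exists_le_coatom _).resolve_left hNtop
      by_cases hLM : L = M
      · by_contra hcon
        push Not at hcon
        apply hU
        refine ⟨A₀, hA₀, hc, hLM ▸ hNL, ?_⟩
        intro L' hL' hNL'
        by_contra hne
        exact hcon L' hL' hne hNL'
      · exact ⟨L, hL, hLM, hNL⟩
    obtain ⟨h1, h2, h3, h4⟩ := e.final hG h123
    exact ⟨h4, fun _ => ⟨h1, h2, h3⟩⟩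

end Cfsg.Agent.Lib.Helper19.BG124
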