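import Cfsg.Agent.Lib.Helper19.BG124a
import Cfsg.Agent.Lib.Helper96.BG104
import Cfsg.Agent.S1406
import Cfsg.Agent.S1408
import Cfsg.Agent.S1410
import Cfsg.Agent.S1411

set_option autoImplicit false
set_option linter.style.haveILetI false
set_option linter.unusedSectionVars false

/-!
# Bender–Glauberman Proposition 12.4, part B: the non-uniqueness hypothesis

`NU M p A`: `A ≤ M` is elementary abelian of order `p²` and for every subgroup `A₀` of order `p` of
`A` some maximal subgroup other than `M` contains `N_G(A₀)`.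
-/

namespace Cfsg.Agent.Lib.Helper19.BG124

open Subgroup Cfsg Cfsg.Agent.Lib.Helper33 Cfsg.Agent.Lib.Helper24 Cfsg.Agent.Lib.Helper32
open Cfsg.Agent.Lib.Helper24.BG Cfsg.Agent.Lib.Helper23 Cfsg.Agent.Lib.Helper63
open Cfsg.Agent.Lib.Helper47.BG11

universe u

variable {G : Type u} [Group G] [Finite G]

/-- statement of B&G Lemma 12.3 -/
def Stmt123 (G : Type u) [Group G] : Prop :=
  ∀ (M Mstar : Subgroup G), IsCoatom M → IsCoatom Mstar → Mstar ≠ M →
    ∀ (p : ℕ) [Fact p.Prime] (A A₀ : Subgroup G), A ≤ M → IsElementaryAbelian p A →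
      Nat.card A = p ^ 2 → A₀ ≤ A → Nat.card A₀ = p → normalizer (A₀ : Set G) ≤ Mstar →
      (p ∉ sigma M → sigmaCore M ⊓ Mstar ≤ centralizer (A : Set G)) ∧
      (p ∉ alpha M → alphaCore M ⊓ Mstar ≤ centralizer (A : Set G))

/-- the non-uniqueness hypothesis of B&G 12.4(b) -/
structure NU (M : Subgroup G) (p : ℕ) (A : Subgroup G) : Prop where
  coatom : IsCoatom M
  le : A ≤ M
  elem : IsElementaryAbelian p A
  card : Nat.card A = p ^ 2
  nu : ∀ A₀ : Subgroup G, A₀ ≤ A → Nat.card A₀ = p →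
    ∃ H : Subgroup G, IsCoatom H ∧ H ≠ M ∧ normalizer (A₀ : Set G) ≤ H

namespace NU

variable {M A : Subgroup G} {p : ℕ} [hp : Fact p.Prime]

theorem isPGroup (e : NU M p A) : IsPGroup p A := BG10.isPGroup_of_elemAb e.elem

theorem comm (e : NU M p A) : ∀ a ∈ A, ∀ b ∈ A, a * b = b * a := fun a ha b hb =>
  congrArg Subtype.val (e.elem.1.is_comm.comm ⟨a, ha⟩ ⟨b, hb⟩)

theorem le_cent (e : NU M p A) : A ≤ centralizer (A : Set G) := fun a ha =>
  mem_centralizer_iff.mpr (fun b hb => e.comm b hb a ha)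

theorem ne_top (e : NU M p A) : A ≠ ⊤ := fun h => e.coatom.1 (top_le_iff.mp (h ▸ e.le))

theorem exists_point (e : NU M p A) : ∃ A₀ : Subgroup G, A₀ ≤ A ∧ Nat.card A₀ = p :=
  Cfsg.Agent.Lib.Helper24.Ward.exists_ordr hp.out e.card

theorem dvd_card (e : NU M p A) : p ∣ Nat.card M := by
  have h1 : Nat.card A ∣ Nat.card M := Subgroup.card_dvd_of_le e.le
  rw [e.card] at h1
  exact dvd_trans (dvd_pow_self p (by norm_num)) h1

/-- no uniqueness subgroup of `M` normalizes a point of `A` -/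
theorem false_of_unique (e : NU M p A) {K A₀ : Subgroup G} (hK : InUniqueMaximal K) (hKM : K ≤ M)
    (hA₀ : A₀ ≤ A) (hc : Nat.card A₀ = p) (hKN : K ≤ normalizer (A₀ : Set G)) : False := by
  obtain ⟨H, hH, hne, hNH⟩ := e.nu A₀ hA₀ hc
  obtain ⟨M₀, -, huniq⟩ := hK
  have h1 := huniq H ⟨hH, hKN.trans hNH⟩
  have h2 := huniq M ⟨e.coatom, hKM⟩
  exact hne (h1.trans h2.symm)

theorem le_normalizer_point (e : NU M p A) {A₀ : Subgroup G} (hA₀ : A₀ ≤ A) :
    centralizer (A : Set G) ≤ normalizer (A₀ : Set G) :=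
  (Subgroup.centralizer_le hA₀).trans (Subgroup.centralizer_le_normalizer _)

/-- `C_G(A)` has rank at most `2` -/
theorem rank_centralizer (hG : IsMinSimpleOddOrder G) (e : NU M p A) :
    RankLE 2 ↥(centralizer (A : Set G)) := by
  by_contra h
  have hA1 : ¬ RankLE 1 ↥A := by
    refine BG10.not_rankLE_one_of_elemAb e.elem le_rfl ?_
    rw [e.card]
    have := hp.out.one_lt
    nlinarith
  have hU : InUniqueMaximal A := Cfsg.Agent.S1403.result hG A e.ne_top hA1 (Or.inr h)
  obtain ⟨A₀, hA₀, hc⟩ := e.exists_point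
  exact e.false_of_unique hU e.le hA₀ hc (e.le_cent.trans (e.le_normalizer_point hA₀))

/-- `A` is a maximal elementary abelian `p`-subgroup of `G` -/
theorem maxA (hG : IsMinSimpleOddOrder G) (e : NU M p A) :
    ∀ B : Subgroup G, IsElementaryAbelian p B → A ≤ B → B = A := by
  intro B hB hAB
  have hBC : B ≤ centralizer (A : Set G) := BG10.le_centralizer_of_elemAb hAB hB
  have hr := e.rank_centralizer hG p hp.out
  have hcard : Nat.card B ≤ p ^ 2 := by
    have h1 := hr (B.subgroupOf (centralizer (A : Set G)))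
      ⟨⟨fun a b => Subtype.ext (Subtype.ext (by
        have h := congrArg Subtype.val (hB.1.is_comm.comm ⟨a.1.1, a.2⟩ ⟨b.1.1, b.2⟩)
        simpa using h))⟩⟩
      (fun a ha => Subtype.ext (by
        have := hB.2 a.1 ha
        simpa using this))
    rwa [Nat.card_congr (subgroupOfEquivOfLe hBC).toEquiv] at h1
  exact (eq_of_le_of_card_ge hAB (by rw [e.card]; exact hcard)).symm

/-- `p ∉ α(M)` -/
theorem not_alpha (hG : IsMinSimpleOddOrder G) (e : NU M p A) : p ∉ alpha M := by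
  intro hα
  have hA' : IsPGroup p (A.subgroupOf M) := e.isPGroup.comap_subtype
  obtain ⟨P, hP⟩ := hA'.exists_le_sylow
  obtain ⟨hPM, hPp, hPi⟩ := sylow_map_facts M P
  set PG := (P : Subgroup ↥M).map M.subtype with hPG
  have hAP : A ≤ PG := by
    intro a ha
    exact ⟨⟨a, e.le ha⟩, hP (by rw [mem_subgroupOf]; exact ha), rfl⟩
  -- `PG` has rank at least three
  have hr3 : ¬ PRankLE p 2 ↥PG := by
    intro h
    apply hα.2
    apply BG10.pRankLE_of_sylow p P
    exact BG10.pRankLE_of_injective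
      ((P : Subgroup ↥M).equivMapOfInjective M.subtype M.subtype_injective).toMonoidHom
      (MulEquiv.injective _) h
  have hPtop : PG ≠ ⊤ := fun h => e.coatom.1 (top_le_iff.mp (h ▸ hPM))
  have hU : InUniqueMaximal PG := by
    refine Cfsg.Agent.S1403.result hG PG hPtop ?_ (Or.inl fun h => hr3 (h p hp.out))
    intro h
    exact hr3 (fun B hB1 hB2 => (h p hp.out B hB1 hB2).trans
      (Nat.pow_le_pow_right hp.out.pos (by norm_num)))
  -- a central element of order `p`
  obtain ⟨z, hz, hzo⟩ := Cfsg.Agent.Lib.Helper96.BG104.exists_mem_zc_orderOf e.dvd_card P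
  rw [Cfsg.Agent.Lib.Helper96.BG104.mem_zc_iff] at hz
  have hzp : z ^ p = 1 := by rw [← hzo]; exact pow_orderOf_eq_one z
  have hzC : z ∈ centralizer (A : Set G) :=
    mem_centralizer_iff.mpr (fun a ha => hz.2 a (hAP ha))
  have hzA : z ∈ A := mem_of_maximal e.elem (e.maxA hG) hzC hzp
  have hcard : Nat.card (zpowers z) = p := by rw [Nat.card_zpowers, hzo]
  refine e.false_of_unique hU hPM ((zpowers_le).mpr hzA) hcard ?_
  refine le_trans ?_ (Subgroup.centralizer_le_normalizer _)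
  intro y hy
  rw [mem_centralizer_iff]
  intro w hw
  obtain ⟨k, rfl⟩ := mem_zpowers_iff.mp hw
  exact (Commute.zpow_left (show Commute z y from (hz.2 y hy).symm) k).eq

/-- a subgroup of `M_α` is an `α(M)`-group -/
theorem not_dvd_card_alphaCore (hG : IsMinSimpleOddOrder G) (e : NU M p A) :
    ¬ p ∣ Nat.card (alphaCore M) := by
  intro h
  exact e.not_alpha hG ((Cfsg.Agent.S1405.result hG M e.coatom).1.2.1 p hp.out h)

/-- if `A` centralizes `M_α` then `M_α = 1` -/
theorem alphaCore_eq_bot (hG : IsMinSimpleOddOrder G) (e : NU M p A)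
    (hc : alphaCore M ≤ centralizer (A : Set G)) : alphaCore M = ⊥ := by
  by_contra hne
  obtain ⟨hHall, -, -, -, -⟩ := Cfsg.Agent.S1405.result hG M e.coatom
  have hcard : Nat.card (alphaCore M) ≠ 1 := fun h => hne (Subgroup.card_eq_one.mp h)
  obtain ⟨r, hr, hrd⟩ := Nat.exists_prime_and_dvd hcard
  haveI : Fact r.Prime := ⟨hr⟩
  have hrα : r ∈ alpha M := hHall.2.1 r hr hrd
  obtain ⟨B, hBM, hBe, hBc⟩ := BG10.exists_of_not_pRankLE hrα.2
  -- `B ≤ M_α`
  have hidx : ¬ r ∣ (piCore (alpha M) ↥M).index := by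
    have h := hHall.2.2 r hr hrα
    have : (alphaCore M).subgroupOf M = piCore (alpha M) ↥M := by
      rw [alphaCore, subgroupOf, comap_map_eq_self_of_injective M.subtype_injective]
    rwa [relIndex, this] at h
  have hBp : IsPGroup r B := BG10.isPGroup_of_elemAb hBe
  have hBα : B ≤ alphaCore M := by
    intro x hx
    have hxo : ∃ k : ℕ, orderOf (⟨x, hBM hx⟩ : ↥M) = r ^ k := by
      obtain ⟨k, hk⟩ := (IsPGroup.iff_orderOf.mp hBp) ⟨x, hx⟩
      refine ⟨k, ?_⟩
      rw [← hk, ← Subgroup.orderOf_coe, ← Subgroup.orderOf_coe]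
    have := mem_of_not_dvd_index (piCore (alpha M) ↥M) hidx hxo
    exact ⟨⟨x, hBM hx⟩, this, rfl⟩
  have hr1 : ¬ RankLE 1 ↥(alphaCore M ⊓ centralizer (A : Set G)) := by
    refine BG10.not_rankLE_one_of_elemAb hBe (le_inf hBα (hBα.trans hc)) ?_
    have := hr.one_lt
    nlinarith
  have hXα : ∀ q : ℕ, q.Prime → q ∣ Nat.card A → q ∉ alpha M := by
    intro q hq hqd
    rw [e.card] at hqd
    have : q = p := (Nat.prime_dvd_prime_iff_eq hq hp.out).mp (hq.dvd_of_dvd_pow hqd)
    rw [this]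
    exact e.not_alpha hG
  have hU := Cfsg.Agent.S1406.result hG M e.coatom A e.le hXα hr1
  obtain ⟨A₀, hA₀, hc₀⟩ := e.exists_point
  exact e.false_of_unique hU inf_le_left hA₀ hc₀ (inf_le_right.trans (e.le_normalizer_point hA₀))

/-- coprime generation + 12.3: `A` centralizes `M_π` (`π = σ(M)` resp. `α(M)`) -/
theorem le_centralizer_of_points (e : NU M p A) {X : Subgroup G}
    (hAX : A ≤ normalizer (X : Set G)) (hX : ¬ p ∣ Nat.card X)
    (h : ∀ A₀ : Subgroup G, A₀ ≤ A → Nat.card A₀ = p → ∀ H : Subgroup G, IsCoatom H → H ≠ M →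
      normalizer (A₀ : Set G) ≤ H → X ⊓ H ≤ centralizer (A : Set G)) :
    X ≤ centralizer (A : Set G) := by
  refine le_trans (Cfsg.Agent.Lib.Helper24.Ward.gen_ordr hp.out e.elem e.card hAX hX) (iSup_le ?_)
  rintro ⟨B, hBA, hBc⟩
  obtain ⟨H, hH, hne, hNH⟩ := e.nu B hBA hBc
  refine le_trans ?_ (h B hBA hBc H hH hne hNH)
  exact inf_le_inf_left _ ((Subgroup.centralizer_le_normalizer _).trans hNH)

end NU

end Cfsg.Agent.Lib.Helper19.BG124
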