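import Cfsg.Agent.S1428
import Cfsg.Agent.Lib.Helper32.BG142Defs

set_option autoImplicit false
set_option linter.style.haveILetI false
set_option linter.unusedSectionVars false

/-!
# BG Theorem 14.2 (S1430), Case II, leaf L5 (`exc_tau1_cent_le`)
-/

namespace Cfsg.Agent.Lib.Helper32.BG142

open Subgroup Cfsg

universe u

variable {G : Type u} [Group G] [Finite G]

/-- LEAF L5: a subgroup of order `s ∈ τ₁(M)` of `E` centralizes `Z` (13.10) and
`C_W(X) ≤ C_W(Z)` (S1428). -/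
theorem exc_tau1_cent_le (hG : IsMinSimpleOddOrder G) (h1310 : Stmt1310 G)
    {M E Z X : Subgroup G}
    (hM : IsCoatom M) (hE : IsComplIn E (sigmaCore M) M) {q : ℕ} (hq3 : q ∈ tau3 M)
    (hZE : Z ≤ E) (hZ : Nat.card Z = q)
    (hZne : sigmaCore M ⊓ centralizer (Z : Set G) ≠ ⊥)
    {s : ℕ} (hs : s ∈ tau1 M) (hXE : X ≤ E) (hX : Nat.card X = s) :
    Z ≤ centralizer (X : Set G) ∧
      sigmaCore M ⊓ centralizer (X : Set G) ≤ sigmaCore M ⊓ centralizer (Z : Set G) := by
  have hZX : Z ≤ centralizer (X : Set G) := by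
    by_contra h
    exact hZne (h1310 M E hM hE s hs X hXE hX q hq3 Z hZE hZ h)
  refine ⟨hZX, ?_⟩
  exact Cfsg.Agent.S1428.result hG M hM E hE s hs X hXE hX Z (le_inf hZE hZX)
    (by rw [hZ]; exact hq3.1)

end Cfsg.Agent.Lib.Helper32.BG142
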