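import Mathlib
import Cfsg.Prelude.Def_OddOrderLocal
import Cfsg.Agent.Lib.Helper19.BG14A
import Cfsg.Agent.Lib.Helper19.BG14B
import Cfsg.Agent.Lib.Helper33.Conj
import Cfsg.Agent.Lib.Helper68.BG1215b

/-!
# The `M`-conjugates of `Ẑ` (B&G section 14), abstract form
-/

set_option autoImplicit false

open Subgroup

namespace Cfsg.Agent.Lib.Helper19.BG14

open Cfsg.Agent.Lib.Helper33

universe u
variable {G : Type u} [Group G] [Finite G]

/-- `K ∩ U S = 1`. -/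
theorem inf_sup_eq_bot {M K U S : Subgroup G} {κ σ : Set ℕ}
    (hdisj : ∀ p, p ∈ κ → p ∉ σ)
    (hK : Cfsg.IsPiHallOf κ K M) (hS : Cfsg.IsPiHallOf σ S M)
    (hSn : M ≤ normalizer (S : Set G))
    (hU : Cfsg.IsPiHallOf {q | q.Prime ∧ q ∉ κ ∧ q ∉ σ} U M) : K ⊓ (U ⊔ S) = ⊥ := by
  have hUS : U ≤ normalizer (S : Set G) := hU.1.trans hSn
  apply inf_eq_bot_of_primes
  intro p hp hpK hpN
  have hpκ := hK.2.1 p hp hpK
  have hd := hpN.trans (Cfsg.Agent.Lib.Helper23.card_sup_dvd_of_le_normalizer U S hUS)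
  rcases (Nat.Prime.dvd_mul hp).1 hd with h | h
  · exact (hU.2.1 p hp h).2.1 hpκ
  · exact hdisj p hpκ (hS.2.1 p hp h)

omit [Finite G] in
/-- the primes dividing `|M : U S|` lie in `κ`. -/
theorem relIndex_primes {M U S : Subgroup G} {κ σ : Set ℕ}
    (hS : Cfsg.IsPiHallOf σ S M)
    (hU : Cfsg.IsPiHallOf {q | q.Prime ∧ q ∉ κ ∧ q ∉ σ} U M) :
    ∀ p : ℕ, p.Prime → p ∣ (U ⊔ S).relIndex M → p ∈ κ := by
  intro p hp hpI
  by_contra hpκ
  by_cases hpσ : p ∈ σ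
  · exact hS.2.2 p hp hpσ (hpI.trans (relIndex_dvd_of_le_left M (le_sup_right : S ≤ U ⊔ S)))
  · exact hU.2.2 p hp ⟨hp, hpκ, hpσ⟩
      (hpI.trans (relIndex_dvd_of_le_left M (le_sup_left : U ≤ U ⊔ S)))

/-- An element of `M` outside the normal `κ`-complement `N` is `M`-conjugate to an element
commuting with a non-identity element of the Hall `κ`-subgroup `K`. -/
theorem conj_into_centralizer {M K N : Subgroup G} {κ : Set ℕ} [Group.IsSolvable M]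
    (hK : Cfsg.IsPiHallOf κ K M) (hNM : N ≤ M) (hNn : M ≤ normalizer (N : Set G))
    (hNκ : ∀ p : ℕ, p.Prime → p ∣ N.relIndex M → p ∈ κ)
    {a : G} (haM : a ∈ M) (haN : a ∉ N) :
    ∃ g ∈ M, ∃ k ∈ K, k ≠ 1 ∧ (g * a * g⁻¹) * k = k * (g * a * g⁻¹) := by
  set r := K.relIndex M with hr
  have hKr := card_mul_relIndex' hK.1
  -- `a ^ r ≠ 1`
  have har : a ^ r ≠ 1 := by
    intro h1
    apply haN
    have hle : zpowers a ≤ N := by
      apply Cfsg.Agent.Lib.Helper68.BG1215.le_of_coprime_relIndex hNM hNn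
        ((zpowers_le (H := M)).2 haM)
      rw [Nat.card_zpowers]
      apply Nat.coprime_of_dvd'
      intro p hp hpa hpI
      exfalso
      exact hK.2.2 p hp (hNκ p hp hpI) (hpa.trans (orderOf_dvd_of_pow_eq_one h1))
    exact hle (mem_zpowers a)
  -- the `κ`-subgroup generated by `a ^ r`
  have hY : ∀ p : ℕ, p.Prime → p ∣ Nat.card ↥(zpowers (a ^ r)) → p ∈ κ := by
    intro p hp hpY
    apply hK.2.1 p hp
    refine hpY.trans ?_
    rw [Nat.card_zpowers]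
    apply orderOf_dvd_of_pow_eq_one
    rw [← pow_mul, mul_comm, hKr]
    have : orderOf a ∣ Nat.card M := Subgroup.orderOf_dvd_natCard M haM
    exact orderOf_dvd_iff_pow_eq_one.1 this
  obtain ⟨g, hgM, hg⟩ := Cfsg.Agent.Lib.Helper68.BG1215.hall_pi_conj_le (K := M) κ hK.1 hK.2.1
    hK.2.2 ((zpowers_le (H := M)).2 (M.pow_mem haM r)) hY
  refine ⟨g, hgM, g * a ^ r * g⁻¹, hg (conj_mem_cj (mem_zpowers _)), ?_, ?_⟩
  · intro h1
    apply har
    have : a ^ r = g⁻¹ * (g * a ^ r * g⁻¹) * g := by group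
    rw [this, h1]; group
  · have : g * a ^ r * g⁻¹ = (g * a * g⁻¹) ^ r := by rw [conj_pow]
    rw [this]
    exact (Commute.pow_right (Commute.refl _) r).eq

/-- **Characterization of the `M`-conjugates of `Ẑ`.** -/
theorem mem_zhatM_iff {M K C N : Subgroup G} {κ : Set ℕ} [Group.IsSolvable M]
    (hc : ∀ k ∈ K, ∀ c ∈ C, k * c = c * k)
    (hcop : (Nat.card K).Coprime (Nat.card C))
    (hK : Cfsg.IsPiHallOf κ K M) (hCM : C ≤ M)
    (hNM : N ≤ M) (hNn : M ≤ normalizer (N : Set G))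
    (hNκ : ∀ p : ℕ, p.Prime → p ∣ N.relIndex M → p ∈ κ)
    (hKN : K ⊓ N = ⊥) (hCN : C ≤ N)
    (hcent : ∀ k ∈ K, k ≠ 1 → M ⊓ centralizer ({k} : Set G) = K ⊔ C) (a : G) :
    (∃ m ∈ M, ∃ z ∈ (↑(K ⊔ C) : Set G) \ ((K : Set G) ∪ ↑C), a = m * z * m⁻¹) ↔
      a ∈ M ∧ a ∉ N ∧ ¬ ∃ k ∈ K, k ≠ 1 ∧ ∃ m ∈ M, a = m * k * m⁻¹ := by
  have hKM := hK.1
  have hZM : K ⊔ C ≤ M := sup_le hKM hCM
  constructor
  · rintro ⟨m, hm, z, ⟨hzZ, hzn⟩, rfl⟩
    have hzK : z ∉ K := fun h => hzn (Or.inl h)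
    have hzC : z ∉ C := fun h => hzn (Or.inr h)
    obtain ⟨_, _, a3, _⟩ := pow_facts hc hcop hzZ
    refine ⟨M.mul_mem (M.mul_mem hm (hZM hzZ)) (M.inv_mem hm), ?_, ?_⟩
    · intro haN
      -- `z ∈ N`
      have hzN : z ∈ N := by
        have h1 := (mem_normalizer_iff.1 (hNn (M.inv_mem hm)) (m * z * m⁻¹)).1 haN
        have : m⁻¹ * (m * z * m⁻¹) * m⁻¹⁻¹ = z := by group
        rwa [this] at h1
      obtain ⟨k, hk, c, hcC, rfl⟩ := mem_sup_comm hc hzZ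
      have hkN : k ∈ N := by
        have : k = (k * c) * c⁻¹ := by group
        rw [this]; exact N.mul_mem hzN (N.inv_mem (hCN hcC))
      have hk1 : k = 1 := by
        have : k ∈ K ⊓ N := ⟨hk, hkN⟩
        rwa [hKN, mem_bot] at this
      apply hzC
      rw [hk1, one_mul]; exact hcC
    · rintro ⟨k, hk, _, m', _, heq⟩
      apply a3 hzK
      -- `z = (m⁻¹ m') k (m⁻¹ m')⁻¹`
      have hz : z = (m⁻¹ * m') * k * (m⁻¹ * m')⁻¹ := by
        have : z = m⁻¹ * (m * z * m⁻¹) * m := by group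
        rw [this, heq]; group
      rw [hz, conj_pow]
      have hkn : k ^ Nat.card K = 1 := by
        have h2 : ((⟨k, hk⟩ : K) ^ Nat.card K : K) = 1 := pow_card_eq_one'
        have h3 : (((⟨k, hk⟩ : K) ^ Nat.card K : K) : G) = k ^ Nat.card K := rfl
        rw [← h3, h2]; rfl
      rw [hkn]; group
  · rintro ⟨haM, haN, hnc⟩
    obtain ⟨g, hgM, k, hk, hk1, hcomm⟩ := conj_into_centralizer hK hNM hNn hNκ haM haN
    have ha'M : g * a * g⁻¹ ∈ M := M.mul_mem (M.mul_mem hgM haM) (M.inv_mem hgM)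
    have ha'Z : g * a * g⁻¹ ∈ K ⊔ C := by
      rw [← hcent k hk hk1]
      refine ⟨ha'M, ?_⟩
      show g * a * g⁻¹ ∈ centralizer ({k} : Set G)
      rw [mem_centralizer_iff]
      intro x hx
      rw [Set.mem_singleton_iff] at hx
      subst hx
      exact hcomm.symm
    have hag : a = g⁻¹ * (g * a * g⁻¹) * g⁻¹⁻¹ := by group
    refine ⟨g⁻¹, M.inv_mem hgM, g * a * g⁻¹, ⟨ha'Z, ?_⟩, hag⟩
    rintro (h | h)
    · apply hnc
      refine ⟨g * a * g⁻¹, h, ?_, g⁻¹, M.inv_mem hgM, hag⟩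
      intro h1
      apply haN
      have : a = 1 := by
        have : a = g⁻¹ * (g * a * g⁻¹) * g := by group
        rw [this, h1]; group
      rw [this]; exact N.one_mem
    · apply haN
      have h1 := (mem_normalizer_iff.1 (hNn (M.inv_mem hgM)) (g * a * g⁻¹)).1 (hCN h)
      have : g⁻¹ * (g * a * g⁻¹) * g⁻¹⁻¹ = a := by group
      rwa [this] at h1

/-- **TI property of the union of the `M`-conjugates of `Ẑ`.** -/
theorem zhatM_ti {M K C : Subgroup G}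
    (hc : ∀ k ∈ K, ∀ c ∈ C, k * c = c * k)
    (hcop : (Nat.card K).Coprime (Nat.card C)) (hKM : K ≤ M) (hCM : C ≤ M)
    (h1 : ∀ g : G, g ∉ M → C ⊓ M.map (MulAut.conj g).toMonoidHom = ⊥)
    (h2 : ∀ g ∈ M, g ∉ K ⊔ C → K ⊓ K.map (MulAut.conj g).toMonoidHom = ⊥) :
    Cfsg.IsTISubset {a : G | ∃ m ∈ M, ∃ z ∈ (↑(K ⊔ C) : Set G) \ ((K : Set G) ∪ ↑C),
      a = m * z * m⁻¹} := by
  have hZM : K ⊔ C ≤ M := sup_le hKM hCM
  intro g hg x hx hgx
  exfalso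
  apply hg
  obtain ⟨m, hm, z, hz, rfl⟩ := hx
  obtain ⟨m', hm', z', hz', heq⟩ := hgx
  -- `(m'⁻¹ g m) z (m'⁻¹ g m)⁻¹ = z'`
  have hconj : (m'⁻¹ * g * m) * z * (m'⁻¹ * g * m)⁻¹ = z' := by
    have : z' = m'⁻¹ * (m' * z' * m'⁻¹) * m' := by group
    rw [this, ← heq]; group
  have hmem : m'⁻¹ * g * m ∈ K ⊔ C :=
    mem_of_conj_mem_zhat hc hcop hCM h1 h2 hz (hconj ▸ hz')
  have hgM : g ∈ M := by
    have : g = m' * (m'⁻¹ * g * m) * m⁻¹ := by group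
    rw [this]
    exact M.mul_mem (M.mul_mem hm' (hZM hmem)) (M.inv_mem hm)
  -- `M` normalizes the set
  have hMn : ∀ g ∈ M, ∀ h : G, (∃ m ∈ M, ∃ z ∈ (↑(K ⊔ C) : Set G) \ ((K : Set G) ∪ ↑C),
      h = m * z * m⁻¹) → ∃ m ∈ M, ∃ z ∈ (↑(K ⊔ C) : Set G) \ ((K : Set G) ∪ ↑C),
      g * h * g⁻¹ = m * z * m⁻¹ := by
    rintro g hg _ ⟨m, hm, z, hz, rfl⟩
    exact ⟨g * m, M.mul_mem hg hm, z, hz, by group⟩
  rw [mem_set_normalizer_iff]
  intro h
  constructor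
  · exact hMn g hgM h
  · intro hh
    have := hMn g⁻¹ (M.inv_mem hgM) _ hh
    have e : g⁻¹ * (g * h * g⁻¹) * g⁻¹⁻¹ = h := by group
    rwa [e] at this

end Cfsg.Agent.Lib.Helper19.BG14
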