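import Mathlib
import Cfsg.Prelude.Def_OddOrderLocal
import Cfsg.Agent.Lib.Helper19.BG14B
import Cfsg.Agent.Lib.Helper24.Coprime
import Cfsg.Agent.Lib.Helper62.CoprimeQuot
import Cfsg.Agent.Lib.Helper70.BG1216a
import Cfsg.Agent.Lib.Helper23.TypeP

/-!
# `M' = U M_σ` and `K* ≤ M''` (B&G section 14/15), abstract form
-/

set_option autoImplicit false

open Subgroup
open scoped commutatorElement

namespace Cfsg.Agent.Lib.Helper19.BG14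

universe u
variable {G : Type u} [Group G]

/-- `M' ≤ N` when `N ⊴ M`, `M = K N` and `K` is abelian. -/
theorem commutator_le_of_abelian_supplement {M K N : Subgroup G}
    (hKc : ∀ a ∈ K, ∀ b ∈ K, a * b = b * a) (hKM : K ≤ M) (hNn : M ≤ normalizer (N : Set G))
    (hprod : ∀ m ∈ M, ∃ k ∈ K, ∃ n ∈ N, m = k * n) : ⁅M, M⁆ ≤ N := by
  rw [Subgroup.commutator_le]
  intro a ha b hb
  obtain ⟨k₁, hk₁, n₁, hn₁, rfl⟩ := hprod a ha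
  obtain ⟨k₂, hk₂, n₂, hn₂, rfl⟩ := hprod b hb
  have hc := hKc k₁ hk₁ k₂ hk₂
  -- `a b = k₁ k₂ n₃`, `b a = k₁ k₂ n₄`
  have h3 : k₂⁻¹ * n₁ * k₂⁻¹⁻¹ ∈ N :=
    (mem_normalizer_iff.1 (hNn (hKM (K.inv_mem hk₂))) n₁).1 hn₁
  have h4 : k₁⁻¹ * n₂ * k₁⁻¹⁻¹ ∈ N :=
    (mem_normalizer_iff.1 (hNn (hKM (K.inv_mem hk₁))) n₂).1 hn₂
  have hx : (k₂⁻¹ * n₁ * k₂⁻¹⁻¹ * n₂) * (k₁⁻¹ * n₂ * k₁⁻¹⁻¹ * n₁)⁻¹ ∈ N :=
    N.mul_mem (N.mul_mem h3 hn₂) (N.inv_mem (N.mul_mem h4 hn₁))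
  have h5 := (mem_normalizer_iff.1 (hNn (hKM (K.mul_mem hk₁ hk₂))) _).1 hx
  have e : ⁅k₁ * n₁, k₂ * n₂⁆ = (k₁ * k₂) * ((k₂⁻¹ * n₁ * k₂⁻¹⁻¹ * n₂) *
      (k₁⁻¹ * n₂ * k₁⁻¹⁻¹ * n₁)⁻¹) * (k₁ * k₂)⁻¹ := by
    rw [commutatorElement_def]
    have hc' : k₂ * k₁ = k₁ * k₂ := hc.symm
    calc k₁ * n₁ * (k₂ * n₂) * (k₁ * n₁)⁻¹ * (k₂ * n₂)⁻¹
        = (k₁ * k₂) * (k₂⁻¹ * n₁ * k₂ * n₂) * (n₁⁻¹ * k₁⁻¹ * n₂⁻¹ * k₁) * (k₂ * k₁)⁻¹ := by group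
      _ = (k₁ * k₂) * (k₂⁻¹ * n₁ * k₂ * n₂) * (n₁⁻¹ * k₁⁻¹ * n₂⁻¹ * k₁) * (k₁ * k₂)⁻¹ := by
          rw [hc']
      _ = _ := by group
  rw [e]; exact h5

variable [Finite G]

/-- **`M' = U M_σ`.** -/
theorem derived_eq {M K U S : Subgroup G}
    (hKc : ∀ a ∈ K, ∀ b ∈ K, a * b = b * a)
    (hcompl : Cfsg.IsComplIn U (K ⊔ S) M) (hKU : K ≤ normalizer (U : Set G))
    (hSn : M ≤ normalizer (S : Set G))
    (hN : M ≤ normalizer ((U ⊔ S : Subgroup G) : Set G))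
    (hcopKU : (Nat.card K).Coprime (Nat.card U))
    (hsolv : Group.IsSolvable K ∨ Group.IsSolvable U)
    (hreg : U ⊓ centralizer (K : Set G) = ⊥)
    (hSE : S ≤ ⁅M, M⁆) : ⁅M, M⁆ = U ⊔ S := by
  have hUM := hcompl.1
  have hKSM := hcompl.2.1
  have hKM : K ≤ M := le_sup_left.trans hKSM
  have hSM : S ≤ M := le_sup_right.trans hKSM
  have hKS : K ≤ normalizer (S : Set G) := hKM.trans hSn
  apply le_antisymm
  · apply commutator_le_of_abelian_supplement hKc hKM hN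
    intro m hm
    obtain ⟨u, hu, b, hb, rfl⟩ := hcompl.2.2.2 m hm
    obtain ⟨k, hk, s, hs, rfl⟩ := mul_decomp hKS hb
    -- `u k s = k (k⁻¹ u k) s`
    refine ⟨k, hk, k⁻¹ * u * k⁻¹⁻¹ * s, ?_, by group⟩
    exact (U ⊔ S).mul_mem
      (le_sup_left (b := S) ((mem_normalizer_iff.1 (hKU (K.inv_mem hk)) u).1 hu))
      (le_sup_right (a := U) hs)
  · refine sup_le ?_ hSE
    have h1 := Cfsg.Agent.Lib.Helper24.commutator_sup_centralizer_eq K U hKU hcopKU hsolv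
    rw [hreg, sup_bot_eq] at h1
    rw [← h1]
    exact Subgroup.commutator_mono hUM hKM

/-- `[S, U K] ≤ [S, K] ([S, S] [S, U])`. -/
theorem commutator_sup_le {K U S : Subgroup G} (hKU : K ≤ normalizer (U : Set G))
    (hUS : U ≤ normalizer (S : Set G)) (hKS : K ≤ normalizer (S : Set G)) :
    ⁅S, U ⊔ K⁆ ≤ ⁅S, K⁆ ⊔ (⁅S, S⁆ ⊔ ⁅S, U⁆) := by
  rw [Subgroup.commutator_le]
  intro h hh e he
  have he' : e ∈ K ⊔ U := by rwa [sup_comm] at he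
  -- `e⁻¹ = k u`, so `e = u⁻¹ k⁻¹`
  obtain ⟨k, hk, u, hu, hku⟩ := mul_decomp hKU ((K ⊔ U).inv_mem he')
  have he2 : e = u⁻¹ * k⁻¹ := by
    have : e = (k * u)⁻¹ := by rw [← hku, inv_inv]
    rw [this, mul_inv_rev]
  -- `⁅h, u' k'⁆ = ⁅h, u'⁆ * (u' ⁅h, k'⁆ u'⁻¹)`
  have hu' : u⁻¹ ∈ U := U.inv_mem hu
  have hk' : k⁻¹ ∈ K := K.inv_mem hk
  have e1 : ⁅h, u⁻¹ * k⁻¹⁆ = ⁅h, u⁻¹⁆ * (⁅u⁻¹, ⁅h, k⁻¹⁆⁆ * ⁅h, k⁻¹⁆) := by
    simp only [commutatorElement_def]; group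
  rw [he2, e1]
  have m1 : ⁅h, u⁻¹⁆ ∈ ⁅S, U⁆ := Subgroup.commutator_mem_commutator hh hu'
  have m2 : ⁅h, k⁻¹⁆ ∈ ⁅S, K⁆ := Subgroup.commutator_mem_commutator hh hk'
  have m2S : ⁅h, k⁻¹⁆ ∈ S :=
    (Cfsg.Agent.Lib.Helper24.commutator_le_of_le_normalizer S K hKS) m2
  have m3 : ⁅u⁻¹, ⁅h, k⁻¹⁆⁆ ∈ ⁅S, U⁆ := by
    rw [Subgroup.commutator_comm]
    exact Subgroup.commutator_mem_commutator hu' m2S
  have hT1 : ⁅S, U⁆ ≤ ⁅S, K⁆ ⊔ (⁅S, S⁆ ⊔ ⁅S, U⁆) := le_sup_right.trans le_sup_right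
  have hT2 : ⁅S, K⁆ ≤ ⁅S, K⁆ ⊔ (⁅S, S⁆ ⊔ ⁅S, U⁆) := le_sup_left
  exact mul_mem (hT1 m1) (mul_mem (hT1 m3) (hT2 m2))

/-- **`K* ≤ M''`.** -/
theorem kstar_le_second_derived {M K U S : Subgroup G}
    (hKU : K ≤ normalizer (U : Set G))
    (hUS : U ≤ normalizer (S : Set G)) (hKS : K ≤ normalizer (S : Set G))
    (hcopKS : (Nat.card K).Coprime (Nat.card S))
    (hder : ⁅M, M⁆ = U ⊔ S) (hSE : ⁅S, U ⊔ K⁆ = S) :
    S ⊓ centralizer (K : Set G) ≤ ⁅⁅M, M⁆, ⁅M, M⁆⁆ := by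
  set D : Subgroup G := ⁅S, S⁆ ⊔ ⁅S, U⁆ with hD
  have hDle : D ≤ ⁅⁅M, M⁆, ⁅M, M⁆⁆ := by
    rw [hder]
    exact sup_le (Subgroup.commutator_mono le_sup_right le_sup_right)
      (Subgroup.commutator_mono le_sup_right le_sup_left)
  refine le_trans ?_ hDle
  apply Cfsg.Agent.Lib.Helper62.le_of_commutator_le_of_abelian_section K S D
    (S ⊓ centralizer (K : Set G))
  · exact le_normalizer_sup2
      (Cfsg.Agent.Lib.Helper70.BG1216.le_normalizer_commutator' le_normalizer le_normalizer)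
      (Cfsg.Agent.Lib.Helper24.le_normalizer_commutator_left S U)
  · exact hKS
  · exact le_normalizer_sup2
      (Cfsg.Agent.Lib.Helper70.BG1216.le_normalizer_commutator' hKS hKS)
      (Cfsg.Agent.Lib.Helper70.BG1216.le_normalizer_commutator' hKS hKU)
  · exact le_sup_left
  · exact hcopKS
  · exact inf_le_left
  · -- `[K*, K] = 1`
    rw [Subgroup.commutator_le]
    intro c hc k hk
    have hck : k * c = c * k := (mem_centralizer_iff.1 hc.2) k hk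
    have : ⁅c, k⁆ = 1 := by
      rw [commutatorElement_def, ← hck]; group
    rw [this]; exact D.one_mem
  · calc S = ⁅S, U ⊔ K⁆ := hSE.symm
      _ ≤ ⁅S, K⁆ ⊔ D := commutator_sup_le hKU hUS hKS

/-- the order of a complement `U'` of `K S` involves no prime of `κ` (`K` a Hall `κ`-subgroup). -/
theorem compl_not_dvd {M K U' S : Subgroup G} {κ : Set ℕ}
    (hK : Cfsg.IsPiHallOf κ K M) (h' : Cfsg.IsComplIn U' (K ⊔ S) M) :
    ∀ p : ℕ, p.Prime → p ∈ κ → ¬ p ∣ Nat.card U' := by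
  intro p hp hpκ hpU'
  have hKM := hK.1
  have hc := Cfsg.Agent.Lib.Helper23.card_isComplIn h'
  have hKd : Nat.card K ∣ Nat.card ↥(K ⊔ S) := Subgroup.card_dvd_of_le le_sup_left
  obtain ⟨t, ht⟩ := hKd
  have hKr := card_mul_relIndex' hKM
  have hKpos : 0 < Nat.card K := Nat.card_pos
  have : K.relIndex M = Nat.card U' * t := by
    have h3 : Nat.card K * K.relIndex M = Nat.card K * (Nat.card U' * t) := by
      rw [hKr, ← hc, ht]; ring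
    exact Nat.eq_of_mul_eq_mul_left hKpos h3
  exact hK.2.2 p hp hpκ (this ▸ Dvd.dvd.mul_right hpU' t)

/-- `U K` is a complement of `S` in `M`. -/
theorem isComplIn_sup {M K U S : Subgroup G}
    (hcompl : Cfsg.IsComplIn U (K ⊔ S) M) (hKU : K ≤ normalizer (U : Set G))
    (hKS : K ≤ normalizer (S : Set G)) (hKS0 : K ⊓ S = ⊥) :
    Cfsg.IsComplIn (U ⊔ K) S M := by
  have hUM := hcompl.1
  have hKSM := hcompl.2.1
  have hKM : K ≤ M := le_sup_left.trans hKSM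
  have hSM : S ≤ M := le_sup_right.trans hKSM
  refine ⟨sup_le hUM hKM, hSM, ?_, ?_⟩
  · rw [eq_bot_iff]
    rintro x ⟨hxE, hxS⟩
    rw [mem_bot]
    have hxE' : x ∈ K ⊔ U := by rwa [sup_comm] at hxE
    obtain ⟨k, hk, u, hu, rfl⟩ := mul_decomp hKU hxE'
    have hu0 : u ∈ U ⊓ (K ⊔ S) := by
      refine ⟨hu, ?_⟩
      have : u = k⁻¹ * (k * u) := by group
      rw [this]
      exact (K ⊔ S).mul_mem (le_sup_left (b := S) (K.inv_mem hk)) (le_sup_right (a := K) hxS)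
    rw [hcompl.2.2.1, mem_bot] at hu0
    rw [hu0, mul_one] at hxS ⊢
    have : k ∈ K ⊓ S := ⟨hk, hxS⟩
    rwa [hKS0, mem_bot] at this
  · intro m hm
    obtain ⟨u, hu, b, hb, rfl⟩ := hcompl.2.2.2 m hm
    obtain ⟨k, hk, s, hs, rfl⟩ := mul_decomp hKS hb
    exact ⟨u * k, (U ⊔ K).mul_mem (le_sup_left (b := K) hu) (le_sup_right (a := U) hk), s, hs,
      by group⟩

end Cfsg.Agent.Lib.Helper19.BG14
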