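import Cfsg.Agent.Lib.Helper19.BG158a
import Cfsg.Agent.Lib.Helper90.BG1435a
import Cfsg.Agent.Lib.Helper19.BG124a
import Cfsg.Agent.Lib.Helper19.BG14B
import Cfsg.Agent.Lib.Helper96.BG127
import Cfsg.Agent.Lib.Helper63.BG13b
import Cfsg.Agent.Lib.Helper23.AlphaB
import Cfsg.Agent.S1354
import Cfsg.Agent.S1361
import Cfsg.Agent.S1416
import Cfsg.Agent.S1418
import Cfsg.Agent.S1419
import Cfsg.Agent.S1430
import Cfsg.Agent.S1431

/-!
# B&G Theorem 15.8: `τ₂(H) = ∅`

Setting of S1435 (pair `(M, M*)`, `M = K U M_σ` of type `P₂`, `H` a maximal subgroup over the normalizer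
of a Sylow subgroup of `U`), with the conclusions of S1435 as hypotheses.  If some non-identity element
of `U` centralizes a non-identity element of `M_σ` (e.g. if `τ₂(M) ≠ ∅`) then `τ₂(H) = ∅`.
-/

set_option autoImplicit false
set_option linter.unusedSectionVars false
set_option linter.unusedVariables false
set_option linter.style.haveILetI false
set_option maxHeartbeats 800000

namespace Cfsg.Agent.Lib.Helper19.BG158

open Subgroup Cfsg
open Cfsg.Agent.Lib.Helper90.BG1435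

universe u

variable {G : Type u} [Group G] [Finite G]

/-- `K ≤ H ∩ M*` -/
theorem K_le_D {M K U Mstar H : Subgroup G} (f : Facts M K U Mstar H) : K ≤ H ⊓ Mstar := by
  refine le_inf f.K_le (f.K_le_Ms.trans ?_)
  rintro _ ⟨x, _, rfl⟩; exact x.2

/-- a non-identity element of `U` centralizing a non-identity element of `M_σ` has `C_G(x) ≤ M`
(S1361) -/
theorem exists_cent_le (hG : IsMinSimpleOddOrder G) {M K U : Subgroup G}
    (hM : IsCoatom M) (hKU : IsSigmaDecomposition M K U)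
    (hx : ∃ x ∈ U, x ≠ 1 ∧ ∃ w ∈ sigmaCore M, w ≠ 1 ∧ x * w = w * x) :
    ∃ x ∈ U, x ≠ 1 ∧ centralizer ({x} : Set G) ≤ M := by
  obtain ⟨x, hxU, hx1, w, hw, hw1, hxw⟩ := hx
  refine ⟨x, hxU, hx1, ?_⟩
  have hXU : zpowers x ≤ U := (zpowers_le).2 hxU
  have hX1 : zpowers x ≠ ⊥ := by
    intro h
    exact hx1 ((zpowers_eq_bot).mp h)
  have hXc : sigmaCore M ⊓ centralizer ((zpowers x : Subgroup G) : Set G) ≠ ⊥ := by
    intro h
    have hwm : w ∈ sigmaCore M ⊓ centralizer ((zpowers x : Subgroup G) : Set G) := by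
      refine Subgroup.mem_inf.mpr ⟨hw, ?_⟩
      rw [mem_centralizer_iff]
      intro y hy
      obtain ⟨n, rfl⟩ := mem_zpowers_iff.mp hy
      have : Commute x w := hxw
      exact (this.zpow_left n).eq
    rw [h, mem_bot] at hwm
    exact hw1 hwm
  have hCX := (Cfsg.Agent.S1361.result hG M hM K U hKU (zpowers x) hXU hX1 hXc).1
  intro e he
  apply hCX
  rw [mem_centralizer_iff] at he ⊢
  intro y hy
  obtain ⟨n, rfl⟩ := mem_zpowers_iff.mp hy
  have : Commute x e := he x (Set.mem_singleton x)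
  exact (this.zpow_left n).eq

/-- Step 1: `C_{H ∩ M*}(H_σ) = 1`. -/
theorem cent_sigmaCore_eq_bot {M K U Mstar H : Subgroup G}
    (hKU : IsSigmaDecomposition M K U)
    (f : Facts M K U Mstar H)
    (h2 : U ≤ sigmaCore H) (h3 : M ⊓ H = U ⊔ K)
    (h6 : IsComplIn (H ⊓ Mstar) (sigmaCore H) H)
    (hx : ∃ x ∈ U, x ≠ 1 ∧ centralizer ({x} : Set G) ≤ M) :
    (H ⊓ Mstar) ⊓ centralizer (sigmaCore H : Set G) = ⊥ := by
  obtain ⟨x, hxU, hx1, hCX⟩ := hx
  rw [eq_bot_iff]
  intro e he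
  obtain ⟨heD, heC⟩ := Subgroup.mem_inf.mp he
  rw [mem_centralizer_iff] at heC
  have hex : x * e = e * x := heC x (h2 hxU)
  have heM : e ∈ M := by
    apply hCX
    rw [mem_centralizer_iff]
    intro y hy
    rw [Set.mem_singleton_iff] at hy
    rw [hy]; exact hex
  have heH : e ∈ H := (Subgroup.mem_inf.mp heD).1
  have heUK : e ∈ K ⊔ U := by
    rw [sup_comm, ← h3]; exact Subgroup.mem_inf.mpr ⟨heM, heH⟩
  obtain ⟨k, hk, u, hu, hek⟩ := Cfsg.Agent.Lib.Helper19.BG14.mul_decomp hKU.normal heUK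
  -- `u = k⁻¹ e ∈ D ∩ H_σ = 1`
  have huD : u ∈ H ⊓ Mstar := by
    have : u = k⁻¹ * e := by rw [hek]; group
    rw [this]
    exact (H ⊓ Mstar).mul_mem ((H ⊓ Mstar).inv_mem (K_le_D f hk)) heD
  have hu1 : u = 1 := by
    have : u ∈ (H ⊓ Mstar) ⊓ sigmaCore H := Subgroup.mem_inf.mpr ⟨huD, h2 hu⟩
    rw [h6.2.2.1, mem_bot] at this
    exact this
  have hek' : e = k := by rw [hek, hu1, mul_one]
  rw [mem_bot]
  by_contra he1
  have hk1 : k ≠ 1 := by rw [← hek']; exact he1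
  have hreg := f.regU k hk hk1
  have : x ∈ U ⊓ centralizer ({k} : Set G) := by
    refine Subgroup.mem_inf.mpr ⟨hxU, ?_⟩
    rw [mem_centralizer_iff]
    intro y hy
    rw [Set.mem_singleton_iff] at hy
    rw [hy, ← hek']
    exact hex.symm
  rw [hreg, mem_bot] at this
  exact hx1 this

/-- Step 2: the Sylow `r`-subgroups of `G` are abelian for every `r ∈ τ₂(H)`. -/
theorem exists_comm_sylow (hG : IsMinSimpleOddOrder G) {Mstar H : Subgroup G} (hH : IsCoatom H)
    (h6 : IsComplIn (H ⊓ Mstar) (sigmaCore H) H)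
    (hC : (H ⊓ Mstar) ⊓ centralizer (sigmaCore H : Set G) = ⊥) {r : ℕ} (hr : r ∈ tau2 H) :
    ∃ S : Sylow r G, IsMulCommutative (S : Subgroup G) := by
  haveI : Fact r.Prime := ⟨hr.1⟩
  obtain ⟨A, hAD, hAe, hAc⟩ := Cfsg.Agent.Lib.Helper96.BG127.exists_elemAb_sq_le_compl h6 hr
  by_contra hno
  push_neg at hno
  have h19 := (Cfsg.Agent.S1419.result hG H hH (H ⊓ Mstar) h6 r hr hno A ⟨hAD, hAe, hAc⟩).2.1.1
  have hbot : A ⊓ centralizer (sigmaCore H : Set G) = ⊥ := by
    rw [eq_bot_iff, ← hC]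
    exact inf_le_inf_right _ hAD
  rw [hbot, Subgroup.card_bot] at h19
  exact hr.1.one_lt.ne h19

/-- the uniqueness statement for a Sylow `p`-subgroup of `M*_σ`, `p = |K|` -/
theorem eq_Mstar_of_sylow_le (hG : IsMinSimpleOddOrder G) {M K U Mstar H : Subgroup G}
    (hM : IsCoatom M) (hKU : IsSigmaDecomposition M K U) (hK1 : K ≠ ⊥) (hMstar : IsCoatom Mstar)
    (hKst : K = sigmaCore Mstar ⊓ centralizer ((sigmaCore M ⊓ centralizer (K : Set G) : Subgroup G) : Set G))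
    (hKstH : IsPiHallOf (kappa Mstar) (sigmaCore M ⊓ centralizer (K : Set G)) Mstar)
    (hH : IsCoatom H) (f : Facts M K U Mstar H)
    (Q : Sylow (Nat.card K) ↥(sigmaCore Mstar))
    (hQH : (Q : Subgroup ↥(sigmaCore Mstar)).map (sigmaCore Mstar).subtype ≤ H) : False := by
  have hp : (Nat.card K).Prime := f.cardK
  have hKs1 : sigmaCore M ⊓ centralizer (K : Set G) ≠ ⊥ :=
    (Cfsg.Agent.S1354.result hG M hM K hKU.cyclic hKU.hall).1
  have h31 := (Cfsg.Agent.S1431.result hG Mstar hMstar _ hKstH hKs1).2.2.1 (Nat.card K) hp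
    (by rw [← hKst]) Q
  obtain ⟨L, -, hLu⟩ := h31.1
  have e1 : H = L := hLu H ⟨hH, hQH⟩
  have e2 : Mstar = L := hLu Mstar ⟨hMstar, h31.2.1⟩
  apply f.not_conj_Ms 1
  have := Cfsg.Agent.Lib.Helper33.cj_one Mstar
  rw [Cfsg.Agent.Lib.Helper33.cj_def] at this
  rw [this, e1, e2]

/-- **B&G Theorem 15.8**: `τ₂(H) = ∅` (form with `C_G(x) ≤ M` for some `x ∈ U#`). -/
theorem tau2_eq_empty' (hG : IsMinSimpleOddOrder G) {M K U Mstar H : Subgroup G}
    (hM : IsCoatom M) (hKU : IsSigmaDecomposition M K U) (hK1 : K ≠ ⊥) (hMstar : IsCoatom Mstar)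
    (hKst : K = sigmaCore Mstar ⊓ centralizer ((sigmaCore M ⊓ centralizer (K : Set G) : Subgroup G) : Set G))
    (hKstH : IsPiHallOf (kappa Mstar) (sigmaCore M ⊓ centralizer (K : Set G)) Mstar)
    (hH : IsCoatom H) (f : Facts M K U Mstar H)
    (h2 : U ≤ sigmaCore H) (h3 : M ⊓ H = U ⊔ K) (h5 : K ≤ fittingOf (H ⊓ Mstar))
    (h6 : IsComplIn (H ⊓ Mstar) (sigmaCore H) H)
    (hx : ∃ x ∈ U, x ≠ 1 ∧ centralizer ({x} : Set G) ≤ M) : tau2 H = ∅ := by
  classical
  have hC := cent_sigmaCore_eq_bot hKU f h2 h3 h6 hx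
  have hab : ∀ r ∈ tau2 H, ∃ S : Sylow r G, IsMulCommutative (S : Subgroup G) :=
    fun r hr => exists_comm_sylow hG hH h6 hC hr
  have hp : (Nat.card K).Prime := f.cardK
  haveI : Fact (Nat.card K).Prime := ⟨hp⟩
  have hp2 : Nat.card K ≠ 2 :=
    Cfsg.Agent.Lib.Helper23.ne_two_of_dvd_card_subgroup hG (S := K) dvd_rfl
  have hU := Cfsg.Agent.Lib.Helper19.BG124.uniqStmt hG
  have hσs := Cfsg.Agent.Lib.Helper19.BG124.sigmaHallIn hG hMstar
  have hWM : sigmaCore Mstar ≤ Mstar := hσs.1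
  have hDM : H ⊓ Mstar ≤ Mstar := inf_le_right
  have hKD : K ≤ H ⊓ Mstar := K_le_D f
  have hKp : IsPGroup (Nat.card K) K := IsPGroup.of_card (n := 1) (by rw [pow_one])
  have hKexp : ∀ k ∈ K, k ^ Nat.card K = 1 := by
    intro k hk
    have h1 : (⟨k, hk⟩ : ↥K) ^ Nat.card ↥K = 1 := pow_card_eq_one'
    have h2 := congrArg Subtype.val h1
    rw [Subgroup.coe_pow] at h2
    exact h2
  have hKcomm : ∀ a ∈ K, ∀ b ∈ K, a * b = b * a := by
    haveI : IsCyclic ↥K := hKU.cyclic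
    intro a ha b hb
    letI := IsCyclic.commGroup (α := ↥K)
    have := mul_comm (⟨a, ha⟩ : ↥K) ⟨b, hb⟩
    exact congrArg Subtype.val this
  have hKs1 : sigmaCore M ⊓ centralizer (K : Set G) ≠ ⊥ :=
    (Cfsg.Agent.S1354.result hG M hM K hKU.cyclic hKU.hall).1
  by_contra hne
  obtain ⟨s, hs⟩ := Set.nonempty_iff_ne_empty.mpr hne
  haveI : Fact s.Prime := ⟨hs.1⟩
  obtain ⟨A, hAD, hAe, hAc⟩ := Cfsg.Agent.Lib.Helper96.BG127.exists_elemAb_sq_le_compl h6 hs
  have h18 := Cfsg.Agent.S1418.result hG H hH (H ⊓ Mstar) h6 s hs A ⟨hAD, hAe, hAc⟩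
  have hnA : H ⊓ Mstar ≤ normalizer (A : Set G) := h18.1.1
  have hCA : centralizer (A : Set G) ≤ H ⊓ Mstar := by
    have := h18.2.1.1
    rw [h18.2.1.2.1] at this
    exact this
  have hAM : A ≤ Mstar := hAD.trans hDM
  have hAp : IsPGroup s A := IsPGroup.of_card hAc
  -- Step 3a: `s ∈ σ(M*)`
  have hsσ : s ∈ sigma Mstar := by
    by_contra hsσ
    have hr2 : PRankLE s 2 Mstar := by
      by_contra h
      exact hsσ (Cfsg.Agent.Lib.Helper23.alpha_subset_sigma hG hU hMstar ⟨hs.1, h⟩)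
    have hr1 : ¬ PRankLE s 1 Mstar := not_pRankLE_one_of_elemAb_sq hs.1 hAM hAe hAc
    have hτ : s ∈ tau2 Mstar := ⟨hs.1, hsσ, hr2, hr1⟩
    have hnd : ¬ s ∣ Nat.card (sigmaCore Mstar) := fun h =>
      hsσ (Cfsg.Agent.Lib.Helper24.BG.mem_sigma_of_dvd_card_sigmaCore Mstar hs.1 h)
    have hcop : (Nat.card A).Coprime (Nat.card (sigmaCore Mstar)) := by
      rw [hAc]
      exact Nat.Coprime.pow_left 2 ((Nat.Prime.coprime_iff_not_dvd hs.1).mpr hnd)
    obtain ⟨Es, hEs, hAEs⟩ := Cfsg.Agent.Lib.Helper63.BG13.exists_compl_ge hG hMstar.1 hσs hAM hcop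
    have h18s := Cfsg.Agent.S1418.result hG Mstar hMstar Es hEs s hτ A ⟨hAEs, hAe, hAc⟩
    have hKE : K ≤ Es := by
      rw [← h18s.2.1.2.1]
      exact le_inf (hKD.trans hDM) (hKD.trans hnA)
    apply hK1
    rw [eq_bot_iff, ← hEs.2.2.1]
    exact le_inf hKE f.K_le_Ms
  -- Step 3b: `A ≤ M*_σ`
  have hAW : A ≤ sigmaCore Mstar :=
    Cfsg.Agent.Lib.Helper47.BG11.le_sigmaCore_of_sigma hσs hsσ hAM hAp
  -- Step 3c: `s ≠ p`
  have hsp : s ≠ Nat.card K := by
    intro hsp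
    subst hsp
    have hAp' : IsPGroup (Nat.card K) ↥(A.subgroupOf (sigmaCore Mstar)) :=
      hAp.comap_of_injective (sigmaCore Mstar).subtype (sigmaCore Mstar).subtype_injective
    obtain ⟨Q, hQ⟩ := hAp'.exists_le_sylow
    have hAQ : A ≤ (Q : Subgroup ↥(sigmaCore Mstar)).map (sigmaCore Mstar).subtype := by
      intro a ha
      exact ⟨⟨a, hAW ha⟩, hQ (by rw [mem_subgroupOf]; exact ha), rfl⟩
    have hQp : IsPGroup (Nat.card K) ((Q : Subgroup ↥(sigmaCore Mstar)).map (sigmaCore Mstar).subtype) :=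
      Q.2.map (sigmaCore Mstar).subtype
    have hQc := comm_of_exists_comm_sylow (hab _ hs) hQp
    refine eq_Mstar_of_sylow_le hG hM hKU hK1 hMstar hKst hKstH hH f Q ?_
    intro q hq
    have : q ∈ centralizer (A : Set G) := by
      rw [mem_centralizer_iff]
      intro a ha
      exact hQc a (hAQ ha) q hq
    exact (hCA this).1
  -- Step 3d: `[A, K] = 1`
  have hcop : (Nat.card K).Coprime s := by
    rw [Nat.coprime_primes hp hs.1]
    exact fun h => hsp h.symm
  have hAK : ∀ a ∈ A, ∀ k ∈ K, a * k = k * a :=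
    comm_of_le_fittingOf hcop hAD hnA h5 hAe.2 hKexp
  -- Step 3e: `V₀ = C_{M*_σ}(K)` is nilpotent
  have hV0 : Group.IsNilpotent ↥(sigmaCore Mstar ⊓ centralizer (K : Set G)) := by
    obtain ⟨ℓ, hℓ, hℓd⟩ := Nat.exists_prime_and_dvd
      (show Nat.card ↥(sigmaCore M ⊓ centralizer (K : Set G)) ≠ 1 from fun h =>
        hKs1 (Subgroup.card_eq_one.mp h))
    haveI : Fact ℓ.Prime := ⟨hℓ⟩
    obtain ⟨y, hy⟩ := exists_prime_orderOf_dvd_card' ℓ hℓd
    have hyKs : (y : G) ∈ sigmaCore M ⊓ centralizer (K : Set G) := y.2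
    have hyo : orderOf (y : G) = ℓ := by rw [Subgroup.orderOf_coe, hy]
    have hy1 : (y : G) ≠ 1 := by
      intro h
      rw [h, orderOf_one] at hyo
      exact hℓ.one_lt.ne hyo
    have hyℓ : (y : G) ^ ℓ = 1 := by rw [← hyo]; exact pow_orderOf_eq_one _
    have hyM : (y : G) ∈ Mstar := hKstH.1 hyKs
    have hycK : ∀ k ∈ K, (y : G) * k = k * y := by
      intro k hk
      have := (Subgroup.mem_inf.mp hyKs).2
      rw [mem_centralizer_iff] at this
      exact (this k hk).symm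
    have hyn : (y : G) ∈ normalizer ((sigmaCore Mstar ⊓ centralizer (K : Set G) : Subgroup G) : Set G) := by
      have hn1 := Cfsg.Agent.Lib.Helper24.BG.le_normalizer_sigmaCore Mstar hyM
      rw [mem_normalizer_iff] at hn1 ⊢
      intro v
      constructor
      · intro hv
        obtain ⟨hv1, hv2⟩ := Subgroup.mem_inf.mp hv
        refine Subgroup.mem_inf.mpr ⟨(hn1 v).mp hv1, ?_⟩
        rw [mem_centralizer_iff] at hv2 ⊢
        intro k hk
        have e1 := hv2 k hk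
        have e2 := hycK k hk
        calc k * ((y : G) * v * (y : G)⁻¹) = (k * y) * v * (y : G)⁻¹ := by group
          _ = (y : G) * (k * v) * (y : G)⁻¹ := by rw [← e2]; group
          _ = (y : G) * (v * k) * (y : G)⁻¹ := by rw [e1]
          _ = (y : G) * v * (k * (y : G)⁻¹) := by group
          _ = (y : G) * v * ((y : G)⁻¹ * k) := by
              have : k * (y : G)⁻¹ = (y : G)⁻¹ * k := by
                calc k * (y : G)⁻¹ = (y : G)⁻¹ * ((y : G) * k) * (y : G)⁻¹ := by group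
                  _ = (y : G)⁻¹ * (k * y) * (y : G)⁻¹ := by rw [e2]
                  _ = (y : G)⁻¹ * k := by group
              rw [this]
          _ = (y : G) * v * (y : G)⁻¹ * k := by group
      · intro hv
        obtain ⟨hv1, hv2⟩ := Subgroup.mem_inf.mp hv
        refine Subgroup.mem_inf.mpr ⟨(hn1 v).mpr hv1, ?_⟩
        rw [mem_centralizer_iff] at hv2 ⊢
        intro k hk
        have e1 := hv2 k hk
        have e2 := hycK k hk
        have e3 : (y : G)⁻¹ * k = k * (y : G)⁻¹ := by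
          calc (y : G)⁻¹ * k = (y : G)⁻¹ * (k * y) * (y : G)⁻¹ := by group
            _ = (y : G)⁻¹ * ((y : G) * k) * (y : G)⁻¹ := by rw [e2]
            _ = k * (y : G)⁻¹ := by group
        calc k * v = (y : G)⁻¹ * ((y : G) * k) * v := by group
          _ = (y : G)⁻¹ * (k * y) * v := by rw [e2]
          _ = (y : G)⁻¹ * (k * ((y : G) * v * (y : G)⁻¹)) * y := by group
          _ = (y : G)⁻¹ * (((y : G) * v * (y : G)⁻¹) * k) * y := by rw [e1]
          _ = v * ((y : G)⁻¹ * k) * y := by group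
          _ = v * (k * (y : G)⁻¹) * y := by rw [e3]
          _ = v * k := by group
    have hℓσ : ℓ ∉ sigma Mstar := (hKstH.2.1 ℓ hℓ hℓd).2.2.1
    have hcopV : (Nat.card ↥(sigmaCore Mstar ⊓ centralizer (K : Set G))).Coprime ℓ := by
      apply Nat.Coprime.symm
      rw [Nat.Prime.coprime_iff_not_dvd hℓ]
      intro h
      exact hℓσ (Cfsg.Agent.Lib.Helper24.BG.mem_sigma_of_dvd_card_sigmaCore Mstar hℓ
        (h.trans (Subgroup.card_dvd_of_le inf_le_left)))
    have hKV : K ≤ sigmaCore Mstar ⊓ centralizer (K : Set G) := by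
      intro k hk
      refine Subgroup.mem_inf.mpr ⟨f.K_le_Ms hk, ?_⟩
      rw [mem_centralizer_iff]
      intro k' hk'
      exact hKcomm k' hk' k hk
    have h30 := (Cfsg.Agent.S1430.result hG Mstar hMstar _ hKstH hKs1).1 (y : G) hyKs hy1
    refine nilpotent_of_fpf_mod_central (Z := K) hℓ hyn hyℓ hcopV hKV ?_ hycK ?_
    · intro z hz v hv
      have := (Subgroup.mem_inf.mp hv).2
      rw [mem_centralizer_iff] at this
      exact this z hz
    · intro v hv hyv
      have hv' : v ∈ sigmaCore Mstar ⊓ centralizer ({(y : G)} : Set G) := by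
        refine Subgroup.mem_inf.mpr ⟨(Subgroup.mem_inf.mp hv).1, ?_⟩
        rw [mem_centralizer_iff]
        intro z hz
        rw [Set.mem_singleton_iff] at hz
        rw [hz]; exact hyv
      rw [h30, ← hKst] at hv'
      exact hv'
  -- Step 3f: a Sylow `p`-subgroup `Q` of `M*_σ` over `K`, and `X = C_Q(K) ≤ H`
  have hKp' : IsPGroup (Nat.card K) ↥(K.subgroupOf (sigmaCore Mstar)) :=
    hKp.comap_of_injective (sigmaCore Mstar).subtype (sigmaCore Mstar).subtype_injective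
  obtain ⟨Q, hQ⟩ := hKp'.exists_le_sylow
  have hKQ : K ≤ (Q : Subgroup ↥(sigmaCore Mstar)).map (sigmaCore Mstar).subtype := by
    intro k hk
    exact ⟨⟨k, f.K_le_Ms hk⟩, hQ (by rw [mem_subgroupOf]; exact hk), rfl⟩
  have hQp : IsPGroup (Nat.card K) ((Q : Subgroup ↥(sigmaCore Mstar)).map (sigmaCore Mstar).subtype) :=
    Q.2.map (sigmaCore Mstar).subtype
  have hQW : (Q : Subgroup ↥(sigmaCore Mstar)).map (sigmaCore Mstar).subtype ≤ sigmaCore Mstar := by
    rintro _ ⟨x, _, rfl⟩; exact x.2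
  have hXH : (Q : Subgroup ↥(sigmaCore Mstar)).map (sigmaCore Mstar).subtype ⊓ centralizer (K : Set G) ≤ H := by
    intro q hq
    obtain ⟨hq1, hq2⟩ := Subgroup.mem_inf.mp hq
    have hqV : q ∈ sigmaCore Mstar ⊓ centralizer (K : Set G) := Subgroup.mem_inf.mpr ⟨hQW hq1, hq2⟩
    have : q ∈ centralizer (A : Set G) := by
      rw [mem_centralizer_iff]
      intro a ha
      have haV : a ∈ sigmaCore Mstar ⊓ centralizer (K : Set G) := by
        refine Subgroup.mem_inf.mpr ⟨hAW ha, ?_⟩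
        rw [mem_centralizer_iff]
        intro k hk
        exact (hAK a ha k hk).symm
      obtain ⟨n, hn⟩ := (IsPGroup.iff_orderOf.mp hQp) ⟨q, hq1⟩
      have hqn : q ^ (Nat.card K) ^ n = 1 := by
        have h1 : (⟨q, hq1⟩ : ↥((Q : Subgroup ↥(sigmaCore Mstar)).map (sigmaCore Mstar).subtype)) ^
            (Nat.card K) ^ n = 1 := by rw [← hn]; exact pow_orderOf_eq_one _
        have := congrArg Subtype.val h1
        simpa using this
      haveI := hV0
      have h1 : (⟨a, haV⟩ : ↥(sigmaCore Mstar ⊓ centralizer (K : Set G))) ^ s = 1 := by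
        apply Subtype.ext
        rw [Subgroup.coe_pow]
        exact hAe.2 a ha
      have h2 : (⟨q, hqV⟩ : ↥(sigmaCore Mstar ⊓ centralizer (K : Set G))) ^ (Nat.card K) ^ n = 1 := by
        apply Subtype.ext
        rw [Subgroup.coe_pow]
        exact hqn
      have := Cfsg.Agent.Lib.Helper35.commute_of_coprime_of_isNilpotent
        ↥(sigmaCore Mstar ⊓ centralizer (K : Set G)) ⟨a, haV⟩ ⟨q, hqV⟩ s ((Nat.card K) ^ n) h1 h2
        (Nat.Coprime.pow_right n hcop.symm)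
      exact congrArg Subtype.val this.eq
    exact (hCA this).1
  -- Step 3g: `Q` is abelian
  have hQc : ∀ a ∈ (Q : Subgroup ↥(sigmaCore Mstar)).map (sigmaCore Mstar).subtype,
      ∀ b ∈ (Q : Subgroup ↥(sigmaCore Mstar)).map (sigmaCore Mstar).subtype, a * b = b * a := by
    by_cases hr1 : PRankLE (Nat.card K) 1 H
    · have hXp : IsPGroup (Nat.card K)
          ↥((Q : Subgroup ↥(sigmaCore Mstar)).map (sigmaCore Mstar).subtype ⊓ centralizer (K : Set G)) :=
        hQp.to_le inf_le_left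
      have hcyc := Cfsg.Agent.Lib.Helper63.BG13.isCyclic_of_le_of_pRankLE_one hp2 hXp hXH hr1
      exact comm_of_isCyclic_centralizer hQp hKQ rfl hcyc
    · have hr2 : PRankLE (Nat.card K) 2 H := by
        by_contra h
        exact f.cardK_notin (Cfsg.Agent.Lib.Helper23.alpha_subset_sigma hG hU hH ⟨hp, h⟩)
      have hτ : Nat.card K ∈ tau2 H := ⟨hp, f.cardK_notin, hr2, hr1⟩
      exact comm_of_exists_comm_sylow (hab _ hτ) hQp
  -- Step 3h: `Q ≤ H`, contradiction
  refine eq_Mstar_of_sylow_le hG hM hKU hK1 hMstar hKst hKstH hH f Q ?_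
  intro q hq
  apply hXH
  refine Subgroup.mem_inf.mpr ⟨hq, ?_⟩
  rw [mem_centralizer_iff]
  intro k hk
  exact hQc k (hKQ hk) q hq

/-- **B&G Theorem 15.8**: `τ₂(H) = ∅` (form with an element of `U#` centralizing an element of
`M_σ#`). -/
theorem tau2_eq_empty (hG : IsMinSimpleOddOrder G) {M K U Mstar H : Subgroup G}
    (hM : IsCoatom M) (hKU : IsSigmaDecomposition M K U) (hK1 : K ≠ ⊥) (hMstar : IsCoatom Mstar)
    (hKst : K = sigmaCore Mstar ⊓ centralizer ((sigmaCore M ⊓ centralizer (K : Set G) : Subgroup G) : Set G))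
    (hKstH : IsPiHallOf (kappa Mstar) (sigmaCore M ⊓ centralizer (K : Set G)) Mstar)
    (hH : IsCoatom H) (f : Facts M K U Mstar H)
    (h2 : U ≤ sigmaCore H) (h3 : M ⊓ H = U ⊔ K) (h5 : K ≤ fittingOf (H ⊓ Mstar))
    (h6 : IsComplIn (H ⊓ Mstar) (sigmaCore H) H)
    (hx : ∃ x ∈ U, x ≠ 1 ∧ ∃ w ∈ sigmaCore M, w ≠ 1 ∧ x * w = w * x) : tau2 H = ∅ :=
  tau2_eq_empty' hG hM hKU hK1 hMstar hKst hKstH hH f h2 h3 h5 h6 (exists_cent_le hG hM hKU hx)

end Cfsg.Agent.Lib.Helper19.BG158
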