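import Mathlib
import Cfsg.Prelude.Def_OddOrderLocal
import Cfsg.Agent.Lib.Helper19.FpfPrime
import Cfsg.Agent.Lib.Helper24.FpfConj
import Cfsg.Agent.Lib.Helper23.LargeFitA
import Cfsg.Agent.Lib.Helper23.FitLocal
import Cfsg.Agent.Lib.Helper35.HallFusion
import Cfsg.Agent.Lib.Helper76.BG159A

/-!
# B&G Theorem 15.8 (`τ₂(H) = ∅`): generic group-theoretic lemmas
-/

set_option autoImplicit false
set_option linter.unusedSectionVars false
set_option linter.unusedVariables false
set_option linter.style.haveILetI false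

namespace Cfsg.Agent.Lib.Helper19.BG158

open Subgroup Cfsg

universe u

variable {G : Type u} [Group G] [Finite G]

/-- if some Sylow `p`-subgroup of `G` is abelian, every `p`-subgroup is abelian -/
theorem comm_of_exists_comm_sylow {p : ℕ} [Fact p.Prime]
    (h : ∃ S : Sylow p G, IsMulCommutative (S : Subgroup G))
    {X : Subgroup G} (hX : IsPGroup p X) : ∀ a ∈ X, ∀ b ∈ X, a * b = b * a := by
  obtain ⟨S, hS⟩ := h
  obtain ⟨P, hP⟩ := hX.exists_le_sylow
  obtain ⟨g, hg⟩ := MulAction.exists_smul_eq G S P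
  have key : ∀ a ∈ X, ∃ s ∈ (S : Subgroup G), a = g * s * g⁻¹ := by
    intro a ha
    have ha' : a ∈ ((g • S : Sylow p G) : Subgroup G) := by rw [hg]; exact hP ha
    rw [Sylow.coe_subgroup_smul] at ha'
    obtain ⟨s, hs, hsa⟩ :=
      (Subgroup.mem_smul_pointwise_iff_exists a (MulAut.conj g) (S : Subgroup G)).mp ha'
    rw [MulAut.smul_def, MulAut.conj_apply] at hsa
    exact ⟨s, hs, hsa.symm⟩
  intro a ha b hb
  obtain ⟨s, hs, rfl⟩ := key a ha
  obtain ⟨t, ht, rfl⟩ := key b hb
  have hst : s * t = t * s := by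
    have := hS.is_comm.comm ⟨s, hs⟩ ⟨t, ht⟩
    exact congrArg Subtype.val this
  calc g * s * g⁻¹ * (g * t * g⁻¹) = g * (s * t) * g⁻¹ := by group
    _ = g * (t * s) * g⁻¹ := by rw [hst]
    _ = g * t * g⁻¹ * (g * s * g⁻¹) := by group

/-- an elementary abelian subgroup of order `p ^ 2` forces `p`-rank at least two -/
theorem not_pRankLE_one_of_elemAb_sq {p : ℕ} (hp : p.Prime) {A Z : Subgroup G} (hAZ : A ≤ Z)
    (hA : IsElementaryAbelian p A) (hc : Nat.card A = p ^ 2) : ¬ PRankLE p 1 ↥Z := by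
  intro h
  have h1 := h (A.subgroupOf Z) ?_ ?_
  · have h2 : Nat.card (A.subgroupOf Z) = Nat.card A :=
      Nat.card_congr (Subgroup.subgroupOfEquivOfLe hAZ).toEquiv
    rw [h2, hc, pow_one] at h1
    have : p < p ^ 2 := by
      calc p = p ^ 1 := (pow_one p).symm
        _ < p ^ 2 := Nat.pow_lt_pow_right hp.one_lt (by norm_num)
    omega
  · refine ⟨⟨fun a b => ?_⟩⟩
    apply Subtype.ext
    apply Subtype.ext
    have h := hA.1.is_comm.comm ⟨(a : Z), a.2⟩ ⟨(b : Z), b.2⟩
    have h' := congrArg Subtype.val h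
    simpa using h'
  · intro a ha
    apply Subtype.ext
    have := hA.2 (a : G) ha
    simpa using this

/-- a group with an automorphism `y` of prime order `ℓ` prime to `|W|` whose fixed points form a central
subgroup `Z` is nilpotent (Thompson's theorem applied to `W / Z`). -/
theorem nilpotent_of_fpf_mod_central {W Z : Subgroup G} {y : G} {ℓ : ℕ} (hℓ : ℓ.Prime)
    (hy : y ∈ normalizer (W : Set G)) (hyℓ : y ^ ℓ = 1) (hcop : (Nat.card W).Coprime ℓ)
    (hZW : Z ≤ W) (hZc : ∀ z ∈ Z, ∀ w ∈ W, z * w = w * z) (hZy : ∀ z ∈ Z, y * z = z * y)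
    (hfix : ∀ w ∈ W, y * w = w * y → w ∈ Z) : Group.IsNilpotent ↥W := by
  classical
  set φ : ↥W ≃* ↥W := Cfsg.Agent.Lib.Helper24.FpfConj.conjOn W y hy with hφ
  have hφc : ∀ w : ↥W, ((φ w : ↥W) : G) = y * w * y⁻¹ := fun w => rfl
  set Z' : Subgroup ↥W := Z.subgroupOf W with hZ'
  haveI hZn : Z'.Normal := by
    refine ⟨fun z hz w => ?_⟩
    rw [hZ', mem_subgroupOf] at hz ⊢
    have h1 : (z : G) * (w : G)⁻¹ = (w : G)⁻¹ * z := hZc _ hz _ (W.inv_mem w.2)
    have : ((w * z * w⁻¹ : ↥W) : G) = z := by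
      push_cast
      rw [mul_assoc, h1, ← mul_assoc, mul_inv_cancel, one_mul]
    rw [this]; exact hz
  have hφZ : ∀ z : ↥W, z ∈ Z' → φ z = z := by
    intro z hz
    rw [hZ', mem_subgroupOf] at hz
    apply Subtype.ext
    rw [hφc, hZy _ hz, mul_inv_cancel_right]
  have hmap : Z'.map (φ : ↥W ≃* ↥W).toMonoidHom = Z' := by
    ext w
    constructor
    · rintro ⟨z, hz, rfl⟩
      have : (φ : ↥W ≃* ↥W).toMonoidHom z = φ z := rfl
      rw [this, hφZ z hz]; exact hz
    · intro hw
      exact ⟨w, hw, hφZ w hw⟩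
  set ψ : (↥W ⧸ Z') ≃* (↥W ⧸ Z') := QuotientGroup.congr Z' Z' φ hmap with hψ
  have hψmk : ∀ w : ↥W, ψ (QuotientGroup.mk w) = QuotientGroup.mk (φ w) := fun w => rfl
  -- iterates of `φ`
  have hiter : ∀ (n : ℕ) (w : ↥W), (((⇑φ)^[n] w : ↥W) : G) = y ^ n * w * (y ^ n)⁻¹ := by
    intro n
    induction n with
    | zero => intro w; simp
    | succ n ih =>
      intro w
      rw [Function.iterate_succ_apply', hφc, ih]
      rw [pow_succ']
      group
  have hψiter : ∀ (n : ℕ) (w : ↥W), (⇑ψ)^[n] (QuotientGroup.mk w) = QuotientGroup.mk ((⇑φ)^[n] w) := by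
    intro n
    induction n with
    | zero => intro w; rfl
    | succ n ih =>
      intro w
      rw [Function.iterate_succ_apply', ih, hψmk, ← Function.iterate_succ_apply' (⇑φ)]
  have hfpf : Cfsg.Agent.Lib.Helper19.Fpf ℓ ψ := by
    constructor
    · intro q
      induction q using QuotientGroup.induction_on with
      | H w =>
        intro hq
        rw [hψmk] at hq
        have hz : w⁻¹ * φ w ∈ Z' := QuotientGroup.eq.mp hq.symm
        set z : ↥W := w⁻¹ * φ w with hz_def
        have hφw : φ w = w * z := by rw [hz_def, mul_inv_cancel_left]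
        have hpow : ∀ n : ℕ, (⇑φ)^[n] w = w * z ^ n := by
          intro n
          induction n with
          | zero => simp
          | succ n ih =>
            rw [Function.iterate_succ_apply', ih, map_mul, map_pow, hφw, hφZ z hz, pow_succ',
              mul_assoc]
        have h1 : (⇑φ)^[ℓ] w = w := by
          apply Subtype.ext
          rw [hiter, hyℓ]; simp
        have h2 : z ^ ℓ = 1 := by
          have := hpow ℓ
          rw [h1] at this
          exact (mul_eq_left.mp this.symm)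
        have h3 : z = 1 := by
          have ho1 : orderOf z ∣ ℓ := orderOf_dvd_of_pow_eq_one h2
          have ho2 : orderOf z ∣ Nat.card ↥W := orderOf_dvd_natCard z
          have : orderOf z ∣ Nat.gcd (Nat.card ↥W) ℓ := Nat.dvd_gcd ho2 ho1
          rw [hcop] at this
          exact orderOf_eq_one_iff.mp (Nat.dvd_one.mp this)
        have h4 : φ w = w := by rw [hφw, h3, mul_one]
        have h5 : y * (w : G) = w * y := by
          have := congrArg Subtype.val h4
          rw [hφc] at this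
          calc y * (w : G) = (y * w * y⁻¹) * y := by group
            _ = w * y := by rw [this]
        have h6 : (w : G) ∈ Z := hfix _ w.2 h5
        exact (QuotientGroup.eq_one_iff w).mpr (by rw [hZ', mem_subgroupOf]; exact h6)
    · intro q
      induction q using QuotientGroup.induction_on with
      | H w =>
        rw [hψiter]
        congr 1
        apply Subtype.ext
        rw [hiter, hyℓ]; simp
  have hnil : Group.IsNilpotent (↥W ⧸ Z') := Cfsg.Agent.Lib.Helper19.thompson_fpf hℓ ψ hfpf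
  haveI := hnil
  refine _root_.isNilpotent_of_ker_le_center (QuotientGroup.mk' Z') ?_
  rw [QuotientGroup.ker_mk']
  intro z hz
  rw [hZ', mem_subgroupOf] at hz
  rw [Subgroup.mem_center_iff]
  intro w
  apply Subtype.ext
  push_cast
  exact (hZc _ hz _ w.2).symm

/-- a normal `s`-subgroup `A` of `E` commutes with every `p`-subgroup `K` of `F(E)`, `p ≠ s` -/
theorem comm_of_le_fittingOf {p s : ℕ} (hps : p.Coprime s) {E A K : Subgroup G}
    (hAE : A ≤ E) (hnA : E ≤ normalizer (A : Set G)) (hKF : K ≤ fittingOf E)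
    (hA : ∀ a ∈ A, a ^ s = 1) (hK : ∀ k ∈ K, k ^ p = 1) : ∀ a ∈ A, ∀ k ∈ K, a * k = k * a := by
  intro a ha k hk
  have hFE : fittingOf E ≤ E := by
    rintro _ ⟨x, _, rfl⟩; exact x.2
  have hnF := Cfsg.Agent.Lib.Helper23.le_normalizer_fittingOf E
  haveI hnil := Cfsg.Agent.Lib.Helper23.isNilpotent_fittingOf E
  have hkF : k ∈ fittingOf E := hKF hk
  have hkE : k ∈ E := hFE hkF
  have haE : a ∈ E := hAE ha
  obtain ⟨c, hc⟩ : ∃ c : G, c = k * a * k⁻¹ * a⁻¹ := ⟨_, rfl⟩
  have hcA : c ∈ A := by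
    rw [hc]
    exact A.mul_mem ((mem_normalizer_iff.mp (hnA hkE) a).mp ha) (A.inv_mem ha)
  have hcF : c ∈ fittingOf E := by
    have h1 : a * k⁻¹ * a⁻¹ ∈ fittingOf E :=
      (mem_normalizer_iff.mp (hnF haE) k⁻¹).mp ((fittingOf E).inv_mem hkF)
    have : c = k * (a * k⁻¹ * a⁻¹) := by rw [hc]; group
    rw [this]
    exact (fittingOf E).mul_mem hkF h1
  have hcomm : c * k = k * c := by
    have h1 : (⟨c, hcF⟩ : ↥(fittingOf E)) ^ s = 1 := by
      apply Subtype.ext
      rw [Subgroup.coe_pow]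
      exact hA c hcA
    have h2 : (⟨k, hkF⟩ : ↥(fittingOf E)) ^ p = 1 := by
      apply Subtype.ext
      rw [Subgroup.coe_pow]
      exact hK k hk
    have := Cfsg.Agent.Lib.Helper35.commute_of_coprime_of_isNilpotent ↥(fittingOf E)
      ⟨c, hcF⟩ ⟨k, hkF⟩ s p h1 h2 hps.symm
    exact congrArg Subtype.val this.eq
  have hka : k * a * k⁻¹ = c * a := by rw [hc]; group
  have hpow : ∀ n : ℕ, k ^ n * a * (k ^ n)⁻¹ = c ^ n * a := by
    intro n
    induction n with
    | zero => simp
    | succ n ih =>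
      have hck : k * c ^ n * k⁻¹ = c ^ n := by
        have : Commute k (c ^ n) := (Commute.pow_right (show Commute k c from hcomm.symm) n)
        rw [this.eq, mul_inv_cancel_right]
      calc k ^ (n + 1) * a * (k ^ (n + 1))⁻¹ = k * (k ^ n * a * (k ^ n)⁻¹) * k⁻¹ := by
            rw [pow_succ']; group
        _ = k * (c ^ n * a) * k⁻¹ := by rw [ih]
        _ = (k * c ^ n * k⁻¹) * (k * a * k⁻¹) := by group
        _ = c ^ n * (c * a) := by rw [hck, hka]
        _ = c ^ (n + 1) * a := by rw [pow_succ, mul_assoc]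
  have h1 := hpow p
  rw [hK k hk] at h1
  have hcp : c ^ p = 1 := by
    have : a = c ^ p * a := by simpa using h1
    exact (mul_eq_right.mp this.symm)
  have hcs : c ^ s = 1 := hA c hcA
  have hc1 : c = 1 := by
    have ho1 : orderOf c ∣ p := orderOf_dvd_of_pow_eq_one hcp
    have ho2 : orderOf c ∣ s := orderOf_dvd_of_pow_eq_one hcs
    have : orderOf c ∣ Nat.gcd p s := Nat.dvd_gcd ho1 ho2
    rw [hps] at this
    exact orderOf_eq_one_iff.mp (Nat.dvd_one.mp this)
  have : k * a * k⁻¹ = a := by rw [hka, hc1, one_mul]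
  calc a * k = (k * a * k⁻¹) * k := by rw [this]
    _ = k * a := by group

/-- in a `p`-group `Q`, if the centralizer of a subgroup `K` of order `p` is cyclic then `Q` is abelian -/
theorem comm_of_isCyclic_centralizer {p : ℕ} [Fact p.Prime] {Q K : Subgroup G} (hQ : IsPGroup p Q)
    (hKQ : K ≤ Q) (hK : Nat.card K = p) (hc : IsCyclic ↥(Q ⊓ centralizer (K : Set G))) :
    ∀ a ∈ Q, ∀ b ∈ Q, a * b = b * a := by
  classical
  have hp : p.Prime := Fact.out
  haveI hKne : Nontrivial ↥K := by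
    rw [← Finite.one_lt_card_iff_nontrivial, hK]; exact hp.one_lt
  haveI : Nontrivial ↥Q := by
    obtain ⟨k, hk⟩ := exists_ne (1 : ↥K)
    refine ⟨⟨⟨k, hKQ k.2⟩, 1, fun h => hk (Subtype.ext ?_)⟩⟩
    have h' := congrArg (fun x : ↥Q => (x : G)) h
    simpa using h'
  haveI := hQ.center_nontrivial
  have hcp : IsPGroup p (center ↥Q) := hQ.to_subgroup (center ↥Q)
  have hdvd : p ∣ Nat.card (center ↥Q) := by
    obtain ⟨n, hn⟩ := hcp.exists_card_eq
    have hn0 : n ≠ 0 := by
      rintro rfl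
      rw [pow_zero] at hn
      have := Finite.one_lt_card_iff_nontrivial.mpr (inferInstance : Nontrivial (center ↥Q))
      omega
    rw [hn]; exact dvd_pow_self p hn0
  obtain ⟨z, hz⟩ := exists_prime_orderOf_dvd_card' p hdvd
  set z' : G := ((z : ↥Q) : G) with hz'
  have hzQ : z' ∈ Q := (z : ↥Q).2
  have hzc : ∀ q ∈ Q, z' * q = q * z' := by
    intro q hq
    have := (Subgroup.mem_center_iff.mp z.2) ⟨q, hq⟩
    have := congrArg Subtype.val this
    simpa using this.symm
  have hzo : orderOf z' = p := by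
    rw [hz', Subgroup.orderOf_coe, Subgroup.orderOf_coe, hz]
  have hcardz : Nat.card (zpowers z') = p := by rw [Nat.card_zpowers, hzo]
  have hzX : zpowers z' ≤ Q ⊓ centralizer (K : Set G) := by
    rw [zpowers_le]
    refine Subgroup.mem_inf.mpr ⟨hzQ, ?_⟩
    rw [mem_centralizer_iff]
    intro k hk
    exact (hzc k (hKQ hk)).symm
  have hKcomm : ∀ a ∈ K, ∀ b ∈ K, a * b = b * a := by
    haveI : Fact (Nat.card ↥K).Prime := ⟨by rw [hK]; exact hp⟩
    haveI : IsCyclic ↥K := isCyclic_of_prime_card rfl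
    intro a ha b hb
    letI := IsCyclic.commGroup (α := ↥K)
    have := mul_comm (⟨a, ha⟩ : ↥K) ⟨b, hb⟩
    exact congrArg Subtype.val this
  have hKX : K ≤ Q ⊓ centralizer (K : Set G) := by
    intro k hk
    refine Subgroup.mem_inf.mpr ⟨hKQ hk, ?_⟩
    rw [mem_centralizer_iff]
    intro k' hk'
    exact hKcomm k' hk' k hk
  have hXp : IsPGroup p ↥(Q ⊓ centralizer (K : Set G)) := hQ.to_le inf_le_left
  have hKz : K = zpowers z' :=
    Cfsg.Agent.Lib.Helper76.BG159.eq_of_card_eq_of_isCyclic hXp hc hKX hzX (by rw [hK, hcardz])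
  have hQle : Q ≤ Q ⊓ centralizer (K : Set G) := by
    intro q hq
    refine Subgroup.mem_inf.mpr ⟨hq, ?_⟩
    rw [mem_centralizer_iff]
    intro k hk
    rw [hKz] at hk
    obtain ⟨n, rfl⟩ := mem_zpowers_iff.mp hk
    have : Commute z' q := hzc q hq
    exact (this.zpow_left n).eq
  intro a ha b hb
  letI := IsCyclic.commGroup (α := ↥(Q ⊓ centralizer (K : Set G)))
  have := mul_comm (⟨a, hQle ha⟩ : ↥(Q ⊓ centralizer (K : Set G))) ⟨b, hQle hb⟩
  exact congrArg Subtype.val this

end Cfsg.Agent.Lib.Helper19.BG158
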