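import Cfsg.Agent.Lib.Helper19.BG158
import Cfsg.Agent.Lib.Helper32.BG159Defs

/-!
# BG159 hive (helper32): leaf [F2] `τ₂(M) = ∅` for a `CtxF`, from `Helper19.BG158.tau2_eq_empty'`
-/

set_option autoImplicit false

namespace Cfsg.Agent.Lib.Helper32.BG159

open Subgroup Cfsg

universe u

variable {G : Type u} [Group G] [Finite G]

/-- [F2] `τ₂(M) = ∅` (B&G 15.8), complete: replaces the leaves F1, F2a-F2g of the skeleton. -/
theorem tau2_eq_empty_h19 (hG : IsMinSimpleOddOrder G) {N K U Nstar M : Subgroup G} {x : G}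
    (c : CtxF N K U Nstar M x) : tau2 M = ∅ :=
  Cfsg.Agent.Lib.Helper19.BG158.tau2_eq_empty' hG c.hN c.hKU c.hK1 c.hNstar c.hKst c.hKstH c.hM
    c.facts c.hUW c.hNM c.hKF c.hE ⟨x, c.hxU, c.hx1, c.hCx⟩

end Cfsg.Agent.Lib.Helper32.BG159
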