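import Mathlib
import Cfsg.Agent.Lib.Helper91.Wielandt

set_option autoImplicit false
set_option linter.style.haveILetI false

/-!
Basic toolkit for Flavell's generalisation of Wielandt's zipper lemma:
relative subnormality `SnIn K H` (internal to the ambient group), the internal
"generated by conjugates" predicate `Gen`, and conjugation transport.
-/

namespace Cfsg.Agent.Lib.Helper19

open scoped Pointwise

universe u

section basic

variable {G : Type u} [Group G]

theorem cj_mul (g h : G) (H : Subgroup G) :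
    MulAut.conj (g * h) • H = MulAut.conj g • MulAut.conj h • H := by
  rw [map_mul, mul_smul]

theorem cj_inv_cj (g : G) (H : Subgroup G) : MulAut.conj g⁻¹ • MulAut.conj g • H = H := by
  rw [← cj_mul]; simp

theorem cj_cj_inv (g : G) (H : Subgroup G) : MulAut.conj g • MulAut.conj g⁻¹ • H = H := by
  rw [← cj_mul]; simp

theorem cj_le_iff (g : G) (H K : Subgroup G) :
    MulAut.conj g • H ≤ K ↔ H ≤ MulAut.conj g⁻¹ • K := by
  rw [Subgroup.pointwise_smul_subset_iff, map_inv]

theorem le_cj_iff (g : G) (H K : Subgroup G) :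
    H ≤ MulAut.conj g • K ↔ MulAut.conj g⁻¹ • H ≤ K := by
  rw [Subgroup.subset_pointwise_smul_iff, map_inv]

theorem cj_mono (g : G) {H K : Subgroup G} (h : H ≤ K) :
    MulAut.conj g • H ≤ MulAut.conj g • K :=
  Subgroup.pointwise_smul_le_pointwise_smul_iff.mpr h

theorem cj_eq_self_of_mem {H : Subgroup G} {g : G} (hg : g ∈ H) : MulAut.conj g • H = H :=
  Subgroup.conj_smul_eq_self_of_mem hg

theorem cj_injective (g : G) {H K : Subgroup G} (h : MulAut.conj g • H = MulAut.conj g • K) :
    H = K := by
  have := congrArg (fun X => MulAut.conj g⁻¹ • X) h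
  simpa [cj_inv_cj] using this

theorem cj_eq_iff (g : G) (H K : Subgroup G) :
    MulAut.conj g • H = K ↔ H = MulAut.conj g⁻¹ • K := by
  constructor
  · intro h; rw [← h, cj_inv_cj]
  · intro h; rw [h, cj_cj_inv]

theorem mem_normalizer_iff_cj {H : Subgroup G} {g : G} :
    g ∈ Subgroup.normalizer (H : Set G) ↔ MulAut.conj g • H = H :=
  Cfsg.Agent.Lib.Helper91.mem_normalizer_iff_conj_smul_eq

theorem normalizer_cj (g : G) (H : Subgroup G) :
    Subgroup.normalizer ((MulAut.conj g • H : Subgroup G) : Set G)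
      = MulAut.conj g • Subgroup.normalizer (H : Set G) := by
  ext x
  rw [mem_normalizer_iff_cj, Subgroup.mem_pointwise_smul_iff_inv_smul_mem, mem_normalizer_iff_cj]
  have h1 : MulAut.conj ((MulAut.conj g)⁻¹ • x) • H
      = MulAut.conj g⁻¹ • MulAut.conj x • MulAut.conj g • H := by
    rw [← cj_mul, ← cj_mul]
    congr 2
  rw [h1]
  constructor
  · intro h
    have := congrArg (fun X => MulAut.conj g⁻¹ • X) h
    simpa [cj_inv_cj] using this
  · intro h
    have := congrArg (fun X => MulAut.conj g • X) h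
    simpa [cj_cj_inv] using this

theorem cj_top (g : G) : MulAut.conj g • (⊤ : Subgroup G) = ⊤ := by
  ext x
  simp

theorem cj_isCoatom (g : G) {M : Subgroup G} (hM : IsCoatom M) : IsCoatom (MulAut.conj g • M) := by
  constructor
  · intro h
    apply hM.1
    rw [cj_eq_iff, cj_top] at h
    exact h
  · intro K hK
    have h1 : M < MulAut.conj g⁻¹ • K := by
      constructor
      · rw [← cj_le_iff]; exact hK.le
      · intro h
        apply hK.not_ge
        have := cj_mono g h
        rwa [cj_cj_inv] at this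
    have h2 := hM.2 _ h1
    have h3 := congrArg (fun X => MulAut.conj g • X) h2
    simpa [cj_cj_inv, cj_top] using h3

theorem cj_ne_top (g : G) {H : Subgroup G} (h : H ≠ ⊤) : MulAut.conj g • H ≠ ⊤ := by
  intro h'
  apply h
  rw [cj_eq_iff, cj_top] at h'
  exact h'

theorem card_cj (g : G) (K : Subgroup G) :
    Nat.card (MulAut.conj g • K : Subgroup G) = Nat.card K :=
  Cfsg.Agent.Lib.Helper91.card_conj_smul g K

theorem cj_eq_of_le [Finite G] (g : G) {K : Subgroup G} (h : MulAut.conj g • K ≤ K) :
    MulAut.conj g • K = K :=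
  Subgroup.eq_of_le_of_card_ge h (card_cj g K).ge

theorem eq_of_le_cj [Finite G] {g h : G} {A : Subgroup G}
    (hle : MulAut.conj g • A ≤ MulAut.conj h • A) : MulAut.conj g • A = MulAut.conj h • A :=
  Subgroup.eq_of_le_of_card_ge hle (by rw [card_cj, card_cj])

end basic

section snin

variable {G : Type u} [Group G]

/-- `SnIn K H`: `H` is a subnormal subgroup of `K` (internal version). -/
inductive SnIn (K : Subgroup G) : Subgroup G → Prop where
  | refl : SnIn K K
  | step : ∀ H H' : Subgroup G, H ≤ H' → SnIn K H' → H' ≤ Subgroup.normalizer (H : Set G) →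
      SnIn K H

theorem SnIn.le {K H : Subgroup G} (h : SnIn K H) : H ≤ K := by
  induction h with
  | refl => exact le_rfl
  | step H H' hle _ _ ih => exact hle.trans ih

theorem SnIn.inf {K H : Subgroup G} (h : SnIn K H) (L : Subgroup G) : SnIn (K ⊓ L) (H ⊓ L) := by
  induction h with
  | refl => exact SnIn.refl
  | step H H' hle _ hN ih =>
    refine SnIn.step _ _ (inf_le_inf_right L hle) ih ?_
    intro x hx
    rw [Subgroup.mem_inf] at hx
    have h1 := hN hx.1
    rw [Subgroup.mem_normalizer_iff] at h1 ⊢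
    intro y
    rw [Subgroup.mem_inf, Subgroup.mem_inf, ← h1 y]
    constructor
    · rintro ⟨a, b⟩
      exact ⟨a, L.mul_mem (L.mul_mem hx.2 b) (L.inv_mem hx.2)⟩
    · rintro ⟨a, b⟩
      refine ⟨a, ?_⟩
      have := L.mul_mem (L.mul_mem (L.inv_mem hx.2) b) hx.2
      simpa [mul_assoc] using this

/-- restriction to an intermediate subgroup -/
theorem SnIn.restrict {K H L : Subgroup G} (h : SnIn K H) (hHL : H ≤ L) (hLK : L ≤ K) :
    SnIn L H := by
  have := h.inf L
  rwa [inf_eq_right.mpr hLK, inf_eq_left.mpr hHL] at this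

theorem SnIn.cj {K H : Subgroup G} (h : SnIn K H) (g : G) :
    SnIn (MulAut.conj g • K) (MulAut.conj g • H) := by
  induction h with
  | refl => exact SnIn.refl
  | step H H' hle _ hN ih =>
    refine SnIn.step _ _ (cj_mono g hle) ih ?_
    rw [normalizer_cj]
    exact cj_mono g hN

theorem SnIn.of_normal {K H : Subgroup G} (hle : H ≤ K)
    (hN : K ≤ Subgroup.normalizer (H : Set G)) : SnIn K H :=
  SnIn.step _ _ hle SnIn.refl hN

theorem SnIn.trans {K H L : Subgroup G} (h1 : SnIn K H) (h2 : SnIn H L) : SnIn K L := by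
  induction h2 with
  | refl => exact h1
  | step L L' hle _ hN ih => exact SnIn.step _ _ hle ih hN

/-- from the internal notion to Mathlib's `IsSubnormal` on the subtype -/
theorem SnIn.isSubnormal {K H : Subgroup G} (h : SnIn K H) : (H.subgroupOf K).IsSubnormal := by
  induction h with
  | refl => rw [Subgroup.subgroupOf_self]; exact Subgroup.IsSubnormal.top
  | step H H' hle h' hN ih =>
    refine Subgroup.IsSubnormal.step _ (H'.subgroupOf K) ?_ ih ?_
    · exact Subgroup.comap_mono hle
    · rw [Subgroup.normal_subgroupOf_iff_le_normalizer]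
      · intro x hx
        rw [Subgroup.mem_subgroupOf] at hx
        have h1 := hN hx
        rw [Subgroup.mem_normalizer_iff] at h1 ⊢
        intro y
        rw [Subgroup.mem_subgroupOf, Subgroup.mem_subgroupOf]
        simpa using h1 y
      · intro x hx
        rw [Subgroup.mem_subgroupOf] at hx ⊢
        exact hle hx

/-- from Mathlib's `IsSubnormal` on the subtype to the internal notion -/
theorem snIn_of_isSubnormal {K : Subgroup G} {H' : Subgroup K} (h : H'.IsSubnormal) :
    SnIn K (H'.map K.subtype) := by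
  induction h with
  | top =>
    have : (⊤ : Subgroup K).map K.subtype = K := by
      rw [← MonoidHom.range_eq_map, Subgroup.range_subtype]
    rw [this]; exact SnIn.refl
  | step H K' hle _ hN ih =>
    refine SnIn.step _ _ (Subgroup.map_mono hle) ih ?_
    rw [Subgroup.normal_subgroupOf_iff_le_normalizer hle] at hN
    exact (Subgroup.map_mono hN).trans (Subgroup.le_normalizer_map _)

theorem snIn_iff {K H : Subgroup G} (hle : H ≤ K) :
    SnIn K H ↔ (H.subgroupOf K).IsSubnormal := by
  constructor
  · exact SnIn.isSubnormal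
  · intro h
    have := snIn_of_isSubnormal h
    rwa [Subgroup.map_subgroupOf_eq_of_le hle] at this

/-- Wielandt's join theorem, relative version. -/
theorem SnIn.sup [Finite G] {K A B : Subgroup G} (hA : SnIn K A) (hB : SnIn K B) :
    SnIn K (A ⊔ B) := by
  have h1 := Cfsg.Agent.Lib.Helper91.isSubnormal_sup hA.isSubnormal hB.isSubnormal
  have h2 := snIn_of_isSubnormal h1
  rwa [Subgroup.map_sup, Subgroup.map_subgroupOf_eq_of_le hA.le,
    Subgroup.map_subgroupOf_eq_of_le hB.le] at h2

theorem SnIn.bot {K : Subgroup G} : SnIn K ⊥ :=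
  SnIn.of_normal bot_le (by
    intro x _
    rw [Subgroup.mem_normalizer_iff]
    intro y
    simp [Subgroup.mem_bot])

theorem snIn_sSup [Finite G] {K : Subgroup G} (S : Set (Subgroup G))
    (hS : ∀ U ∈ S, SnIn K U) : SnIn K (sSup S) := by
  classical
  have hfin : S.Finite := Set.toFinite S
  induction S, hfin using Set.Finite.induction_on with
  | empty => rw [sSup_empty]; exact SnIn.bot
  | insert ha hs ih =>
    rw [sSup_insert]
    exact SnIn.sup (hS _ (Set.mem_insert _ _))
      (ih (fun U hU => hS U (Set.mem_insert_of_mem _ hU)))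

/-- a subnormal non-normal subgroup has a different conjugate normalizing it -/
theorem SnIn.exists_conj {K H : Subgroup G} (h : SnIn K H)
    (hn : ¬ K ≤ Subgroup.normalizer (H : Set G)) :
    ∃ x ∈ K, MulAut.conj x • H ≠ H ∧ MulAut.conj x • H ≤ Subgroup.normalizer (H : Set G) := by
  have key : ∀ K' : Subgroup G, SnIn K K' → ∀ H : Subgroup G, H ≤ K' →
      K' ≤ Subgroup.normalizer (H : Set G) →
      K ≤ Subgroup.normalizer (H : Set G) ∨
      ∃ x ∈ K, MulAut.conj x • H ≠ H ∧ MulAut.conj x • H ≤ Subgroup.normalizer (H : Set G) := by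
    intro K' hK'
    induction hK' with
    | refl => intro H _ hN; exact Or.inl hN
    | step K₁ K₂ hle hK₂ hN ih =>
      intro H hHK₁ hK₁H
      by_cases hc : K₂ ≤ Subgroup.normalizer (H : Set G)
      · exact ih H (hHK₁.trans hle) hc
      · right
        rw [SetLike.not_le_iff_exists] at hc
        obtain ⟨g, hgK₂, hg⟩ := hc
        refine ⟨g, hK₂.le hgK₂, fun h' => hg (mem_normalizer_iff_cj.mpr h'), ?_⟩
        have h1 : MulAut.conj g • H ≤ MulAut.conj g • K₁ := cj_mono g hHK₁
        rw [mem_normalizer_iff_cj.mp (hN hgK₂)] at h1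
        exact h1.trans hK₁H
  exact (key H h H le_rfl Subgroup.le_normalizer).resolve_left hn

end snin

section gen

variable {G : Type u} [Group G]

/-- `Gen R H`: `R ≤ H` and `H` is the normal closure of `R` in `H` (internal form). -/
def Gen (R H : Subgroup G) : Prop :=
  R ≤ H ∧ ∀ N : Subgroup G, R ≤ N → N ≤ H → H ≤ Subgroup.normalizer (N : Set G) → H ≤ N

theorem gen_of_normalClosure {R H : Subgroup G} (hle : R ≤ H)
    (h : Subgroup.normalClosure ((R.subgroupOf H : Subgroup H) : Set H) = ⊤) : Gen R H := by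
  refine ⟨hle, ?_⟩
  intro N hRN hNH hHN
  have hnorm : (N.subgroupOf H).Normal :=
    (Subgroup.normal_subgroupOf_iff_le_normalizer hNH).mpr hHN
  have h1 : Subgroup.normalClosure ((R.subgroupOf H : Subgroup H) : Set H) ≤ N.subgroupOf H := by
    apply Subgroup.normalClosure_le_normal
    intro x hx
    rw [SetLike.mem_coe, Subgroup.mem_subgroupOf] at hx ⊢
    exact hRN hx
  rw [h, top_le_iff, Subgroup.subgroupOf_eq_top] at h1
  exact h1

theorem normalClosure_of_gen {R H : Subgroup G} (h : Gen R H) :
    Subgroup.normalClosure ((R.subgroupOf H : Subgroup H) : Set H) = ⊤ := by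
  set C := Subgroup.normalClosure ((R.subgroupOf H : Subgroup H) : Set H) with hC
  have hCn : C.Normal := Subgroup.normalClosure_normal
  have h1 : R ≤ C.map H.subtype := by
    intro r hr
    refine ⟨⟨r, h.1 hr⟩, ?_, rfl⟩
    apply Subgroup.subset_normalClosure
    rw [SetLike.mem_coe, Subgroup.mem_subgroupOf]
    exact hr
  have h2 : C.map H.subtype ≤ H := Subgroup.map_subtype_le C
  have h3 : H ≤ Subgroup.normalizer ((C.map H.subtype : Subgroup G) : Set G) := by
    have : (⊤ : Subgroup H) ≤ Subgroup.normalizer (C : Set H) := by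
      rw [Subgroup.normalizer_eq_top_iff.mpr hCn]
    have h4 := (Subgroup.map_mono this).trans (Subgroup.le_normalizer_map H.subtype)
    rwa [← MonoidHom.range_eq_map, Subgroup.range_subtype] at h4
  have h5 := h.2 _ h1 h2 h3
  rw [eq_top_iff]
  intro x _
  obtain ⟨y, hy, hyx⟩ := h5 x.2
  have : y = x := Subtype.ext hyx
  rw [← this]; exact hy

theorem gen_iff {R H : Subgroup G} (hle : R ≤ H) :
    Gen R H ↔ Subgroup.normalClosure ((R.subgroupOf H : Subgroup H) : Set H) = ⊤ :=
  ⟨normalClosure_of_gen, gen_of_normalClosure hle⟩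

theorem Gen.cj {R H : Subgroup G} (h : Gen R H) (g : G) :
    Gen (MulAut.conj g • R) (MulAut.conj g • H) := by
  refine ⟨cj_mono g h.1, ?_⟩
  intro N hRN hNH hHN
  rw [cj_le_iff] at hRN ⊢
  rw [le_cj_iff] at hNH
  apply h.2 _ hRN hNH
  rw [normalizer_cj, ← cj_le_iff]
  exact hHN

theorem gen_self (R : Subgroup G) : Gen R R := ⟨le_rfl, fun _ h _ _ => h⟩

/-- a subnormal subgroup of `H` containing a subgroup whose normal closure in `H` is `H`
is `H` itself -/
theorem SnIn.eq_of_gen {H J R : Subgroup G} (h : SnIn H J) (hRJ : R ≤ J) (hg : Gen R H) :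
    H ≤ J := by
  induction h with
  | refl => exact le_rfl
  | step J J' hle hJ' hN ih =>
    have h1 : H ≤ J' := ih (hRJ.trans hle)
    exact hg.2 J hRJ (hle.trans hJ'.le) (h1.trans hN)

/-- transitivity of `Gen` -/
theorem Gen.trans {A S H : Subgroup G} (h1 : Gen A S) (h2 : Gen S H) : Gen A H := by
  refine ⟨h1.1.trans h2.1, ?_⟩
  intro N hAN hNH hHN
  have h3 : S ≤ N ⊓ S := by
    apply h1.2 (N ⊓ S) (le_inf hAN h1.1) inf_le_right
    intro x hx
    have hx1 := hHN (h2.1 hx)
    rw [Subgroup.mem_normalizer_iff] at hx1 ⊢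
    intro y
    rw [Subgroup.mem_inf, Subgroup.mem_inf, ← hx1 y]
    constructor
    · rintro ⟨a, b⟩
      exact ⟨a, S.mul_mem (S.mul_mem hx b) (S.inv_mem hx)⟩
    · rintro ⟨a, b⟩
      refine ⟨a, ?_⟩
      have := S.mul_mem (S.mul_mem (S.inv_mem hx) b) hx
      simpa [mul_assoc] using this
  exact h2.2 N (h3.trans inf_le_left) hNH hHN

end gen

end Cfsg.Agent.Lib.Helper19
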