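import Mathlib
import Cfsg.Agent.Lib.Helper19.Flavell1

set_option autoImplicit false
set_option linter.style.haveILetI false
set_option linter.unusedSectionVars false

/-!
Flavell's generalisation of Wielandt's zipper lemma: the configuration `Cfg A M`
(a subgroup `A` together with its unique "bad" maximal overgroup `M`) and the
adjacency lemma.
-/

namespace Cfsg.Agent.Lib.Helper19

open scoped Pointwise

universe u

variable {G : Type u} [Group G] [Finite G]

/-- the family of subgroups appearing in the statement -/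
def calH (A : Subgroup G) : Set (Subgroup G) :=
  {H | A ≤ H ∧ H ≠ ⊤ ∧ Subgroup.normalClosure ((A.subgroupOf H : Subgroup H) : Set H) = ⊤}

theorem mem_calH_iff {A H : Subgroup G} : H ∈ calH A ↔ H ≠ ⊤ ∧ Gen A H := by
  constructor
  · rintro ⟨h1, h2, h3⟩
    exact ⟨h2, gen_of_normalClosure h1 h3⟩
  · rintro ⟨h2, h3⟩
    exact ⟨h3.1, h2, normalClosure_of_gen h3⟩

/-- the conclusion of the theorem for the subgroup `A` -/
def Concl (A : Subgroup G) : Prop :=
  sSup (calH A) = ⊤ ∨ ∃! M : Subgroup G, IsCoatom M ∧ A ≤ M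

/-- The configuration in a minimal counterexample. -/
structure Cfg (A M : Subgroup G) : Prop where
  coatom : IsCoatom M
  le : A ≤ M
  nle : Subgroup.normalizer (A : Set G) ≤ M
  ncl : Subgroup.normalClosure (A : Set G) = ⊤
  sn : ∀ K : Subgroup G, IsCoatom K → A ≤ K → K ≠ M → SnIn K A
  ih : ∀ R : Subgroup G, Nat.card A < Nat.card R → R ≠ ⊤ →
    Subgroup.normalClosure (R : Set G) = ⊤ → Concl R

theorem normalClosure_cj_eq_top {A : Subgroup G} (g : G)
    (h : Subgroup.normalClosure (A : Set G) = ⊤) :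
    Subgroup.normalClosure ((MulAut.conj g • A : Subgroup G) : Set G) = ⊤ := by
  rw [eq_top_iff, ← h]
  apply Subgroup.normalClosure_le_normal
  intro a ha
  have h1 : MulAut.conj g • a ∈ MulAut.conj g • A := Subgroup.smul_mem_pointwise_smul _ _ _ ha
  have h2 : MulAut.conj g • a ∈
      Subgroup.normalClosure ((MulAut.conj g • A : Subgroup G) : Set G) :=
    Subgroup.subset_normalClosure h1
  have h3 := (Subgroup.normalClosure_normal
    (s := ((MulAut.conj g • A : Subgroup G) : Set G))).conj_mem _ h2 g⁻¹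
  simpa [MulAut.smul_def, MulAut.conj_apply, mul_assoc] using h3

theorem Cfg.cj {A M : Subgroup G} (c : Cfg A M) (g : G) :
    Cfg (MulAut.conj g • A) (MulAut.conj g • M) where
  coatom := cj_isCoatom g c.coatom
  le := cj_mono g c.le
  nle := by rw [normalizer_cj]; exact cj_mono g c.nle
  ncl := normalClosure_cj_eq_top g c.ncl
  sn := by
    intro K hK hAK hKM
    have h1 : IsCoatom (MulAut.conj g⁻¹ • K) := cj_isCoatom _ hK
    have h2 : A ≤ MulAut.conj g⁻¹ • K := (cj_le_iff g A K).mp hAK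
    have h3 : MulAut.conj g⁻¹ • K ≠ M := by
      intro h
      apply hKM
      rw [← h, cj_cj_inv]
    have h4 := (c.sn _ h1 h2 h3).cj g
    rwa [cj_cj_inv] at h4
  ih := by
    intro R hR
    rw [card_cj] at hR
    exact c.ih R hR

theorem Cfg.sn_of_not_le {A M : Subgroup G} (c : Cfg A M) {H : Subgroup G} (hAH : A ≤ H)
    (hH : H ≠ ⊤) (hHM : ¬ H ≤ M) : SnIn H A := by
  obtain ⟨K, hK, hHK⟩ := (eq_top_or_exists_le_coatom H).resolve_left hH
  have hKM : K ≠ M := by
    rintro rfl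
    exact hHM hHK
  exact (c.sn K hK (hAH.trans hHK) hKM).restrict hAH hHK

theorem card_lt_card_of_lt {A R : Subgroup G} (h : A < R) : Nat.card A < Nat.card R := by
  by_contra hc
  rw [not_lt] at hc
  exact h.not_ge (Subgroup.eq_of_le_of_card_ge h.le hc).ge

theorem Cfg.adj0 {A M : Subgroup G} (c : Cfg A M) (g : G) (hne : MulAut.conj g • A ≠ A)
    {H₁ H₂ : Subgroup G} (hH₁ : IsCoatom H₁) (hH₂ : IsCoatom H₂) (h12 : H₁ ≠ H₂)
    (hA1 : A ≤ H₁) (hA2 : A ≤ H₂) (hB1 : MulAut.conj g • A ≤ H₁)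
    (hB2 : MulAut.conj g • A ≤ H₂) :
    MulAut.conj g • A ≤ M ∧ A ≤ MulAut.conj g • M ∧ MulAut.conj g • M ≠ M := by
  have hcB : Cfg (MulAut.conj g • A) (MulAut.conj g • M) := c.cj g
  have hAR : A ≤ A ⊔ MulAut.conj g • A := le_sup_left
  have hBR : MulAut.conj g • A ≤ A ⊔ MulAut.conj g • A := le_sup_right
  have hlt : Nat.card A < Nat.card (A ⊔ MulAut.conj g • A : Subgroup G) := by
    apply card_lt_card_of_lt
    refine lt_of_le_of_ne hAR ?_
    intro h
    apply hne
    apply cj_eq_of_le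
    exact hBR.trans h.ge
  have hR1 : A ⊔ MulAut.conj g • A ≤ H₁ := sup_le hA1 hB1
  have hR2 : A ⊔ MulAut.conj g • A ≤ H₂ := sup_le hA2 hB2
  have hRtop : A ⊔ MulAut.conj g • A ≠ ⊤ := by
    intro h
    apply hH₁.1
    rw [eq_top_iff, ← h]; exact hR1
  have hncl : Subgroup.normalClosure ((A ⊔ MulAut.conj g • A : Subgroup G) : Set G) = ⊤ := by
    rw [eq_top_iff, ← c.ncl]
    exact Subgroup.normalClosure_mono hAR
  have hY : sSup (calH (A ⊔ MulAut.conj g • A)) = ⊤ := by
    rcases c.ih _ hlt hRtop hncl with h | ⟨M', -, huniq⟩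
    · exact h
    · exact absurd ((huniq H₁ ⟨hH₁, hR1⟩).trans (huniq H₂ ⟨hH₂, hR2⟩).symm) h12
  have key : ∀ H ∈ calH (A ⊔ MulAut.conj g • A),
      H ≤ M ∨ H ≤ MulAut.conj g • M ∨ H ≤ A ⊔ MulAut.conj g • A := by
    intro H hH
    rw [mem_calH_iff] at hH
    obtain ⟨hHtop, hgen⟩ := hH
    by_cases h1 : H ≤ M
    · exact Or.inl h1
    by_cases h2 : H ≤ MulAut.conj g • M
    · exact Or.inr (Or.inl h2)
    right; right
    have s1 : SnIn H A := c.sn_of_not_le (hAR.trans hgen.1) hHtop h1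
    have s2 : SnIn H (MulAut.conj g • A) := hcB.sn_of_not_le (hBR.trans hgen.1) hHtop h2
    exact (s1.sup s2).eq_of_gen le_rfl hgen
  have hMtop : ¬ (⊤ : Subgroup G) ≤ M := fun h => c.coatom.1 (top_le_iff.mp h)
  have hgMtop : ¬ (⊤ : Subgroup G) ≤ MulAut.conj g • M :=
    fun h => hcB.coatom.1 (top_le_iff.mp h)
  have hRtop' : ¬ (⊤ : Subgroup G) ≤ A ⊔ MulAut.conj g • A := fun h => hRtop (top_le_iff.mp h)
  have hRM : A ⊔ MulAut.conj g • A ≤ M := by
    by_contra hc
    by_cases h2 : A ⊔ MulAut.conj g • A ≤ MulAut.conj g • M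
    · apply hgMtop
      rw [← hY]
      apply sSup_le
      intro H hH
      rcases key H hH with h | h | h
      · exact absurd ((mem_calH_iff.mp hH).2.1.trans h) hc
      · exact h
      · exact h.trans h2
    · apply hRtop'
      rw [← hY]
      apply sSup_le
      intro H hH
      rcases key H hH with h | h | h
      · exact absurd ((mem_calH_iff.mp hH).2.1.trans h) hc
      · exact absurd ((mem_calH_iff.mp hH).2.1.trans h) h2
      · exact h
  have hRgM : A ⊔ MulAut.conj g • A ≤ MulAut.conj g • M := by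
    by_contra hc
    apply hMtop
    rw [← hY]
    apply sSup_le
    intro H hH
    rcases key H hH with h | h | h
    · exact h
    · exact absurd ((mem_calH_iff.mp hH).2.1.trans h) hc
    · exact h.trans hRM
  refine ⟨hBR.trans hRM, hAR.trans hRgM, ?_⟩
  intro heq
  apply hMtop
  rw [← hY]
  apply sSup_le
  intro H hH
  rcases key H hH with h | h | h
  · exact h
  · rw [heq] at h; exact h
  · exact h.trans hRM

/-- the adjacency lemma for two arbitrary conjugates -/
theorem Cfg.adj {A M : Subgroup G} (c : Cfg A M) (g₁ g₂ : G)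
    (hne : MulAut.conj g₁ • A ≠ MulAut.conj g₂ • A)
    {H₁ H₂ : Subgroup G} (hH₁ : IsCoatom H₁) (hH₂ : IsCoatom H₂) (h12 : H₁ ≠ H₂)
    (hA1 : MulAut.conj g₁ • A ≤ H₁) (hA2 : MulAut.conj g₁ • A ≤ H₂)
    (hB1 : MulAut.conj g₂ • A ≤ H₁) (hB2 : MulAut.conj g₂ • A ≤ H₂) :
    MulAut.conj g₂ • A ≤ MulAut.conj g₁ • M ∧ MulAut.conj g₁ • A ≤ MulAut.conj g₂ • M ∧
      MulAut.conj g₁ • M ≠ MulAut.conj g₂ • M := by
  have hc := c.cj g₁
  have e1 : ∀ X : Subgroup G, MulAut.conj (g₂ * g₁⁻¹) • MulAut.conj g₁ • X = MulAut.conj g₂ • X := by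
    intro X
    rw [← cj_mul]
    congr 2
    group
  have h := hc.adj0 (g₂ * g₁⁻¹) (by rw [e1]; exact fun h => hne h.symm) hH₁ hH₂ h12 hA1 hA2
    (by rw [e1]; exact hB1) (by rw [e1]; exact hB2)
  rw [e1, e1] at h
  exact ⟨h.1, h.2.1, fun h' => h.2.2 h'.symm⟩

theorem Cfg.inter_le_normalizer {A M : Subgroup G} (c : Cfg A M) {K : Subgroup G}
    (hK : IsCoatom K) (hAK : A ≤ K) (hKM : K ≠ M) :
    K ⊓ M ≤ Subgroup.normalizer (A : Set G) := by
  intro h hh
  rw [Subgroup.mem_inf] at hh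
  rw [mem_normalizer_iff_cj]
  by_contra hne
  have h1 : MulAut.conj h • A ≤ K := by
    have := cj_mono h hAK
    rwa [cj_eq_self_of_mem hh.1] at this
  have h2 : MulAut.conj h • A ≤ M := by
    have := cj_mono h c.le
    rwa [cj_eq_self_of_mem hh.2] at this
  have := c.adj0 h hne hK c.coatom hKM hAK c.le h1 h2
  exact this.2.2 (cj_eq_self_of_mem hh.2)

/-- adjacent conjugates normalise each other -/
theorem Cfg.adj_norm {A M : Subgroup G} (c : Cfg A M) (g₁ g₂ : G)
    (hne : MulAut.conj g₁ • A ≠ MulAut.conj g₂ • A)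
    {H₁ H₂ : Subgroup G} (hH₁ : IsCoatom H₁) (hH₂ : IsCoatom H₂) (h12 : H₁ ≠ H₂)
    (hA1 : MulAut.conj g₁ • A ≤ H₁) (hA2 : MulAut.conj g₁ • A ≤ H₂)
    (hB1 : MulAut.conj g₂ • A ≤ H₁) (hB2 : MulAut.conj g₂ • A ≤ H₂) :
    MulAut.conj g₂ • A ≤ Subgroup.normalizer ((MulAut.conj g₁ • A : Subgroup G) : Set G) := by
  obtain ⟨h1, h2, h3⟩ := c.adj g₁ g₂ hne hH₁ hH₂ h12 hA1 hA2 hB1 hB2
  have hc := c.cj g₁
  have h4 := hc.inter_le_normalizer (cj_isCoatom g₂ c.coatom) h2 (fun h => h3 h.symm)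
  exact (le_inf (cj_mono g₂ c.le) h1).trans h4

theorem Cfg.center_wd {A M : Subgroup G} (c : Cfg A M) (g₁ g₂ : G)
    (h : MulAut.conj g₁ • A = MulAut.conj g₂ • A) :
    MulAut.conj g₁ • M = MulAut.conj g₂ • M := by
  have h1 : g₂⁻¹ * g₁ ∈ Subgroup.normalizer (A : Set G) := by
    rw [mem_normalizer_iff_cj, cj_mul, h, cj_inv_cj]
  have h2 := cj_eq_self_of_mem (c.nle h1)
  rw [cj_mul] at h2
  have h3 := congrArg (fun X => MulAut.conj g₂ • X) h2
  simpa [cj_cj_inv] using h3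

end Cfsg.Agent.Lib.Helper19
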