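import Mathlib
import Cfsg.Agent.Lib.Helper19.Flavell2

set_option autoImplicit false
set_option linter.style.haveILetI false
set_option linter.unusedSectionVars false

/-!
Flavell's generalisation of Wielandt's zipper lemma: lines of pairwise normalising
conjugates and the final contradiction.
-/

namespace Cfsg.Agent.Lib.Helper19

open scoped Pointwise

universe u

variable {G : Type u} [Group G] [Finite G]

/-- `A` and `x • A` are adjacent. -/
structure Adj (A M : Subgroup G) (x : G) : Prop where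
  ne : MulAut.conj x • A ≠ A
  le1 : MulAut.conj x • A ≤ M
  le2 : A ≤ MulAut.conj x • M
  neM : MulAut.conj x • M ≠ M

/-- `g • A` lies on the line through `A` and `x • A`. -/
def OnL (A M : Subgroup G) (x g : G) : Prop :=
  MulAut.conj g • A ≤ M ⊓ MulAut.conj x • M

theorem onL_one {A M : Subgroup G} (c : Cfg A M) {x : G} (a : Adj A M x) : OnL A M x 1 := by
  unfold OnL
  rw [map_one, one_smul]
  exact le_inf c.le a.le2

theorem onL_x {A M : Subgroup G} (c : Cfg A M) {x : G} (a : Adj A M x) : OnL A M x x :=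
  le_inf a.le1 (cj_mono x c.le)

theorem line_sub {A M : Subgroup G} (c : Cfg A M) {x : G} (a : Adj A M x) {g₃ g₄ g : G}
    (h3 : OnL A M x g₃) (h4 : OnL A M x g₄) (hg : OnL A M x g) :
    MulAut.conj g • A ≤ MulAut.conj g₃ • M ⊓ MulAut.conj g₄ • M := by
  have hxM : IsCoatom (MulAut.conj x • M) := cj_isCoatom x c.coatom
  have aux : ∀ g' : G, OnL A M x g' → MulAut.conj g • A ≤ MulAut.conj g' • M := by
    intro g' hg'
    by_cases he : MulAut.conj g' • A = MulAut.conj g • A
    · rw [← he]; exact cj_mono g' c.le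
    · exact (c.adj g' g he c.coatom hxM (fun h => a.neM h.symm) (hg'.trans inf_le_left)
        (hg'.trans inf_le_right) (hg.trans inf_le_left) (hg.trans inf_le_right)).1
  exact le_inf (aux g₃ h3) (aux g₄ h4)

theorem line_sup {A M : Subgroup G} (c : Cfg A M) {x : G} (a : Adj A M x) {g₃ g₄ g : G}
    (h3 : OnL A M x g₃) (h4 : OnL A M x g₄)
    (hne : MulAut.conj g₃ • A ≠ MulAut.conj g₄ • A)
    (hg : MulAut.conj g • A ≤ MulAut.conj g₃ • M ⊓ MulAut.conj g₄ • M) :
    OnL A M x g := by
  have hxM : IsCoatom (MulAut.conj x • M) := cj_isCoatom x c.coatom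
  have h34 : MulAut.conj g₃ • M ≠ MulAut.conj g₄ • M :=
    (c.adj g₃ g₄ hne c.coatom hxM (fun h => a.neM h.symm) (h3.trans inf_le_left)
      (h3.trans inf_le_right) (h4.trans inf_le_left) (h4.trans inf_le_right)).2.2
  have hc3 : IsCoatom (MulAut.conj g₃ • M) := cj_isCoatom g₃ c.coatom
  have hc4 : IsCoatom (MulAut.conj g₄ • M) := cj_isCoatom g₄ c.coatom
  have aux : ∀ g' : G, OnL A M x g' → MulAut.conj g • A ≤ MulAut.conj g' • M := by
    intro g' hg'
    have h1 := line_sub c a h3 h4 hg'
    by_cases he : MulAut.conj g' • A = MulAut.conj g • A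
    · rw [← he]; exact cj_mono g' c.le
    · exact (c.adj g' g he hc3 hc4 h34 (h1.trans inf_le_left)
        (h1.trans inf_le_right) (hg.trans inf_le_left) (hg.trans inf_le_right)).1
  have h1 := aux 1 (onL_one c a)
  rw [map_one, one_smul] at h1
  exact le_inf h1 (aux x (onL_x c a))

/-- an element moving two distinct points of the line into the line stabilises the line -/
theorem line_stab {A M : Subgroup G} (c : Cfg A M) {x : G} (a : Adj A M x) {g₃ g₄ m : G}
    (h3 : OnL A M x g₃) (h4 : OnL A M x g₄)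
    (hne : MulAut.conj g₃ • A ≠ MulAut.conj g₄ • A)
    (h3' : OnL A M x (m * g₃)) (h4' : OnL A M x (m * g₄)) {g : G} (hg : OnL A M x g) :
    OnL A M x (m * g) := by
  have h1 := line_sub c a h3 h4 hg
  have h2 : MulAut.conj (m * g) • A ≤
      MulAut.conj (m * g₃) • M ⊓ MulAut.conj (m * g₄) • M := by
    rw [cj_mul, cj_mul, cj_mul, ← Subgroup.smul_inf]
    exact cj_mono m h1
  apply line_sup c a h3' h4' _ h2
  intro h
  apply hne
  rw [cj_mul, cj_mul] at h
  exact cj_injective m h

/-- The set of conjugates on the line, and their join. -/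
def lineSet (A M : Subgroup G) (x : G) : Set (Subgroup G) :=
  {B | ∃ g : G, B = MulAut.conj g • A ∧ OnL A M x g}

theorem cj_sSup_le {S : Set (Subgroup G)} (m : G)
    (h : ∀ B ∈ S, MulAut.conj m • B ≤ sSup S) : MulAut.conj m • sSup S = sSup S := by
  apply cj_eq_of_le
  rw [cj_le_iff]
  apply sSup_le
  intro B hB
  rw [← cj_le_iff]
  exact h B hB

theorem line_stab_P {A M : Subgroup G} (c : Cfg A M) {x : G} (a : Adj A M x) {g₃ g₄ m : G}
    (h3 : OnL A M x g₃) (h4 : OnL A M x g₄)
    (hne : MulAut.conj g₃ • A ≠ MulAut.conj g₄ • A)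
    (h3' : OnL A M x (m * g₃)) (h4' : OnL A M x (m * g₄)) :
    MulAut.conj m • sSup (lineSet A M x) = sSup (lineSet A M x) := by
  apply cj_sSup_le
  rintro B ⟨g, rfl, hg⟩
  apply le_sSup
  refine ⟨m * g, by rw [cj_mul], line_stab c a h3 h4 hne h3' h4' hg⟩

/-- The main contradiction: `A` lies in no maximal subgroup other than `M`. -/
theorem Cfg.unique {A M : Subgroup G} (c : Cfg A M) {K : Subgroup G} (hK : IsCoatom K)
    (hAK : A ≤ K) : K = M := by
  by_contra hKM
  have hMtop : ¬ (⊤ : Subgroup G) ≤ M := fun h => c.coatom.1 (top_le_iff.mp h)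
  -- the zipper element in K
  have hKn : ¬ K ≤ Subgroup.normalizer (A : Set G) := by
    intro h
    rcases hK.le_iff.mp (h.trans c.nle) with h1 | h1
    · exact c.coatom.1 h1
    · exact hKM h1.symm
  obtain ⟨x, hxK, hxne, hxN⟩ := (c.sn K hK hAK hKM).exists_conj hKn
  have hxAK : MulAut.conj x • A ≤ K := by
    have := cj_mono x hAK
    rwa [cj_eq_self_of_mem hxK] at this
  have hxAM : MulAut.conj x • A ≤ M := hxN.trans c.nle
  obtain ⟨-, hAxM, hxMne⟩ := c.adj0 x hxne hK c.coatom hKM hAK c.le hxAK hxAM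
  have a : Adj A M x := ⟨hxne, hxAM, hAxM, hxMne⟩
  have hxM : IsCoatom (MulAut.conj x • M) := cj_isCoatom x c.coatom
  have hxnotM : x ∉ M := fun h => hxMne (cj_eq_self_of_mem h)
  -- the zipper element in x • M
  have hxMn : ¬ MulAut.conj x • M ≤ Subgroup.normalizer (A : Set G) := by
    intro h
    rcases hxM.le_iff.mp (h.trans c.nle) with h1 | h1
    · exact c.coatom.1 h1
    · exact hxMne h1.symm
  obtain ⟨x₂, hx₂M, hx₂ne, hx₂N⟩ := (c.sn _ hxM hAxM hxMne).exists_conj hxMn
  have hx₂AM : MulAut.conj x₂ • A ≤ M := hx₂N.trans c.nle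
  have hx₂AxM : MulAut.conj x₂ • A ≤ MulAut.conj x • M := by
    have := cj_mono x₂ hAxM
    rwa [cj_eq_self_of_mem hx₂M] at this
  have hx₂x : MulAut.conj x • A ≠ MulAut.conj x₂ • A := by
    intro h
    have h1 := c.center_wd x x₂ h
    have h2 : MulAut.conj x₂ • MulAut.conj x • M = MulAut.conj x₂ • M :=
      (cj_eq_self_of_mem hx₂M).trans h1
    exact hxMne (cj_injective x₂ h2)
  have o1 : OnL A M x 1 := onL_one c a
  have ox : OnL A M x x := onL_x c a
  have ox₂ : OnL A M x x₂ := le_inf hx₂AM hx₂AxM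
  have h1x : MulAut.conj (1 : G) • A ≠ MulAut.conj x • A := by
    rw [map_one, one_smul]; exact fun h => hxne h.symm
  -- the line and its join
  have hPI : sSup (lineSet A M x) ≤ M ⊓ MulAut.conj x • M := by
    apply sSup_le
    rintro B ⟨g, rfl, hg⟩
    exact hg
  have hAP : A ≤ sSup (lineSet A M x) :=
    le_sSup ⟨1, by rw [map_one, one_smul], o1⟩
  have hxAP : MulAut.conj x • A ≤ sSup (lineSet A M x) := le_sSup ⟨x, rfl, ox⟩
  have hx₂AP : MulAut.conj x₂ • A ≤ sSup (lineSet A M x) := le_sSup ⟨x₂, rfl, ox₂⟩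
  -- x normalises P
  have oxx : OnL A M x (x * x) := by
    have h1 : MulAut.conj (x * x) • A ≤ MulAut.conj x • M := by
      rw [cj_mul]; exact cj_mono x hxAM
    refine le_inf ?_ h1
    by_cases he : MulAut.conj (x * x) • A = A
    · rw [he]; exact c.le
    · have hKxM : K ≠ MulAut.conj x • M := by
        intro h
        apply hKM
        have h2 := congrArg (fun X => MulAut.conj x⁻¹ • X) h
        simp only [cj_inv_cj] at h2
        rw [← h2]
        exact (cj_eq_self_of_mem (K.inv_mem hxK)).symm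
      have hxxK : MulAut.conj (x * x) • A ≤ K := by
        have := cj_mono (x * x) hAK
        rwa [cj_eq_self_of_mem (K.mul_mem hxK hxK)] at this
      exact (c.adj0 (x * x) he hK hxM hKxM hAK hAxM hxxK h1).1
  have hxP : MulAut.conj x • sSup (lineSet A M x) = sSup (lineSet A M x) :=
    line_stab_P c a o1 ox h1x (by rw [mul_one]; exact ox) oxx
  -- the normaliser of P is proper
  have hNP : Subgroup.normalizer ((sSup (lineSet A M x) : Subgroup G) : Set G) ≠ ⊤ := by
    intro h
    have hn : (sSup (lineSet A M x)).Normal := Subgroup.normalizer_eq_top_iff.mp h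
    apply hMtop
    rw [← c.ncl]
    exact (Subgroup.normalClosure_le_normal (N := sSup (lineSet A M x)) hAP).trans
      (hPI.trans inf_le_left)
  obtain ⟨L, hL, hNL⟩ := (eq_top_or_exists_le_coatom _).resolve_left hNP
  have hLM : L ≠ M := by
    rintro rfl
    exact hxnotM (hNL (mem_normalizer_iff_cj.mpr hxP))
  have hPL : sSup (lineSet A M x) ≤ L := Subgroup.le_normalizer.trans hNL
  -- conjugates inside D lie on the line
  have hD : ∀ g : G, MulAut.conj g • A ≤
      Subgroup.normalizer ((sSup (lineSet A M x) : Subgroup G) : Set G) ⊓ M → OnL A M x g := by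
    intro g hg
    have hgM : MulAut.conj g • A ≤ M := hg.trans inf_le_right
    have hgL : MulAut.conj g • A ≤ L := (hg.trans inf_le_left).trans hNL
    refine le_inf hgM ?_
    by_cases he : MulAut.conj x • A = MulAut.conj g • A
    · rw [← he]; exact cj_mono x c.le
    · exact (c.adj x g he hL c.coatom hLM (hxAP.trans hPL) hxAM hgL hgM).1
  -- D normalises A
  have hDA : ∀ d : G, d ∈ Subgroup.normalizer ((sSup (lineSet A M x) : Subgroup G) : Set G) →
      d ∈ M → MulAut.conj d • A = A := by
    intro d hd hdM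
    by_contra hne
    have h1 : MulAut.conj d • A ≤ M ⊓ MulAut.conj x • M := by
      have := cj_mono d hAP
      rw [mem_normalizer_iff_cj.mp hd] at this
      exact this.trans hPI
    have := c.adj0 d hne c.coatom hxM (fun h => hxMne h.symm) c.le hAxM (h1.trans inf_le_left)
      (h1.trans inf_le_right)
    exact this.2.2 (cj_eq_self_of_mem hdM)
  -- the join of the other points of the line
  set S' : Set (Subgroup G) := {B | ∃ g : G, B = MulAut.conj g • A ∧ OnL A M x g ∧ B ≠ A} with hS'
  have hP'P : sSup S' ≤ sSup (lineSet A M x) := by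
    apply sSup_le_sSup
    rintro B ⟨g, hB, hg, -⟩
    exact ⟨g, hB, hg⟩
  have hxAP' : MulAut.conj x • A ≤ sSup S' := le_sSup ⟨x, rfl, ox, hxne⟩
  have hx₂AP' : MulAut.conj x₂ • A ≤ sSup S' := le_sSup ⟨x₂, rfl, ox₂, hx₂ne⟩
  have hP'D : sSup S' ≤
      Subgroup.normalizer ((sSup (lineSet A M x) : Subgroup G) : Set G) ⊓ M :=
    le_inf (hP'P.trans Subgroup.le_normalizer) (hP'P.trans (hPI.trans inf_le_left))
  -- weak closure
  have hF2 : ∀ m : G, MulAut.conj m • sSup S' ≤
      Subgroup.normalizer ((sSup (lineSet A M x) : Subgroup G) : Set G) ⊓ M →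
      MulAut.conj m • sSup (lineSet A M x) = sSup (lineSet A M x) := by
    intro m hm
    have h1 : OnL A M x (m * x) := by
      apply hD
      rw [cj_mul]
      exact (cj_mono m hxAP').trans hm
    have h2 : OnL A M x (m * x₂) := by
      apply hD
      rw [cj_mul]
      exact (cj_mono m hx₂AP').trans hm
    exact line_stab_P c a ox ox₂ hx₂x h1 h2
  -- D normalises P'
  have hF3 : ∀ d : G, d ∈ Subgroup.normalizer ((sSup (lineSet A M x) : Subgroup G) : Set G) →
      d ∈ M → MulAut.conj d • sSup S' = sSup S' := by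
    intro d hd hdM
    apply cj_sSup_le
    rintro B ⟨g, rfl, hg, hne⟩
    apply le_sSup
    refine ⟨d * g, by rw [cj_mul], ?_, ?_⟩
    · have h1 : MulAut.conj g • A ≤ sSup (lineSet A M x) := le_sSup ⟨g, rfl, hg⟩
      have h2 := cj_mono d h1
      rw [mem_normalizer_iff_cj.mp hd, ← cj_mul] at h2
      exact h2.trans hPI
    · intro h
      apply hne
      have h3 := hDA d hd hdM
      exact cj_injective d (h.trans h3.symm)
  -- P' is subnormal in M
  have hsn : SnIn M (sSup S') := by
    apply snIn_sSup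
    rintro B ⟨g, rfl, hg, hne⟩
    have h1 := c.adj0 g hne c.coatom hxM (fun h => hxMne h.symm) c.le hAxM (hg.trans inf_le_left)
      (hg.trans inf_le_right)
    exact (c.cj g).sn M c.coatom h1.1 (fun h => h1.2.2 h.symm)
  by_cases hn : M ≤ Subgroup.normalizer ((sSup S' : Subgroup G) : Set G)
  · -- P' normal in M: then M ≤ N(P) ≤ L
    have hML : M ≤ L := by
      intro m hm
      apply hNL
      rw [mem_normalizer_iff_cj]
      apply hF2
      rw [mem_normalizer_iff_cj.mp (hn hm)]
      exact hP'D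
    rcases c.coatom.le_iff.mp hML with h1 | h1
    · exact hL.1 h1
    · exact hLM h1
  · obtain ⟨m, hmM, hmne, hmN⟩ := hsn.exists_conj hn
    have hmM' : MulAut.conj m • sSup S' ≤ M := by
      have := cj_mono m (hP'D.trans inf_le_right)
      rwa [cj_eq_self_of_mem hmM] at this
    have hND : Subgroup.normalizer ((sSup S' : Subgroup G) : Set G) ⊓ M ≤
        Subgroup.normalizer ((sSup (lineSet A M x) : Subgroup G) : Set G) ⊓ M := by
      intro m' hm'
      rw [Subgroup.mem_inf] at hm'
      refine Subgroup.mem_inf.mpr ⟨?_, hm'.2⟩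
      rw [mem_normalizer_iff_cj]
      apply hF2
      rw [mem_normalizer_iff_cj.mp hm'.1]
      exact hP'D
    have h1 := hF2 m ((le_inf hmN hmM').trans hND)
    exact hmne (hF3 m (mem_normalizer_iff_cj.mpr h1) hmM)

end Cfsg.Agent.Lib.Helper19
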