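import Mathlib
import Cfsg.Prelude.Def_LieRecognition

set_option autoImplicit false
open scoped Pointwise

namespace Cfsg.Agent.Lib.Helper19

variable {M : Type*} [Group M]

theorem pow_card_sub [Finite M] (X : Subgroup M) {x : M} (hx : x ∈ X) : x ^ Nat.card X = 1 := by
  have h : (⟨x, hx⟩ : X) ^ Nat.card X = 1 := pow_card_eq_one'
  exact congrArg Subtype.val h

theorem sqrt_unique [Finite M] (X : Subgroup M) {j : ℕ} (hj : Nat.card X = 2 * j + 1) {z c : M}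
    (hz : z ∈ X) (hc : z * z = c) : z = c ^ (j + 1) := by
  have h1 := pow_card_sub X hz
  rw [← hc, ← pow_two, ← pow_mul]
  have : 2 * (j + 1) = Nat.card X + 1 := by omega
  rw [this, pow_succ, h1, one_mul]

theorem mem_centralizer_singleton {t g : M} : g ∈ Subgroup.centralizer {t} ↔ t * g = g * t := by
  rw [Subgroup.mem_centralizer_iff]
  constructor
  · intro h; exact h t rfl
  · intro h x hx
    rw [Set.mem_singleton_iff] at hx
    rw [hx]; exact h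

theorem decomp_exists_unique [Finite M] (t : M) (ht : t * t = 1) (X : Subgroup M)
    (hodd : Odd (Nat.card X)) (hnorm : ∀ x ∈ X, t * x * t⁻¹ ∈ X) :
    ∀ x ∈ X, ∃! p : M × M, p.1 ∈ X ⊓ Subgroup.centralizer {t} ∧ p.2 ∈ Cfsg.invertedBy X t ∧
      x = p.1 * p.2 := by
  obtain ⟨j, hj⟩ := hodd
  have htinv : t⁻¹ = t := inv_eq_of_mul_eq_one_left ht
  intro x hx
  set c := (t * x * t⁻¹)⁻¹ * x with hc
  have hcX : c ∈ X := X.mul_mem (X.inv_mem (hnorm x hx)) hx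
  have hcinv : t * c * t⁻¹ = c⁻¹ := by
    rw [hc, htinv]
    have e1 : t * ((t * x * t)⁻¹ * x) * t = x⁻¹ * t⁻¹ * x * t := by group
    have e2 : ((t * x * t)⁻¹ * x)⁻¹ = x⁻¹ * t * x * t := by group
    rw [e1, e2, htinv]
  set z := c ^ (j + 1) with hz
  have hzX : z ∈ X := X.pow_mem hcX _
  have hzinv : t * z * t⁻¹ = z⁻¹ := by
    rw [hz, ← conj_pow, hcinv, inv_pow]
  have hzz : z * z = c := by
    rw [hz, ← pow_add]
    have : j + 1 + (j + 1) = Nat.card X + 1 := by omega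
    rw [this, pow_succ, pow_card_sub X hcX, one_mul]
  refine ⟨(x * z⁻¹, z), ⟨⟨X.mul_mem hx (X.inv_mem hzX), ?_⟩, ⟨hzX, hzinv⟩, by simp⟩, ?_⟩
  · apply mem_centralizer_singleton.mpr
    show t * (x * z⁻¹) = (x * z⁻¹) * t
    have e1 : t * (x * z⁻¹) = (t * x * t⁻¹) * (t * z * t⁻¹)⁻¹ * t := by group
    rw [e1, hzinv, inv_inv]
    have e2 : t * x * t⁻¹ * z = t * x * t⁻¹ * (z * z) * z⁻¹ := by group
    rw [e2, hzz, hc]
    group
  · rintro ⟨y', z'⟩ ⟨⟨hy'X, hy'c⟩, ⟨hz'X, hz'inv⟩, hxe⟩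
    simp only at hy'X hy'c hz'X hz'inv hxe
    replace hy'c : t * y' = y' * t := mem_centralizer_singleton.mp hy'c
    have h1 : t * x * t⁻¹ = y' * z'⁻¹ := by
      rw [hxe]
      have : t * (y' * z') * t⁻¹ = (t * y') * t⁻¹ * (t * z' * t⁻¹) := by group
      rw [this, hz'inv, hy'c]; group
    have h2 : z' * z' = c := by
      rw [hc, h1, hxe]; group
    have h3 : z' = z := sqrt_unique X hj hz'X h2
    rw [h3] at hxe ⊢
    have h4 : y' = x * z⁻¹ := by rw [hxe]; group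
    rw [h4]

theorem card_decomp [Finite M] (t : M) (ht : t * t = 1) (X : Subgroup M)
    (hodd : Odd (Nat.card X)) (hnorm : ∀ x ∈ X, t * x * t⁻¹ ∈ X) :
    Nat.card X = Nat.card ↥(X ⊓ Subgroup.centralizer {t}) * Nat.card (Cfsg.invertedBy X t) := by
  have key := decomp_exists_unique t ht X hodd hnorm
  let f : ↥(X ⊓ Subgroup.centralizer {t}) × (Cfsg.invertedBy X t) → X :=
    fun p => ⟨(p.1 : M) * (p.2 : M), X.mul_mem p.1.2.1 p.2.2.1⟩
  have hf : Function.Bijective f := by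
    constructor
    · rintro ⟨⟨y, hy⟩, ⟨z, hz⟩⟩ ⟨⟨y', hy'⟩, ⟨z', hz'⟩⟩ h
      have h' : y * z = y' * z' := congrArg Subtype.val h
      obtain ⟨p, _, hp⟩ := key (y * z) (X.mul_mem hy.1 hz.1)
      have e1 := hp (y, z) ⟨hy, hz, rfl⟩
      have e2 := hp (y', z') ⟨hy', hz', h'⟩
      have e3 := e1.trans e2.symm
      simp only [Prod.mk.injEq] at e3
      obtain ⟨rfl, rfl⟩ := e3
      rfl
    · rintro ⟨x, hx⟩
      obtain ⟨⟨y, z⟩, ⟨hy, hz, hxe⟩, _⟩ := key x hx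
      exact ⟨(⟨y, hy⟩, ⟨z, hz⟩), Subtype.ext hxe.symm⟩
  rw [← Nat.card_eq_of_bijective f hf, Nat.card_prod]

theorem conj_inverted_subset (t : M) (X : Subgroup M) {y : M} (hyX : y ∈ X)
    (hyc : t * y = y * t) :
    MulAut.conj y • (Cfsg.invertedBy X t) ⊆ Cfsg.invertedBy X t := by
  rintro _ ⟨z, ⟨hzX, hzinv⟩, rfl⟩
  refine ⟨X.mul_mem (X.mul_mem hyX hzX) (X.inv_mem hyX), ?_⟩
  show t * (y * z * y⁻¹) * t⁻¹ = (y * z * y⁻¹)⁻¹
  have e1 : t * (y * z * y⁻¹) * t⁻¹ = (t * y) * t⁻¹ * (t * z * t⁻¹) * (t * y⁻¹ * t⁻¹) := by group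
  have e2 : t * y⁻¹ * t⁻¹ = y⁻¹ := by
    have : t * y⁻¹ * t⁻¹ = ((t * y) * t⁻¹)⁻¹ := by group
    rw [this, hyc]; group
  rw [e1, e2, hzinv, hyc]; group

theorem conj_inverted_eq (t : M) (X : Subgroup M) {y : M} (hyX : y ∈ X)
    (hyc : t * y = y * t) :
    MulAut.conj y • (Cfsg.invertedBy X t) = Cfsg.invertedBy X t := by
  apply subset_antisymm (conj_inverted_subset t X hyX hyc)
  have hyc' : t * y⁻¹ = y⁻¹ * t := by
    have : t * y⁻¹ = y⁻¹ * (y * t) * y⁻¹ := by group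
    rw [this, ← hyc]; group
  have := conj_inverted_subset t X (X.inv_mem hyX) hyc'
  rw [map_inv, Set.smul_set_subset_iff_subset_inv_smul_set, inv_inv] at this
  exact this

theorem closure_inverted_normal [Finite M] (t : M) (ht : t * t = 1) (X : Subgroup M)
    (hodd : Odd (Nat.card X)) (hnorm : ∀ x ∈ X, t * x * t⁻¹ ∈ X) :
    ∀ x ∈ X, MulAut.conj x • Subgroup.closure (Cfsg.invertedBy X t) =
      Subgroup.closure (Cfsg.invertedBy X t) := by
  intro x hx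
  obtain ⟨⟨y, z⟩, ⟨hy, hz, hxe⟩, _⟩ := decomp_exists_unique t ht X hodd hnorm x hx
  simp only at hy hz hxe
  rw [hxe, map_mul, mul_smul,
    Subgroup.conj_smul_eq_self_of_mem (Subgroup.subset_closure hz), Subgroup.smul_closure,
    conj_inverted_eq t X hy.1 (mem_centralizer_singleton.mp hy.2)]

end Cfsg.Agent.Lib.Helper19
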