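import Mathlib
import Cfsg.Agent.Lib.Helper19.FpfPrime

set_option autoImplicit false

/-!
# Splitting automorphisms of prime order (Kegel): basic facts
-/

namespace Cfsg.Agent.Lib.Helper19

open Pointwise
open Cfsg

universe u

section Split

/-- the ordered product `x * φ x * ⋯ * φ^(n-1) x` -/
def nrm {G : Type*} [Group G] (φ : MulAut G) (n : ℕ) (x : G) : G :=
  ((List.range n).map (fun i => (φ ^ i) x)).prod

variable {G : Type*} [Group G]

theorem nrm_zero (φ : MulAut G) (x : G) : nrm φ 0 x = 1 := by
  simp [nrm]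

theorem nrm_succ (φ : MulAut G) (n : ℕ) (x : G) : nrm φ (n + 1) x = nrm φ n x * (φ ^ n) x := by
  simp [nrm, List.range_succ]

/-- `φ` is a splitting automorphism with `φ ^ p = 1` -/
structure Split (p : ℕ) (φ : MulAut G) : Prop where
  pow : φ ^ p = 1
  split : ∀ g, nrm φ p g = 1

variable {p : ℕ}

theorem nrm_of_fixed (φ : MulAut G) {x : G} (hx : φ x = x) (n : ℕ) : nrm φ n x = x ^ n := by
  induction n with
  | zero => simp [nrm_zero]
  | succ n ih =>
    rw [nrm_succ, ih, pow_succ]
    congr 1
    clear ih
    induction n with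
    | zero => simp
    | succ n ih => rw [pow_succ, MulAut.mul_apply, hx, ih]

theorem Split.fixed_pow {φ : MulAut G} (h : Split p φ) {x : G} (hx : φ x = x) : x ^ p = 1 := by
  rw [← nrm_of_fixed φ hx, h.split]

/-- the conjugation formula for powers of a twisted automorphism -/
theorem twist_pow (φ : MulAut G) (g : G) (n : ℕ) (x : G) :
    ((MulAut.conj g * φ) ^ n) x = nrm φ n g * (φ ^ n) x * (nrm φ n g)⁻¹ := by
  induction n generalizing x with
  | zero => simp [nrm_zero]
  | succ n ih =>
    rw [pow_succ', MulAut.mul_apply, ih, MulAut.mul_apply, MulAut.conj_apply, map_mul, map_mul,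
      map_inv]
    have h1 : φ ((φ ^ n) x) = (φ ^ (n + 1)) x := by
      rw [pow_succ', MulAut.mul_apply]
    have h2 : g * φ (nrm φ n g) = nrm φ (n + 1) g := by
      clear ih h1
      induction n with
      | zero => simp [nrm_zero, nrm_succ]
      | succ n ih =>
        rw [nrm_succ φ n, map_mul, ← mul_assoc, ih, nrm_succ φ (n + 1)]
        congr 1
        rw [pow_succ' φ n, MulAut.mul_apply]
    rw [h1]
    calc g * (φ (nrm φ n g) * (φ ^ (n + 1)) x * (φ (nrm φ n g))⁻¹) * g⁻¹
        = (g * φ (nrm φ n g)) * (φ ^ (n + 1)) x * (g * φ (nrm φ n g))⁻¹ := by group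
      _ = _ := by rw [h2]

/-- the norm of a product in terms of the twisted norm -/
theorem nrm_mul_twist (φ : MulAut G) (g : G) (n : ℕ) (x : G) :
    nrm φ n (x * g) = nrm (MulAut.conj g * φ) n x * nrm φ n g := by
  induction n with
  | zero => simp [nrm_zero]
  | succ n ih =>
    rw [nrm_succ, nrm_succ, nrm_succ, ih, twist_pow, map_mul]
    group

theorem Split.twist {φ : MulAut G} (h : Split p φ) (g : G) : Split p (MulAut.conj g * φ) := by
  constructor
  · ext x
    rw [twist_pow, h.split, h.pow]
    simp
  · intro x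
    have := nrm_mul_twist φ g p x
    rw [h.split, h.split, mul_one] at this
    exact this.symm

end Split

end Cfsg.Agent.Lib.Helper19
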