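import Mathlib
import Cfsg.Agent.Lib.Helper19.Kegel1

set_option autoImplicit false

/-!
# Splitting automorphisms: restriction, quotients, fixed points, invariant Sylow subgroups
-/

namespace Cfsg.Agent.Lib.Helper19

open Pointwise
open Cfsg

universe u

section Split2

variable {p : ℕ} {G : Type*} [Group G]

theorem nrm_resAut (φ : MulAut G) (K : Subgroup G) (hK : K.map φ.toMonoidHom = K) (n : ℕ)
    (x : ↥K) : ((nrm (resAut φ K hK : MulAut ↥K) n x : ↥K) : G) = nrm φ n (x : G) := by
  induction n with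
  | zero => simp [nrm_zero]
  | succ n ih =>
    rw [nrm_succ, nrm_succ, Subgroup.coe_mul, ih, resAut_pow_coe]

theorem Split.restrict {φ : MulAut G} (h : Split p φ) (K : Subgroup G)
    (hK : K.map φ.toMonoidHom = K) : Split p (resAut φ K hK : MulAut ↥K) := by
  constructor
  · ext x
    rw [resAut_pow_coe]
    have : (φ : MulAut G) ^ p = 1 := h.pow
    rw [this]
    rfl
  · intro x
    apply Subtype.ext
    rw [nrm_resAut, h.split]
    rfl

theorem quot_pow (φ : MulAut G) (N : Subgroup G) [N.Normal] (hN : N.map φ.toMonoidHom = N)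
    (i : ℕ) (x : G) : ((QuotientGroup.congr N N φ hN : MulAut (G ⧸ N)) ^ i) (QuotientGroup.mk x) =
      QuotientGroup.mk ((φ ^ i) x) := by
  rw [mulAut_pow_apply, mulAut_pow_apply]
  exact quot_iterate φ N hN i x

theorem nrm_quot (φ : MulAut G) (N : Subgroup G) [N.Normal] (hN : N.map φ.toMonoidHom = N)
    (n : ℕ) (x : G) : nrm (QuotientGroup.congr N N φ hN : MulAut (G ⧸ N)) n (QuotientGroup.mk x) =
      QuotientGroup.mk (nrm φ n x) := by
  induction n with
  | zero => simp [nrm_zero]
  | succ n ih =>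
    rw [nrm_succ, nrm_succ, ih, quot_pow, QuotientGroup.mk_mul]

theorem Split.quot {φ : MulAut G} (h : Split p φ) (N : Subgroup G) [N.Normal]
    (hN : N.map φ.toMonoidHom = N) : Split p (QuotientGroup.congr N N φ hN : MulAut (G ⧸ N)) := by
  constructor
  · ext xb
    obtain ⟨x, rfl⟩ := QuotientGroup.mk_surjective xb
    rw [quot_pow, h.pow]
    rfl
  · intro xb
    obtain ⟨x, rfl⟩ := QuotientGroup.mk_surjective xb
    rw [nrm_quot, h.split]
    rfl

/-- fixed points of nontrivial powers are fixed points -/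
theorem Split.fixed_of_pow_fixed {φ : MulAut G} (h : Split p φ) (hp : p.Prime) {i : ℕ}
    (hi0 : 0 < i) (hip : i < p) {g : G} (hg : (φ ^ i) g = g) : φ g = g := by
  have hcop : i.Coprime p := by
    apply Nat.Coprime.symm
    rw [Nat.Prime.coprime_iff_not_dvd hp]
    intro hd
    exact absurd (Nat.le_of_dvd hi0 hd) (by omega)
  obtain ⟨m, -, hm⟩ := Nat.exists_mul_mod_eq_one_of_coprime hcop hp.one_lt
  have h1 : ((φ ^ i) ^ m) g = g := by
    clear hm
    induction m with
    | zero => simp
    | succ m ih => rw [pow_succ, MulAut.mul_apply, hg, ih]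
  have h3 : i * m = p * (i * m / p) + 1 := by
    have := Nat.div_add_mod (i * m) p
    omega
  rw [← pow_mul, h3, pow_add, pow_mul, h.pow, one_pow, one_mul, pow_one] at h1
  exact h1

/-- on elements of order prime to `p`, nontrivial powers of `φ` are fixed-point-free -/
theorem Split.fpf_coprime {φ : MulAut G} (h : Split p φ) (hp : p.Prime) {i : ℕ}
    (hi0 : 0 < i) (hip : i < p) {g : G} (hcop : (orderOf g).Coprime p) (hg : (φ ^ i) g = g) :
    g = 1 := by
  have h1 := h.fixed_pow (h.fixed_of_pow_fixed hp hi0 hip hg)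
  have h2 : orderOf g ∣ p := orderOf_dvd_of_pow_eq_one h1
  have h3 : orderOf g ∣ Nat.gcd (orderOf g) p := Nat.dvd_gcd dvd_rfl h2
  rw [hcop] at h3
  exact orderOf_eq_one_iff.mp (Nat.dvd_one.mp h3)

/-- a twist of `φ` fixes a given Sylow subgroup -/
theorem exists_twist_sylow [Finite G] (φ : MulAut G) (r : ℕ) [Fact r.Prime] (R : Sylow r G) :
    ∃ g : G, (R : Subgroup G).map (MulAut.conj g * φ).toMonoidHom = R := by
  obtain ⟨g, hg⟩ := MulAction.exists_smul_eq G (φ • R) R
  refine ⟨g, ?_⟩
  have h1 : ((g • φ • R : Sylow r G) : Subgroup G) = (R : Subgroup G) := by rw [hg]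
  rw [Sylow.smul_def, Sylow.pointwise_smul_def, Sylow.pointwise_smul_def] at h1
  have h2 : (MulAut.conj g * φ) • (R : Subgroup G) = R := by rw [mul_smul]; exact h1
  exact h2

end Split2

end Cfsg.Agent.Lib.Helper19
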