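import Mathlib

set_option autoImplicit false

/-!
# The norm identity for two commuting automorphisms of order `p` of an abelian group
-/

namespace Cfsg.Agent.Lib.Helper19

open Finset

/-- reindexing a product over `range p` by multiplication with a unit mod `p` -/
theorem prod_range_mul_mod {M : Type*} [CommMonoid M] {p : ℕ} (hp : p.Prime) {k : ℕ}
    (hk0 : 0 < k) (hkp : k < p) (h : ℕ → M) :
    ∏ j ∈ range p, h ((j * k) % p) = ∏ i ∈ range p, h i := by
  have hcop : Nat.Coprime p k := by
    rw [Nat.Prime.coprime_iff_not_dvd hp]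
    intro hd
    exact absurd (Nat.le_of_dvd hk0 hd) (by omega)
  have hinj : Set.InjOn (fun j => (j * k) % p) (range p : Finset ℕ) := by
    intro j hj j' hj' hjj
    rw [Finset.coe_range, Set.mem_Iio] at hj hj'
    have h1 : j * k ≡ j' * k [MOD p] := hjj
    have h2 : j ≡ j' [MOD p] := Nat.ModEq.cancel_right_of_coprime hcop h1
    exact Nat.ModEq.eq_of_lt_of_lt h2 hj hj'
  have himg : (range p).image (fun j => (j * k) % p) = range p := by
    apply Finset.eq_of_subset_of_card_le
    · intro i hi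
      rw [Finset.mem_image] at hi
      obtain ⟨j, _, rfl⟩ := hi
      rw [Finset.mem_range]
      exact Nat.mod_lt _ hp.pos
    · rw [Finset.card_image_of_injOn hinj]
  conv_rhs => rw [← himg]
  rw [Finset.prod_image hinj]

theorem pow_mod_of_pow_eq_one {M : Type*} [Monoid M] {z : M} {p : ℕ} (hz : z ^ p = 1) (n : ℕ) :
    z ^ (n % p) = z ^ n := by
  conv_rhs => rw [← Nat.div_add_mod n p, pow_add, pow_mul, hz, one_pow, one_mul]

/-- the norm identity -/
theorem zp2_identity {A : Type*} [CommGroup A] {p : ℕ} (hp : p.Prime) (y z : MulAut A)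
    (hyz : y * z = z * y) (hz : z ^ p = 1) (w : A) :
    (∏ j ∈ range p, ∏ k ∈ range p, ((z ^ j * y) ^ k) w) * (∏ i ∈ range p, (z ^ i) w) =
      w ^ p * ∏ k ∈ range p, (y ^ k) (∏ i ∈ range p, (z ^ i) w) := by
  have hc : Commute z y := hyz.symm
  have h1 : ∀ j k : ℕ, ((z ^ j * y) ^ k) w = (z ^ (j * k)) ((y ^ k) w) := by
    intro j k
    have : Commute (z ^ j) y := hc.pow_left j
    rw [this.mul_pow, ← pow_mul, MulAut.mul_apply]
  have h2 : ∀ i k : ℕ, (y ^ k) ((z ^ i) w) = (z ^ i) ((y ^ k) w) := by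
    intro i k
    have : Commute (z ^ i) (y ^ k) := (hc.pow_left i).pow_right k
    rw [← MulAut.mul_apply, ← MulAut.mul_apply, this.eq]
  obtain ⟨m, rfl⟩ : ∃ m, p = m + 1 := ⟨p - 1, by have := hp.pos; omega⟩
  -- left side
  have hL : ∏ j ∈ range (m + 1), ∏ k ∈ range (m + 1), ((z ^ j * y) ^ k) w =
      (∏ k ∈ range m, ∏ i ∈ range (m + 1), (z ^ i) ((y ^ (k + 1)) w)) * w ^ (m + 1) := by
    rw [Finset.prod_comm, Finset.prod_range_succ']
    congr 1
    · apply Finset.prod_congr rfl
      intro k hk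
      rw [Finset.mem_range] at hk
      rw [← prod_range_mul_mod hp (k := k + 1) (by omega) (by omega)
        (fun i => (z ^ i) ((y ^ (k + 1)) w))]
      apply Finset.prod_congr rfl
      intro j _
      rw [h1, pow_mod_of_pow_eq_one hz]
    · simp
  have hR : ∏ k ∈ range (m + 1), (y ^ k) (∏ i ∈ range (m + 1), (z ^ i) w) =
      (∏ k ∈ range m, ∏ i ∈ range (m + 1), (z ^ i) ((y ^ (k + 1)) w)) *
        ∏ i ∈ range (m + 1), (z ^ i) w := by
    rw [Finset.prod_range_succ']
    congr 1
    · apply Finset.prod_congr rfl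
      intro k _
      rw [map_prod]
      apply Finset.prod_congr rfl
      intro i _
      rw [h2]
  rw [hL, hR]
  rw [mul_comm (w ^ (m + 1)), mul_assoc, mul_assoc, mul_comm (w ^ (m + 1))]

end Cfsg.Agent.Lib.Helper19
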