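import Mathlib
import Cfsg.Agent.Lib.Helper19.Kegel2
import Cfsg.Agent.Lib.Helper19.ZP2
import Cfsg.Agent.Lib.Helper48.CoprimeGen

set_option autoImplicit false
set_option linter.style.haveILetI false

/-!
# Splitting automorphisms: invariant subgroups centralize invariant abelian normal subgroups
-/

namespace Cfsg.Agent.Lib.Helper19

open Pointwise
open Cfsg

universe u

section Cent

theorem nrm_eq_prod {V : Type*} [CommGroup V] (ψ : MulAut V) (n : ℕ) (w : V) :
    nrm ψ n w = ∏ i ∈ Finset.range n, (ψ ^ i) w := by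
  induction n with
  | zero => simp [nrm_zero]
  | succ n ih => rw [nrm_succ, ih, Finset.prod_range_succ]

/-- the norm of an automorphism of exponent `n` is fixed -/
theorem map_prod_pow_eq {V : Type*} [CommGroup V] {n : ℕ} (ψ : MulAut V) (hpow : ψ ^ n = 1)
    (w : V) : ψ (∏ i ∈ Finset.range n, (ψ ^ i) w) = ∏ i ∈ Finset.range n, (ψ ^ i) w := by
  rw [map_prod]
  have h1 : ∀ i ∈ Finset.range n, ψ ((ψ ^ i) w) = (ψ ^ (i + 1)) w := by
    intro i _
    rw [pow_succ', MulAut.mul_apply]
  rw [Finset.prod_congr rfl h1]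
  have h2 := Finset.prod_range_succ' (fun i => (ψ ^ i) w) n
  have h3 := Finset.prod_range_succ (fun i => (ψ ^ i) w) n
  rw [h3] at h2
  simp only [pow_zero, MulAut.one_apply] at h2
  rw [hpow, MulAut.one_apply] at h2
  exact (mul_right_cancel h2).symm

variable {p : ℕ} {G : Type*} [Group G] [Finite G]

/-- an invariant `p'`-subgroup of order prime to `q` centralizes an invariant abelian normal
`q`-subgroup -/
theorem split_centralizes {q : ℕ} [Fact q.Prime] (hp : p.Prime) {φ : MulAut G} (h : Split p φ)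
    (V : Subgroup G) [hVn : V.Normal] (hVc : ∀ x ∈ V, ∀ y ∈ V, x * y = y * x)
    (hVq : IsPGroup q V) (hVφ : V.map φ.toMonoidHom = V)
    (R : Subgroup G) (hRφ : R.map φ.toMonoidHom = R) (hRq : (Nat.card R).Coprime q)
    (hRp : (Nat.card R).Coprime p) :
    R ≤ Subgroup.centralizer (V : Set G) := by
  classical
  letI : CommGroup ↥V :=
    { (inferInstance : Group ↥V) with
      mul_comm := fun x y => Subtype.ext (hVc x x.2 y y.2) }
  haveI : Fintype ↥R := Fintype.ofFinite _
  haveI : NeZero p := ⟨hp.ne_zero⟩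
  let act : ↥R →* MulAut ↥V := (MulAut.conjNormal (H := V)).comp R.subtype
  let ψR : MulAut ↥R := resAut φ R hRφ
  let ψV : MulAut ↥V := resAut φ V hVφ
  let α : Fin p → (↥R →* ↥R) := fun i => (ψR ^ (i : ℕ)).toMonoidHom
  let β : Fin p → (↥V →* ↥V) := fun i => (ψV ^ (i : ℕ)).toMonoidHom
  have hR' : Split p ψR := h.restrict R hRφ
  have hV' : Split p ψV := h.restrict V hVφ
  have compat : ∀ (i : Fin p) (f : ↥R) (v : ↥V), β i (act f v) = act (α i f) (β i v) := by
    intro i f v
    apply Subtype.ext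
    show ((ψV ^ (i : ℕ)) (act f v) : G) = ((act ((ψR ^ (i : ℕ)) f)) ((ψV ^ (i : ℕ)) v) : G)
    rw [resAut_pow_coe]
    show ((φ : MulAut G) ^ (i : ℕ)) ((MulAut.conjNormal (f : G) v : ↥V) : G) =
      ((MulAut.conjNormal (((ψR ^ (i : ℕ)) f : ↥R) : G) ((ψV ^ (i : ℕ)) v) : ↥V) : G)
    rw [MulAut.conjNormal_apply, MulAut.conjNormal_apply, resAut_pow_coe, resAut_pow_coe,
      map_mul, map_mul, map_inv]
  have hβ₀ : β 0 = MonoidHom.id ↥V := by
    ext v
    show (((ψV ^ ((0 : Fin p) : ℕ)) v : ↥V) : G) = v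
    simp
  have hbij : ∀ i : Fin p, i ≠ 0 → Function.Bijective fun g : ↥R => g * (α i g)⁻¹ := by
    intro i hi
    have hi0 : 0 < (i : ℕ) := Nat.pos_of_ne_zero (fun h0 => hi (Fin.ext h0))
    rw [← Finite.injective_iff_bijective]
    have hfp : MonoidHom.FixedPointFree (α i) := by
      intro g hg
      have h1 : (ψR ^ (i : ℕ)) g = g := hg
      have hcop : (orderOf g).Coprime p :=
        Nat.Coprime.coprime_dvd_left (orderOf_dvd_natCard g) hRp
      exact hR'.fpf_coprime hp hi0 i.2 hcop h1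
    have := MonoidHom.FixedPointFree.commutatorMap_injective hfp
    intro a b hab
    apply this
    simp only [MonoidHom.commutatorMap_apply, div_eq_mul_inv]
    exact hab
  have htr : ∀ w : ↥V, ∏ i, β i w = 1 := by
    intro w
    have := hV'.split w
    rw [nrm_eq_prod, ← Fin.prod_univ_eq_prod_range (fun i => (ψV ^ i) w) p] at this
    exact this
  have hinj : ∀ v : ↥V, v ^ Fintype.card ↥R = 1 → v = 1 := by
    intro v hv
    have c1 : orderOf v ∣ Fintype.card ↥R := orderOf_dvd_of_pow_eq_one hv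
    rw [← Nat.card_eq_fintype_card] at c1
    obtain ⟨k, hk⟩ := (IsPGroup.iff_orderOf.mp hVq) v
    have c2 : (orderOf v).Coprime q := Nat.Coprime.coprime_dvd_left c1 hRq
    rw [hk] at c2
    have hq : q.Prime := Fact.out
    rcases Nat.eq_zero_or_pos k with rfl | hkpos
    · rw [pow_zero] at hk
      exact orderOf_eq_one_iff.mp hk
    · exfalso
      have : q ∣ q ^ k := dvd_pow_self q hkpos.ne'
      have h3 : q ∣ Nat.gcd (q ^ k) q := Nat.dvd_gcd this (dvd_refl q)
      rw [Nat.Coprime] at c2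
      rw [c2] at h3
      exact hq.one_lt.ne' (Nat.dvd_one.mp h3)
  have key := frob_trivial act α β compat 0 hβ₀ hbij htr hinj
  intro g hg
  rw [Subgroup.mem_centralizer_iff]
  intro v hv
  have h1 := key ⟨g, hg⟩ ⟨v, hv⟩
  have h2 := congrArg Subtype.val h1
  have h3 : g * v * g⁻¹ = v := h2
  calc v * g = (g * v * g⁻¹) * g := by rw [h3]
    _ = g * v := by group

/-- an invariant `p`-subgroup centralizes an invariant abelian normal `p'`-subgroup -/
theorem pgroup_centralizes (hp : p.Prime) {φ : MulAut G} (h : Split p φ)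
    (V : Subgroup G) [hVn : V.Normal] (hVc : ∀ x ∈ V, ∀ y ∈ V, x * y = y * x)
    (hVp : (Nat.card V).Coprime p) (hVφ : V.map φ.toMonoidHom = V)
    (R : Subgroup G) (hRφ : R.map φ.toMonoidHom = R) (hRp : IsPGroup p R) :
    R ≤ Subgroup.centralizer (V : Set G) := by
  classical
  letI : CommGroup ↥V :=
    { (inferInstance : Group ↥V) with
      mul_comm := fun x y => Subtype.ext (hVc x x.2 y y.2) }
  haveI : Fact p.Prime := ⟨hp⟩
  let act : ↥R →* MulAut ↥V := (MulAut.conjNormal (H := V)).comp R.subtype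
  let y : MulAut ↥V := resAut φ V hVφ
  have hact : ∀ (x : ↥R) (v : ↥V), ((act x v : ↥V) : G) = (x : G) * v * (x : G)⁻¹ := by
    intro x v
    show ((MulAut.conjNormal (x : G) v : ↥V) : G) = _
    rw [MulAut.conjNormal_apply]
  have hy : Split p y := h.restrict V hVφ
  -- it suffices that the action is trivial
  suffices hsuff : ∀ x : ↥R, act x = 1 by
    intro g hg
    rw [Subgroup.mem_centralizer_iff]
    intro v hv
    have h1 : act ⟨g, hg⟩ ⟨v, hv⟩ = ⟨v, hv⟩ := by rw [hsuff]; rfl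
    have h2 := congrArg Subtype.val h1
    rw [hact] at h2
    have h3 : g * v * g⁻¹ = v := h2
    calc v * g = (g * v * g⁻¹) * g := by rw [h3]
      _ = g * v := by group
  by_contra hne
  push Not at hne
  obtain ⟨x₀, hx₀⟩ := hne
  -- the image of `R`
  set P : Subgroup (MulAut ↥V) := act.range with hP
  have hPp : IsPGroup p P := by
    rw [hP, MonoidHom.range_eq_map]
    exact IsPGroup.map (IsPGroup.of_equiv hRp Subgroup.topEquiv.symm) act
  -- conjugation by `y` preserves `P`
  have hconj : ∀ c ∈ P, y * c * y⁻¹ ∈ P := by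
    rintro _ ⟨x, rfl⟩
    have hx' : φ (x : G) ∈ R := by
      have : φ (x : G) ∈ R.map φ.toMonoidHom := ⟨x, x.2, rfl⟩
      rwa [hRφ] at this
    refine ⟨⟨φ (x : G), hx'⟩, ?_⟩
    ext v
    rw [hact]
    show φ (x : G) * v * (φ (x : G))⁻¹ = ((y * act x * y⁻¹) v : ↥V)
    rw [MulAut.mul_apply, MulAut.mul_apply]
    show _ = φ (((act x) (y⁻¹ v) : ↥V) : G)
    rw [hact, map_mul, map_mul, map_inv]
    have : φ ((y⁻¹ v : ↥V) : G) = v := by
      have h1 : ((y (y⁻¹ v) : ↥V) : G) = φ ((y⁻¹ v : ↥V) : G) := rfl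
      rw [← h1, ← MulAut.mul_apply, mul_inv_cancel]
      rfl
    rw [this]
  -- a nontrivial element of `P` commuting with `y`
  let X := {c : MulAut ↥V // c ∈ P ∧ c ≠ 1}
  have hX1 : ∀ c : X, y * c.1 * y⁻¹ ≠ 1 := by
    intro c hc
    apply c.2.2
    have : c.1 = y⁻¹ * (y * c.1 * y⁻¹) * y := by group
    rw [this, hc]; group
  let f : X → X := fun c => ⟨y * c.1 * y⁻¹, hconj c.1 c.2.1, hX1 c⟩
  have hfiter : ∀ (n : ℕ) (c : X), ((f^[n] c : X) : MulAut ↥V) = y ^ n * c.1 * (y ^ n)⁻¹ := by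
    intro n
    induction n with
    | zero => intro c; simp
    | succ n ih =>
      intro c
      rw [Function.iterate_succ_apply', pow_succ']
      show y * ((f^[n] c : X) : MulAut ↥V) * y⁻¹ = _
      rw [ih]; group
  have hfp : ∀ c : X, f^[p] c = c := by
    intro c
    apply Subtype.ext
    rw [hfiter, hy.pow]
    simp
  haveI : Finite (MulAut ↥V) := MulEquiv.finite_left
  haveI : Fintype ↥P := Fintype.ofFinite _
  have hXcard : ¬ p ∣ Nat.card X := by
    have h1 : Nat.card X + 1 = Nat.card P := by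
      have e : X ≃ {c : ↥P // c ≠ 1} :=
        { toFun := fun c => ⟨⟨c.1, c.2.1⟩, fun hc => c.2.2 (congrArg Subtype.val hc)⟩
          invFun := fun c => ⟨c.1.1, c.1.2, fun hc => c.2 (Subtype.ext hc)⟩
          left_inv := fun c => rfl
          right_inv := fun c => rfl }
      rw [Nat.card_congr e]
      have h2 : Nat.card {c : ↥P // c ≠ 1} = Nat.card ↥P - 1 := by
        rw [Nat.card_eq_fintype_card, Nat.card_eq_fintype_card, Fintype.card_subtype_compl]
        simp
      rw [h2]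
      have : 0 < Nat.card ↥P := Nat.card_pos
      omega
    have h3 : p ∣ Nat.card P := by
      rcases hPp.card_eq_or_dvd with h4 | h4
      · exfalso
        have hx₀P : act x₀ ∈ P := ⟨x₀, rfl⟩
        have : (⟨act x₀, hx₀P⟩ : ↥P) = 1 := by
          have := (Nat.card_eq_one_iff_unique.mp h4).1
          exact Subsingleton.elim _ _
        exact hx₀ (congrArg Subtype.val this)
      · exact h4
    intro hd
    have h5 : p ∣ Nat.card X + 1 := h1 ▸ h3
    have h6 : p ∣ 1 := (Nat.dvd_add_right hd).mp h5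
    exact hp.one_lt.ne' (Nat.dvd_one.mp h6)
  obtain ⟨c₁, hc₁⟩ := Cfsg.Agent.Lib.Helper48.exists_fixed_of_iterate f hfp hXcard
  have hc₁y : y * c₁.1 * y⁻¹ = c₁.1 := congrArg Subtype.val hc₁
  have hcomm₁ : Commute y c₁.1 := by
    have : y * c₁.1 = c₁.1 * y := by
      calc y * c₁.1 = (y * c₁.1 * y⁻¹) * y := by group
        _ = c₁.1 * y := by rw [hc₁y]
    exact this
  -- an element of order `p`
  obtain ⟨k, hk⟩ := (IsPGroup.iff_orderOf.mp hPp) ⟨c₁.1, c₁.2.1⟩
  have hk' : orderOf c₁.1 = p ^ k := by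
    rw [← hk]
    exact (Subgroup.orderOf_mk c₁.1 c₁.2.1).symm
  have hk0 : k ≠ 0 := by
    intro h0
    rw [h0, pow_zero, orderOf_eq_one_iff] at hk'
    exact c₁.2.2 hk'
  obtain ⟨m, rfl⟩ : ∃ m, k = m + 1 := ⟨k - 1, by omega⟩
  set z : MulAut ↥V := c₁.1 ^ (p ^ m) with hz
  have hzp : z ^ p = 1 := by
    rw [hz, ← pow_mul, ← pow_succ, ← hk', pow_orderOf_eq_one]
  have hz1 : z ≠ 1 := by
    intro h1
    have h2 : orderOf c₁.1 ∣ p ^ m := orderOf_dvd_of_pow_eq_one h1
    rw [hk'] at h2
    have := (Nat.pow_dvd_pow_iff_le_right hp.one_lt).mp h2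
    omega
  have hzP : z ∈ P := P.pow_mem c₁.2.1 _
  have hyz : y * z = z * y := (hcomm₁.pow_right _).eq
  obtain ⟨x, hx⟩ := hzP
  -- all the norms vanish
  have hnorm_y : ∀ u : ↥V, ∏ k ∈ Finset.range p, (y ^ k) u = 1 := by
    intro u
    rw [← nrm_eq_prod]
    exact hy.split u
  have hnorm_j : ∀ (j : ℕ) (w : ↥V), ∏ k ∈ Finset.range p, ((z ^ j * y) ^ k) w = 1 := by
    intro j w
    have hVj : V.map (MulAut.conj ((x : G) ^ j) * φ).toMonoidHom = V := by
      have e : (MulAut.conj ((x : G) ^ j) * φ) • V = V := by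
        rw [mul_smul]
        have h1 : φ • V = V := hVφ
        rw [h1]
        exact Subgroup.Normal.conj_smul_eq_self _ V
      exact e
    have hs : Split p (resAut (MulAut.conj ((x : G) ^ j) * φ) V hVj : MulAut ↥V) :=
      (h.twist ((x : G) ^ j)).restrict V hVj
    have e : z ^ j * y = (resAut (MulAut.conj ((x : G) ^ j) * φ) V hVj : MulAut ↥V) := by
      ext v
      rw [← hx, ← map_pow, MulAut.mul_apply]
      rw [hact]
      rfl
    rw [e, ← nrm_eq_prod]
    exact hs.split w
  have hNz : ∀ w : ↥V, ∏ i ∈ Finset.range p, (z ^ i) w = w ^ p := by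
    intro w
    have := zp2_identity hp y z hyz hzp w
    rw [Finset.prod_congr rfl (fun j _ => hnorm_j j w), Finset.prod_const_one, one_mul,
      hnorm_y, mul_one] at this
    exact this
  -- hence `z` is trivial
  apply hz1
  ext v
  have hsurj : ∃ w : ↥V, w ^ p = v := by
    have := (powCoprime hVp).surjective v
    obtain ⟨w, hw⟩ := this
    exact ⟨w, hw⟩
  obtain ⟨w, rfl⟩ := hsurj
  rw [← hNz w, map_prod_pow_eq z hzp]
  rfl

end Cent

end Cfsg.Agent.Lib.Helper19
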