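import Mathlib
import Cfsg.Agent.Lib.Helper19.Kegel3

set_option autoImplicit false
set_option linter.style.haveILetI false

/-!
# Kegel's theorem: a finite group with a splitting automorphism of prime order is nilpotent
-/

namespace Cfsg.Agent.Lib.Helper19

open Pointwise
open Cfsg
open Cfsg.Agent.Lib.Helper10

universe u

section Main

variable {p : ℕ}

/-- the induction hypothesis -/
def KIH (p n : ℕ) : Prop :=
  ∀ (G : Type u) [Group G] [Finite G], Nat.card G < n → ∀ φ : MulAut G, Split p φ →
    Group.IsNilpotent G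

variable {G : Type u} [Group G] [Finite G]

theorem split_nilpotent_sub (hIH : KIH.{u} p (Nat.card G)) {φ : MulAut G} (h : Split p φ)
    (K : Subgroup G) (hK : K.map φ.toMonoidHom = K) (hne : K ≠ ⊤) : Group.IsNilpotent ↥K :=
  hIH ↥K (card_lt_of_ne_top hne) _ (h.restrict K hK)

theorem split_nilpotent_quot (hIH : KIH.{u} p (Nat.card G)) {φ : MulAut G} (h : Split p φ)
    (N : Subgroup G) [N.Normal] (hN : N.map φ.toMonoidHom = N) (hne : N ≠ ⊥) :
    Group.IsNilpotent (G ⧸ N) :=
  hIH (G ⧸ N) (card_quotient_lt hne) _ (h.quot N hN)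

/-- a normal subgroup invariant under `φ` is invariant under its twists -/
theorem map_twist_eq (φ : MulAut G) (g : G) (V : Subgroup G) [V.Normal]
    (hV : V.map φ.toMonoidHom = V) : V.map (MulAut.conj g * φ).toMonoidHom = V := by
  have e : (MulAut.conj g * φ) • V = V := by
    rw [mul_smul]
    have h1 : φ • V = V := hV
    rw [h1]
    exact Subgroup.Normal.conj_smul_eq_self _ V
  exact e

/-- the solvable case -/
theorem split_nilpotent_of_solvable (hp : p.Prime) (hIH : KIH.{u} p (Nat.card G)) {φ : MulAut G}
    (h : Split p φ) [hsol : Group.IsSolvable G] : Group.IsNilpotent G := by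
  classical
  rcases subsingleton_or_nontrivial G with hG | hG
  · exact Group.isNilpotent_of_subsingleton
  obtain ⟨q, N, hq, hNn, hNne, hNq, -, -, -⟩ := exists_min_normal_pgroup_of_solvable (G := G)
  haveI : Fact q.Prime := ⟨hq⟩
  set H := pCore q G with hH
  haveI hHn : H.Normal := Cfsg.Agent.Lib.Helper55.pCore_normal' q
  have hHq : IsPGroup q H := Cfsg.Agent.Lib.Helper55.pCore_isPGroup q
  have hHne : H ≠ ⊥ := by
    intro hbot
    have := Cfsg.Agent.Lib.Helper55.le_pCore q N hNq
    rw [← hH, hbot, le_bot_iff] at this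
    exact hNne this
  have hHφ : H.map φ.toMonoidHom = H := pCore_map_eq q φ
  set V := zOf H with hV
  haveI hVn : V.Normal := zOf_normal H
  have hVne : V ≠ ⊥ := zOf_ne_bot hHq hHne
  have hVq : IsPGroup q V := hHq.to_le (zOf_le H)
  have hVc := zOf_comm H
  have hVφ : V.map φ.toMonoidHom = V := by
    rw [hV, ← zOf_map_injOn _ φ.injective.injOn, hHφ]
  have hQuot : Group.IsNilpotent (G ⧸ V) := split_nilpotent_quot hIH h V hVφ hVne
  set π := QuotientGroup.mk' V with hπ
  have hsurj : Function.Surjective π := QuotientGroup.mk'_surjective V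
  have tfaeQ := (Group.isNilpotent_of_finite_tfae (G := G ⧸ V)).out 0 3
  have hQs := tfaeQ.mp hQuot
  have tfaeG := (Group.isNilpotent_of_finite_tfae (G := G)).out 0 3
  rw [tfaeG]
  intro r hr P
  have hT : (P ⊔ V : Subgroup G).Normal := by
    have h1 : ((P.mapSurjective hsurj : Sylow r (G ⧸ V)) : Subgroup (G ⧸ V)).Normal := hQs r hr _
    have h2 := h1.comap π
    rw [Sylow.coe_mapSurjective, Subgroup.comap_map_eq, QuotientGroup.ker_mk'] at h2
    exact h2
  by_cases hrq : r = q
  · subst hrq
    have hVP : V ≤ P := normal_pGroup_le_sylow' hVn hVq P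
    rw [sup_eq_left.mpr hVP] at hT
    exact hT
  · obtain ⟨g, hg⟩ := exists_twist_sylow φ r P
    set ψ : MulAut G := MulAut.conj g * φ with hψdef
    have hψ : Split p ψ := h.twist g
    have hVψ : V.map ψ.toMonoidHom = V := map_twist_eq φ g V hVφ
    have hPcard : ∃ k, Nat.card (P : Subgroup G) = r ^ k := IsPGroup.iff_card.mp P.2
    have hcent : (P : Subgroup G) ≤ Subgroup.centralizer (V : Set G) := by
      by_cases hrp : r = p
      · subst hrp
        have hVp : (Nat.card V).Coprime r := by
          obtain ⟨k, hk⟩ := IsPGroup.iff_card.mp hVq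
          rw [hk]
          exact Nat.Coprime.pow_left k ((Nat.coprime_primes hq hr.out).mpr (Ne.symm hrq))
        exact pgroup_centralizes hp hψ V hVc hVp hVψ (P : Subgroup G) hg P.2
      · obtain ⟨k, hk⟩ := hPcard
        have hRq : (Nat.card (P : Subgroup G)).Coprime q := by
          rw [hk]
          exact Nat.Coprime.pow_left k ((Nat.coprime_primes hr.out hq).mpr hrq)
        have hRp : (Nat.card (P : Subgroup G)).Coprime p := by
          rw [hk]
          exact Nat.Coprime.pow_left k ((Nat.coprime_primes hr.out hp).mpr hrp)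
        exact split_centralizes hp hψ V hVc hVq hVψ (P : Subgroup G) hg hRq hRp
    set T : Subgroup G := P ⊔ V with hTdef
    have hRT : (P : Subgroup G) ≤ T := le_sup_left
    have hTn : T ≤ Subgroup.normalizer ((P : Subgroup G) : Set G) := by
      apply sup_le Subgroup.le_normalizer
      have : V ≤ Subgroup.centralizer ((P : Subgroup G) : Set G) :=
        Subgroup.le_centralizer_iff.mp hcent
      exact this.trans (Subgroup.centralizer_le_normalizer _)
    have hRTn : ((P : Subgroup G).subgroupOf T).Normal :=
      Subgroup.normal_subgroupOf_of_le_normalizer hTn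
    have hRTs : ((P.subtype hRT : Sylow r ↥T) : Subgroup ↥T).Normal := by
      rw [Sylow.coe_subtype]; exact hRTn
    haveI hchar : ((P.subtype hRT : Sylow r ↥T) : Subgroup ↥T).Characteristic :=
      Sylow.characteristic_of_normal _ hRTs
    have hRn : (((P.subtype hRT : Sylow r ↥T) : Subgroup ↥T).map T.subtype).Normal :=
      ConjAct.normal_of_characteristic_of_normal
    rw [Sylow.coe_subtype, Subgroup.map_subgroupOf_eq_of_le hRT] at hRn
    exact hRn

theorem split_solvable_of_normal_inv (hIH : KIH.{u} p (Nat.card G)) {φ : MulAut G}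
    (h : Split p φ) {r : ℕ} [Fact r.Prime] (Y : Subgroup G) (hYn : Y.Normal)
    (hYφ : Y.map φ.toMonoidHom = Y) (hYne : Y ≠ ⊥) (hYr : IsPGroup r Y) : Group.IsSolvable G := by
  haveI := hYn
  haveI h1 : Group.IsNilpotent (G ⧸ Y) := split_nilpotent_quot hIH h Y hYφ hYne
  haveI h2 : Group.IsNilpotent ↥Y := hYr.isNilpotent
  apply Group.isSolvable_of_ker_le_range Y.subtype (QuotientGroup.mk' Y)
  rw [QuotientGroup.ker_mk', Subgroup.range_subtype]

/-- a minimal situation is solvable -/
theorem split_solvable (hIH : KIH.{u} p (Nat.card G)) {φ₀ : MulAut G}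
    (h₀ : Split p φ₀) : Group.IsSolvable G := by
  classical
  by_cases hodd : ∃ r : ℕ, r.Prime ∧ r ≠ 2 ∧ r ∣ Nat.card G
  · obtain ⟨r, hr, hr2, hrd⟩ := hodd
    haveI : Fact r.Prime := ⟨hr⟩
    let R : Sylow r G := default
    obtain ⟨g, hRφ⟩ := exists_twist_sylow φ₀ r R
    set φ : MulAut G := MulAut.conj g * φ₀ with hφdef
    have h : Split p φ := h₀.twist g
    have hRne : (R : Subgroup G) ≠ ⊥ := R.ne_bot_of_dvd_card hrd
    set J := thompsonSubgroupOf r (R : Subgroup G) with hJ
    set Z := zOf (R : Subgroup G) with hZ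
    have hJφ : J.map φ.toMonoidHom = J := by
      rw [hJ, ← thompsonSubgroupOf_map_injective _ φ.injective, hRφ]
    have hZφ : Z.map φ.toMonoidHom = Z := by
      rw [hZ, ← zOf_map_injOn _ φ.injective.injOn, hRφ]
    have hJr : IsPGroup r J := R.2.to_le (thompsonSubgroupOf_le_self r _)
    have hZr : IsPGroup r Z := R.2.to_le (zOf_le _)
    have hJne : J ≠ ⊥ := thompsonSubgroupOf_ne_bot R.2 hRne
    have hZne : Z ≠ ⊥ := zOf_ne_bot R.2 hRne
    by_cases h1 : Subgroup.normalizer (J : Set G) = ⊤
    · exact split_solvable_of_normal_inv hIH h J (Subgroup.normalizer_eq_top_iff.mp h1) hJφ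
        hJne hJr
    by_cases h2 : Subgroup.centralizer (Z : Set G) = ⊤
    · have hZn : Z.Normal := by
        refine ⟨fun z hz g => ?_⟩
        have hg : g ∈ Subgroup.centralizer (Z : Set G) := by rw [h2]; trivial
        have := Subgroup.mem_centralizer_iff.mp hg z hz
        have e : g * z * g⁻¹ = z := by rw [← this]; group
        rw [e]; exact hz
      exact split_solvable_of_normal_inv hIH h Z hZn hZφ hZne hZr
    -- both are proper invariant subgroups
    have hNφ : (Subgroup.normalizer (J : Set G)).map φ.toMonoidHom =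
        Subgroup.normalizer (J : Set G) := by
      rw [Subgroup.map_equiv_normalizer_eq, hJφ]
    have hCφ : (Subgroup.centralizer (Z : Set G)).map φ.toMonoidHom =
        Subgroup.centralizer (Z : Set G) := by
      have key : ∀ ψ : G ≃* G, Z.map ψ.toMonoidHom = Z →
          (Subgroup.centralizer (Z : Set G)).map ψ.toMonoidHom ≤
            Subgroup.centralizer (Z : Set G) := by
        intro ψ hψ
        have := Subgroup.map_centralizer_le_centralizer_image (Z : Set G) ψ.toMonoidHom
        rw [← Subgroup.coe_map, hψ] at this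
        exact this
      apply le_antisymm (key φ hZφ)
      have hZsymm : Z.map (MulEquiv.symm φ).toMonoidHom = Z := by
        conv_lhs => rw [← hZφ]
        rw [Subgroup.map_map]
        have e : (MulEquiv.symm φ).toMonoidHom.comp (MulEquiv.toMonoidHom φ) = MonoidHom.id G := by
          ext x; simp
        rw [e, Subgroup.map_id]
      have := Subgroup.map_mono (f := (MulEquiv.toMonoidHom φ)) (key (MulEquiv.symm φ) hZsymm)
      rw [Subgroup.map_map] at this
      have e : (MulEquiv.toMonoidHom φ).comp (MulEquiv.symm φ).toMonoidHom = MonoidHom.id G := by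
        ext x; simp
      rwa [e, Subgroup.map_id] at this
    have hN1 := pn_of_isNilpotent (r := r) _ (split_nilpotent_sub hIH h _ hNφ h1)
    have hC1 := pn_of_isNilpotent (r := r) _ (split_nilpotent_sub hIH h _ hCφ h2)
    have hnpc : HasNormalPComplement r G := thompson_npc hr2 R ⟨hN1, hC1⟩
    obtain ⟨M, hMn, hMc, k, hk⟩ := normal_hall_of_hnpc hnpc
    have hMchar : ∀ x : G, x ∈ M ↔ (orderOf x).Coprime r := fun x =>
      Cfsg.Agent.Lib.Helper33.mem_iff_coprime_of_normal_hall M hMc hk x
    have hMφ : M.map φ.toMonoidHom = M := by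
      have hle : M.map φ.toMonoidHom ≤ M := by
        rintro _ ⟨x, hx, rfl⟩
        have hx : x ∈ M := hx
        rw [hMchar] at hx ⊢
        show (orderOf (φ x)).Coprime r
        rw [MulEquiv.orderOf_eq]
        exact hx
      apply Subgroup.eq_of_le_of_card_ge hle
      rw [Subgroup.card_map_of_injective φ.injective]
    have hMne : M ≠ ⊤ := by
      intro htop
      rw [htop, Subgroup.card_top] at hMc
      exact (Nat.Prime.coprime_iff_not_dvd hr).mp hMc.symm hrd
    haveI hM1 : Group.IsNilpotent ↥M := split_nilpotent_sub hIH h M hMφ hMne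
    haveI hM2 : Group.IsNilpotent (G ⧸ M) := by
      have : IsPGroup r (G ⧸ M) := by
        apply IsPGroup.of_card (n := k)
        rw [← hk, Subgroup.index_eq_card]
      exact this.isNilpotent
    apply Group.isSolvable_of_ker_le_range M.subtype (QuotientGroup.mk' M)
    rw [QuotientGroup.ker_mk', Subgroup.range_subtype]
  · push Not at hodd
    have h2 : Nat.card G = 2 ^ (Nat.card G).primeFactorsList.length := by
      apply Nat.eq_prime_pow_of_unique_prime_dvd Nat.card_pos.ne'
      intro d hd hdd
      by_contra hne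
      exact hodd d hd hne hdd
    haveI : Fact (Nat.Prime 2) := ⟨Nat.prime_two⟩
    have : IsPGroup 2 G := IsPGroup.of_card h2
    haveI := this.isNilpotent
    infer_instance

/-- **Kegel**: a splitting automorphism of prime order forces nilpotency (induction form). -/
theorem kegel_aux (hp : p.Prime) : ∀ n : ℕ, ∀ (G : Type u) [Group G] [Finite G],
    Nat.card G = n → ∀ φ : MulAut G, Split p φ → Group.IsNilpotent G := by
  intro n
  induction n using Nat.strong_induction_on with
  | _ n ih =>
    intro G _ _ hn φ h
    have hIH : KIH.{u} p (Nat.card G) := by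
      intro G' _ _ hlt φ' h'
      rw [hn] at hlt
      exact ih _ hlt G' rfl φ' h'
    haveI := split_solvable hIH h
    exact split_nilpotent_of_solvable hp hIH h

/-- **Kegel's theorem** -/
theorem kegel (hp : p.Prime) (φ : MulAut G) (h : Split p φ) : Group.IsNilpotent G :=
  kegel_aux hp _ G rfl φ h

end Main

end Cfsg.Agent.Lib.Helper19
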