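import Mathlib
import Cfsg.Prelude.Def_Balance

/-!
# Mc hive (S1305, helper18), leaf MC-DA (helper19): 2-rank at least 2 gives an elementary abelian
subgroup of order `> 2`.
-/

set_option autoImplicit false

open Cfsg

namespace Cfsg.Agent.Lib.Helper18.Mc

open Subgroup

/-- MC-DA.  2-rank at least 2 gives an elementary abelian subgroup of order `> 2`. -/
theorem exists_A {G : Type*} [Group G] (K : Subgroup G) (hrk : ¬ PRankLE 2 1 ↥K) :
    ∃ A : Subgroup G, A ≤ K ∧ IsElementaryAbelian 2 A ∧ 2 < Nat.card A := by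
  unfold PRankLE at hrk
  push Not at hrk
  obtain ⟨A', hc, he, hcard⟩ := hrk
  refine ⟨A'.map K.subtype, Subgroup.map_subtype_le A', ⟨?_, ?_⟩, ?_⟩
  · refine ⟨⟨?_⟩⟩
    rintro ⟨x, hx⟩ ⟨y, hy⟩
    obtain ⟨x', hx', rfl⟩ := Subgroup.mem_map.mp hx
    obtain ⟨y', hy', rfl⟩ := Subgroup.mem_map.mp hy
    apply Subtype.ext
    have h1 : (⟨x', hx'⟩ : ↥A') * ⟨y', hy'⟩ = ⟨y', hy'⟩ * ⟨x', hx'⟩ := hc.is_comm.comm _ _
    have h2 : x' * y' = y' * x' := congrArg Subtype.val h1
    show K.subtype x' * K.subtype y' = K.subtype y' * K.subtype x'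
    rw [← map_mul, ← map_mul, h2]
  · intro a ha
    obtain ⟨a', ha', rfl⟩ := Subgroup.mem_map.mp ha
    rw [← map_pow, he a' ha', map_one]
  · have : Nat.card ↥(A'.map K.subtype) = Nat.card ↥A' :=
      (Nat.card_congr (Subgroup.equivMapOfInjective A' K.subtype K.subtype_injective).toEquiv).symm
    rw [this]
    simpa using hcard

end Cfsg.Agent.Lib.Helper18.Mc
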