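import Cfsg.Agent.Lib.Helper23.NStarA1
import Cfsg.Agent.Lib.Helper68.NStarA24
import Cfsg.Agent.Lib.Helper70.BG1369
import Cfsg.Agent.Lib.Helper19.BG142L7
import Cfsg.Agent.Lib.Helper64.BG9
import Cfsg.Agent.Lib.Helper63.BG10
import Cfsg.Agent.S1378

set_option autoImplicit false
set_option linter.style.haveILetI false
set_option linter.unusedSectionVars false

/-!
# Case N star structure: leaf A9a (`par_cent`)
-/

namespace Cfsg.Agent.Lib.Helper23.NStar

open Subgroup Cfsg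

universe u

variable {G : Type u} [Group G] [Finite G] {M E X L X' L' : Subgroup G}

/-- LEAF A9a. `a ∈ L_σ ∩ Z` of prime order `r`: `r ∈ σ(L)`, so `r ∤ |K*|` and `⟨a⟩ ≤ E`;
`L_a` maximal over `N(⟨a⟩)` has `r ∈ σ(L_a)` (A1), is conjugate to `L` (S1378), so `L_a = L` (A2). -/
theorem par_cent (hG : IsMinSimpleOddOrder G) (c : Ctx M E) (d : Par E X L) {a : G}
    (ha : a ∈ sigmaCore L ⊓ (E ⊔ (sigmaCore M ⊓ centralizer (E : Set G))))
    (hao : (orderOf a).Prime) : centralizer ({a} : Set G) ≤ L := by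
  classical
  have h78 := (Cfsg.Agent.S1378.result hG).2
  have hb := par_basic hG c d
  have hAc : Nat.card (zpowers a) = orderOf a := Nat.card_zpowers a
  have hAp : (Nat.card (zpowers a)).Prime := by rw [hAc]; exact hao
  have hAσ : zpowers a ≤ sigmaCore L := (zpowers_le).2 ha.1
  have hAZ : zpowers a ≤ E ⊔ (sigmaCore M ⊓ centralizer (E : Set G)) := (zpowers_le).2 ha.2
  have hrL : orderOf a ∈ sigma L := by
    apply Cfsg.Agent.Lib.Helper24.BG.mem_sigma_of_dvd_card_sigmaCore L hao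
    rw [← hAc]
    exact Subgroup.card_dvd_of_le hAσ
  have hcomm : ∀ x ∈ E, ∀ y ∈ sigmaCore M ⊓ centralizer (E : Set G), x * y = y * x := by
    intro x hx y hy
    exact ((mem_centralizer_iff.mp hy.2) x hx)
  have hcop := Cfsg.Agent.Lib.Helper70.BG1369.coprime_card (c.hallE hG)
  rcases Cfsg.Agent.Lib.Helper70.BG1369.le_or_le_of_card_prime hcomm hcop hAZ hAp with h | h
  · -- `⟨a⟩ ≤ E`
    have hA1 : zpowers a ≠ ⊥ := by
      intro h0
      rw [h0, Subgroup.card_bot] at hAp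
      exact Nat.not_prime_one hAp
    have hAtop : zpowers a ≠ ⊤ := by
      intro h0
      have : (⊤ : Subgroup G) ≤ M := h0 ▸ (h.trans c.hE.1)
      exact c.hM.1 (top_le_iff.mp this)
    obtain ⟨La, hLa, hNLa⟩ := Cfsg.Agent.Lib.Helper64.BG9.exists_coatom_ge
      (Cfsg.Agent.Lib.Helper63.BG10.normalizer_ne_top hG hA1 hAtop)
    have da : Par E (zpowers a) La := ⟨h, hAp, hLa, hNLa⟩
    have hba := par_basic hG c da
    have hrLa : orderOf a ∈ sigma La := by
      have := hba.2.1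
      rwa [hAc] at this
    obtain ⟨g, hg⟩ := h78 L La d.hL hLa ⟨orderOf a, hrL, hrLa⟩
    have hLaL : La = L := par_unique hG c d da ⟨g, hg⟩
    rw [← Cfsg.Agent.Lib.Helper32.BG142.exc_centralizer_zpowers a, ← hLaL]
    exact (Subgroup.centralizer_le_normalizer _).trans hNLa
  · -- `⟨a⟩ ≤ K* ≤ W`: `r ∈ σ(M) ∩ σ(L)`, against non-conjugacy
    exfalso
    have hrM : orderOf a ∈ sigma M := by
      apply Cfsg.Agent.Lib.Helper24.BG.mem_sigma_of_dvd_card_sigmaCore M hao
      rw [← hAc]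
      exact Subgroup.card_dvd_of_le (h.trans inf_le_left)
    obtain ⟨g, hg⟩ := h78 M L c.hM d.hL ⟨orderOf a, hrM, hrL⟩
    exact hb.2.2.2.1 g hg

end Cfsg.Agent.Lib.Helper23.NStar
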