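import Mathlib
import Cfsg.Agent.S0132

set_option autoImplicit false

namespace Cfsg.Agent.Lib.Helper19

/-- if `x ^ m` and `x ^ n` lie in a subgroup and `m`, `n` are coprime then `x` lies in it -/
theorem mem_of_pow_mem_of_coprime {H : Type*} [Group H] (C : Subgroup H) {x : H} {m n : ℕ}
    (hm : x ^ m ∈ C) (hn : x ^ n ∈ C) (hc : Nat.Coprime m n) : x ∈ C := by
  have h1 : ((Nat.gcd m n : ℕ) : ℤ) = (m : ℤ) * Nat.gcdA m n + (n : ℤ) * Nat.gcdB m n :=
    Nat.gcd_eq_gcd_ab m n
  rw [hc] at h1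
  have h2 : x = (x ^ m) ^ (Nat.gcdA m n) * (x ^ n) ^ (Nat.gcdB m n) := by
    rw [← zpow_natCast x m, ← zpow_natCast x n, ← zpow_mul, ← zpow_mul, ← zpow_add, ← h1]
    simp
  rw [h2]
  exact C.mul_mem (C.zpow_mem hm _) (C.zpow_mem hn _)

/-- a finite nilpotent group of even order has a central involution -/
theorem exists_central_involution {H : Type*} [Group H] [Finite H] (hn : Group.IsNilpotent H)
    (heven : Even (Nat.card H)) :
    ∃ z : H, z ≠ 1 ∧ z * z = 1 ∧ ∀ x : H, x * z = z * x := by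
  have : Fact (Nat.Prime 2) := ⟨Nat.prime_two⟩
  let S : Sylow 2 H := default
  have hSn : (S : Subgroup H).Normal := inferInstance
  have hS1 : (S : Subgroup H) ≠ ⊥ := S.ne_bot_of_dvd_card heven.two_dvd
  have : Nontrivial ↥(S : Subgroup H) := (Subgroup.nontrivial_iff_ne_bot _).mpr hS1
  have hSp : IsPGroup 2 ↥(S : Subgroup H) := S.isPGroup'
  have : Nontrivial (Subgroup.center ↥(S : Subgroup H)) := hSp.center_nontrivial
  have hZp : IsPGroup 2 (Subgroup.center ↥(S : Subgroup H)) := hSp.to_subgroup _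
  have h2dvd : 2 ∣ Nat.card (Subgroup.center ↥(S : Subgroup H)) := by
    rcases hZp.card_eq_or_dvd with h | h
    · exfalso
      have := Finite.one_lt_card (α := Subgroup.center ↥(S : Subgroup H))
      omega
    · exact h
  obtain ⟨z, hz⟩ := exists_prime_orderOf_dvd_card' 2 h2dvd
  have hz1 : z ≠ 1 := by
    intro h
    rw [h, orderOf_one] at hz
    omega
  have hz2 : z ^ 2 = 1 := by
    have := pow_orderOf_eq_one z
    rwa [hz] at this
  -- the element of `H`
  set zz : H := ((z : ↥(S : Subgroup H)) : H) with hzz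
  have hzz1 : zz ≠ 1 := by
    intro h
    apply hz1
    apply Subtype.ext
    apply Subtype.ext
    exact h
  have hzz2 : zz * zz = 1 := by
    have h1 := congrArg (fun w : Subgroup.center ↥(S : Subgroup H) => ((w : ↥(S : Subgroup H)) : H)) hz2
    simpa [pow_two] using h1
  have hzS : ∀ y ∈ (S : Subgroup H), y * zz = zz * y := by
    intro y hy
    have h1 : (⟨y, hy⟩ : ↥(S : Subgroup H)) * (z : ↥(S : Subgroup H)) = (z : ↥(S : Subgroup H)) * ⟨y, hy⟩ :=
      (Subgroup.mem_center_iff.mp z.2 ⟨y, hy⟩)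
    exact congrArg Subtype.val h1
  refine ⟨zz, hzz1, hzz2, ?_⟩
  intro x
  have hx : x ∈ Subgroup.centralizer {zz} := by
    obtain ⟨k, m, hm, hkm⟩ := Nat.exists_eq_two_pow_mul_odd (orderOf_pos x).ne'
    apply mem_of_pow_mem_of_coprime _ (m := m) (n := 2 ^ k)
    · -- x ^ m is a 2-element, so lies in S
      have h1 : (x ^ m) ^ (2 ^ k) = 1 := by
        rw [← pow_mul, mul_comm, ← hkm, pow_orderOf_eq_one]
      have h2 : IsPGroup 2 (Subgroup.zpowers (x ^ m)) := by
        rintro ⟨y, hy⟩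
        obtain ⟨j, rfl⟩ := Subgroup.mem_zpowers_iff.mp hy
        refine ⟨k, Subtype.ext ?_⟩
        show ((x ^ m) ^ j) ^ (2 ^ k) = 1
        rw [← zpow_natCast, ← zpow_mul, mul_comm, zpow_mul, zpow_natCast, h1, one_zpow]
      obtain ⟨P, hP⟩ := h2.exists_le_sylow
      have hPS : P = S := by
        have := Sylow.unique_of_normal S hSn
        exact Subsingleton.elim _ _
      have hxS : x ^ m ∈ (S : Subgroup H) := hPS ▸ hP (Subgroup.mem_zpowers _)
      rw [Subgroup.mem_centralizer_iff]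
      intro h hh
      rw [Set.mem_singleton_iff] at hh
      subst hh
      exact (hzS _ hxS).symm
    · have h1 : (x ^ (2 ^ k)) ^ m = 1 := by
        rw [← pow_mul, ← hkm, pow_orderOf_eq_one]
      have h2 : orderOf (x ^ (2 ^ k)) ∣ m := orderOf_dvd_of_pow_eq_one h1
      have h3 : (orderOf (x ^ (2 ^ k))).Coprime 2 :=
        Nat.Coprime.coprime_dvd_left h2 (Nat.coprime_two_right.mpr hm)
      have h4 := Cfsg.Agent.S0132.cent_of_nilpotent hn (S : Subgroup H) hSp (x ^ (2 ^ k)) h3
      rw [Subgroup.mem_centralizer_iff]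
      intro h hh
      rw [Set.mem_singleton_iff] at hh
      subst hh
      exact Subgroup.mem_centralizer_iff.mp h4 _ (z : ↥(S : Subgroup H)).2
    · exact (Nat.Coprime.pow_right k (Nat.coprime_two_right.mpr hm))
  exact (Subgroup.mem_centralizer_iff.mp hx zz rfl).symm

end Cfsg.Agent.Lib.Helper19
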