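import Mathlib
import Cfsg.Agent.Lib.Helper41.OmBNDefs
import Cfsg.Agent.Lib.Helper80.OmBN_EB
import Cfsg.Agent.Lib.Helper8.DicksonGen
import Cfsg.Agent.Lib.Helper8.OmegaNoSplit
import Cfsg.Agent.Lib.Helper8.InvolCountForms
import Cfsg.Agent.Lib.Helper8.OrthTransp
import Cfsg.Agent.Lib.Helper13.Orth

/-! # S2549 hive (helper41, "OmBN"), leaf TOP: `B ⊔ N = ⊤` in `O^-_{2m+2}(F)` (helper19)

`O` is generated by reflections (helper8 `closure_reflSet_eq_top_gen`); a reflection `r_v` with all `v(f_i) = 0` is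
block upper triangular; otherwise, with `k` minimal such that `v(f_k) ≠ 0`, an Eichler transformation `E(e_k, y) ∈ B`
(helper80 `eichler_mem_B`) moves `v` to `α e_k + β f_k`, whose reflection is block monomial. -/

set_option autoImplicit false

namespace Cfsg.Agent.Lib.Helper41.OmBN

open Matrix Cfsg Cfsg.Agent.Lib.Helper13 Cfsg.Agent.Lib.Helper8 Cfsg.Agent.Lib.Helper43
  Cfsg.Agent.Lib.Helper41.SpBN

variable {F : Type*} [Field F] {m : ℕ} {a b : F}

/-- the orthogonal group of minus type is never `O⁺₄(2)` -/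
theorem top_goodOrth [Fintype F] (hab : Aniso a b) : GoodOrth (minusForm m F a b) := by
  by_cases hm : m = 1
  · subst hm
    have hyp := Cfsg.Agent.Lib.Helper8.minusForm_hyp 1 F a b
    exact goodOrth_of_ts_bound _ (nondeg hab) 1 rfl _ (minusForm_e_indep 1 F) hyp.qe hyp.ee
      (minusForm_max 1 F a b hab)
  · left; right
    rw [Module.finrank_fintype_fun_eq_card]
    simp only [Fintype.card_sum, Fintype.card_fin]
    omega

/-- the entries of a reflection matrix -/
theorem top_refl_entry (v : MIdx m → F) (i j : MIdx m) :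
    Cfsg.reflectionMatrix (⇑(minusForm m F a b)) v i j =
      (if i = j then 1 else 0) - (minusForm m F a b v)⁻¹ *
        (v i * QuadraticMap.polar (⇑(minusForm m F a b)) v (Pi.single j 1)) := by
  unfold Cfsg.reflectionMatrix Cfsg.polarVec
  simp [Matrix.one_apply, Matrix.vecMulVec_apply]

/-- `B(v, e_j) = v(f_j)` -/
theorem top_polar_e (v : MIdx m → F) (j : Fin m) :
    QuadraticMap.polar (⇑(minusForm m F a b)) v (Pi.single (Sum.inl (Sum.inl j)) 1) =
      v (Sum.inl (Sum.inr j)) := by
  rw [QuadraticMap.polar_comm, polar_minusForm_inl]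

/-- `B(v, f_j) = v(e_j)` -/
theorem top_polar_f (v : MIdx m → F) (j : Fin m) :
    QuadraticMap.polar (⇑(minusForm m F a b)) v (Pi.single (Sum.inl (Sum.inr j)) 1) =
      v (Sum.inl (Sum.inl j)) := by
  rw [QuadraticMap.polar_comm, polar_minusForm_inr]

/-- case (b): the reflection in a vector without `f`-components is block upper triangular -/
theorem top_refl_mem_B (g : OG F m a b) (v : MIdx m → F)
    (hg : mat g = Cfsg.reflectionMatrix (⇑(minusForm m F a b)) v)
    (hf : ∀ i : Fin m, v (Sum.inl (Sum.inr i)) = 0) : g ∈ Bo F m a b := by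
  rw [mem_Bo_iff]
  intro i j hlt
  have hij : i ≠ j := by
    rintro rfl
    exact lt_irrefl _ hlt
  rw [hg, top_refl_entry, if_neg hij, zero_sub, neg_eq_zero]
  apply mul_eq_zero_of_right
  rcases j with (j | j) | j
  · rw [top_polar_e, hf, mul_zero]
  · rcases i with (i | i) | i
    · rw [oord_e, oord_f] at hlt
      have := i.2
      have := j.2
      omega
    · rw [hf, zero_mul]
    · rw [oord_w, oord_f] at hlt
      have := j.2
      omega
  · rcases i with (i | i) | i
    · rw [oord_e, oord_w] at hlt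
      have := i.2
      omega
    · rw [hf, zero_mul]
    · rw [oord_w, oord_w] at hlt
      omega

/-- `Q(α e_k + β f_k) = α β` -/
theorem top_Q_pair (k : Fin m) (α β : F) :
    minusForm m F a b (α • ve F k + β • vf F k) = α * β := by
  have h1 : minusForm m F a b (α • ve F k + β • vf F k) =
      minusForm m F a b (α • ve F k) + minusForm m F a b (β • vf F k) +
        QuadraticMap.polar (⇑(minusForm m F a b)) (α • ve F k) (β • vf F k) := by
    unfold QuadraticMap.polar
    ring
  rw [h1, QuadraticMap.map_smul, QuadraticMap.map_smul, QuadraticMap.polar_smul_left,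
    QuadraticMap.polar_smul_right]
  unfold ve vf
  rw [minusForm_single_inl, minusForm_single_inr, polar_minusForm_inl]
  simp

/-- the reflection in `α e_k + β f_k` is block monomial -/
theorem top_refl_mem_N (g : OG F m a b) (k : Fin m) (α β : F) (hα : α ≠ 0) (hβ : β ≠ 0)
    (hg : mat g = Cfsg.reflectionMatrix (⇑(minusForm m F a b)) (α • ve F k + β • vf F k)) :
    g ∈ No F m a b := by
  set u : MIdx m → F := α • ve F k + β • vf F k with hu
  have hQ : minusForm m F a b u = α * β := top_Q_pair k α β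
  have hue : ∀ i : Fin m, u (Sum.inl (Sum.inl i)) = if i = k then α else 0 := by
    intro i
    simp [hu, ve, vf, Pi.single_apply]
  have huf : ∀ i : Fin m, u (Sum.inl (Sum.inr i)) = if i = k then β else 0 := by
    intro i
    simp [hu, ve, vf, Pi.single_apply]
  have huw : ∀ j : Fin 2, u (Sum.inr j) = 0 := by
    intro j
    simp [hu, ve, vf]
  have hpw : ∀ j : Fin 2, QuadraticMap.polar (⇑(minusForm m F a b)) u (Pi.single (Sum.inr j) 1) = 0 := by
    intro j
    rw [polar_minusForm]
    simp [huw]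
  rw [mem_No_iff]
  refine ⟨Equiv.swap (Sum.inl k) (Sum.inr k),
    fun s => if s = Sum.inl k then -(β / α) else if s = Sum.inr k then -(α / β) else 1, ?_, ?_, ?_⟩
  · intro x s
    rw [Matrix.toBlocks₁₁, Matrix.of_apply, hg, top_refl_entry, hQ]
    have hαβ : α * β ≠ 0 := mul_ne_zero hα hβ
    rcases s with s | s <;> rcases x with x | x <;>
      simp only [top_polar_e, top_polar_f, hue, huf] <;>
      by_cases hs : s = k <;> by_cases hx : x = k <;>
      simp [Equiv.swap_apply_def, hs, hx] <;> (try field_simp) <;> (try ring)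
  · ext x j
    rw [Matrix.toBlocks₁₂, Matrix.of_apply, hg, top_refl_entry, hpw]
    simp
  · ext j x
    rw [Matrix.toBlocks₂₁, Matrix.of_apply, hg, top_refl_entry, huw]
    simp

/-- case (a): `k` minimal with `v(f_k) ≠ 0` -/
theorem top_refl_mem_sup_a [Fintype F] (hab : Aniso a b) (g : OG F m a b) (v : MIdx m → F)
    (hv : minusForm m F a b v ≠ 0)
    (hg : mat g = Cfsg.reflectionMatrix (⇑(minusForm m F a b)) v)
    (k : Fin m) (hk : v (Sum.inl (Sum.inr k)) ≠ 0)
    (hmin : ∀ j : Fin m, (j : ℕ) < (k : ℕ) → v (Sum.inl (Sum.inr j)) = 0) :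
    g ∈ Bo F m a b ⊔ No F m a b := by
  set β : F := v (Sum.inl (Sum.inr k)) with hβ
  set y : MIdx m → F := (-β⁻¹) • (v - v (Sum.inl (Sum.inl k)) • ve F k - β • vf F k) with hy
  have hyf : ∀ j : Fin m, (j : ℕ) ≤ (k : ℕ) → y (Sum.inl (Sum.inr j)) = 0 := by
    intro j hj
    rcases Nat.lt_or_eq_of_le hj with hlt | heq
    · have hjk : j ≠ k := by
        rintro rfl
        exact lt_irrefl _ hlt
      simp [hy, ve, vf, hmin j hlt, hjk]
    · have hjk : j = k := Fin.ext heq
      subst hjk
      simp [hy, ve, vf, ← hβ]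
  have hu : minusForm m F a b (ve F k) = 0 := minusForm_single_inl m F a b k
  have huy : QuadraticMap.polar (⇑(minusForm m F a b)) (ve F k) y = 0 := by
    unfold ve
    rw [polar_minusForm_inl]
    exact hyf k le_rfl
  set E : OG F m a b := eichlerElt (minusForm m F a b) (nondeg hab) (ve F k) y hu huy with hE
  have hEact : ActsAs F m a b E (ve F k) y := actsAs_eichlerElt hab (ve F k) y hu huy
  have hEB : E ∈ Bo F m a b := eichler_mem_B k y hyf E hEact
  -- the image of `v`
  set c : F := QuadraticMap.polar (⇑(minusForm m F a b)) y v +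
    minusForm m F a b y * β with hc
  have hEv : mat E *ᵥ v = (v (Sum.inl (Sum.inl k)) - c) • ve F k + β • vf F k := by
    rw [hEact v, eichlerLin_apply]
    have h1 : QuadraticMap.polar (⇑(minusForm m F a b)) (ve F k) v = β := by
      unfold ve
      rw [polar_minusForm_inl]
    rw [h1]
    have h2 : β • y = -(v - v (Sum.inl (Sum.inl k)) • ve F k - β • vf F k) := by
      rw [hy, smul_smul, mul_neg, mul_inv_cancel₀ hk, neg_one_smul]
    rw [h2, hc, sub_smul, add_smul]
    abel
  set α : F := v (Sum.inl (Sum.inl k)) - c with hα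
  have hQE : minusForm m F a b (mat E *ᵥ v) = minusForm m F a b v := mat_preserves E v
  have hαβ : α * β ≠ 0 := by
    rw [← top_Q_pair (a := a) (b := b) k α β, ← hEv, hQE]
    exact hv
  have hα0 : α ≠ 0 := left_ne_zero_of_mul hαβ
  -- the conjugate reflection
  have hgr : g = reflElt (minusForm m F a b) v hv := eq_reflElt_of_coe _ g v hv hg
  have hconj := conj_reflElt (minusForm m F a b) E v hv
  have hrN : E * g * E⁻¹ ∈ No F m a b := by
    apply top_refl_mem_N (E * g * E⁻¹) k α β hα0 hk
    rw [hgr, hconj, ← hEv]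
    rfl
  have h3 : g = E⁻¹ * (E * g * E⁻¹) * E := by group
  rw [h3]
  have hB : Bo F m a b ≤ Bo F m a b ⊔ No F m a b := le_sup_left
  have hN : No F m a b ≤ Bo F m a b ⊔ No F m a b := le_sup_right
  exact Subgroup.mul_mem _ (Subgroup.mul_mem _ (hB (Subgroup.inv_mem _ hEB)) (hN hrN)) (hB hEB)

/-- LEAF TOP: `B ⊔ N = ⊤`. -/
theorem B_sup_N [Fintype F] (hab : Aniso a b) : Bo F m a b ⊔ No F m a b = ⊤ := by
  classical
  have hcl := closure_reflSet_eq_top_gen (minusForm m F a b) (nondeg hab) (top_goodOrth hab)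
  rw [eq_top_iff, ← hcl, Subgroup.closure_le]
  rintro g ⟨v, hv, hg⟩
  by_cases hf : ∀ i : Fin m, v (Sum.inl (Sum.inr i)) = 0
  · exact (le_sup_left : Bo F m a b ≤ Bo F m a b ⊔ No F m a b) (top_refl_mem_B g v hg hf)
  · rw [not_forall] at hf
    have hne : (Finset.univ.filter (fun i : Fin m => v (Sum.inl (Sum.inr i)) ≠ 0)).Nonempty := by
      obtain ⟨i, hi⟩ := hf
      exact ⟨i, by simp [hi]⟩
    obtain ⟨k, hk, hkmin⟩ := Finset.exists_min_image _ (fun i : Fin m => (i : ℕ)) hne
    rw [Finset.mem_filter] at hk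
    apply top_refl_mem_sup_a hab g v hv hg k hk.2
    intro j hj
    by_contra hne'
    have := hkmin j (by simp [hne'])
    omega

end Cfsg.Agent.Lib.Helper41.OmBN
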