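import Mathlib
import Cfsg.Agent.Lib.Helper43.SpBN_DC
import Cfsg.Agent.Lib.Helper6.St.Main2
import Cfsg.Agent.Lib.Helper80.St_SG5
import Cfsg.Agent.Lib.Helper80.St_SG6

/-! # S2548 hive (helper40, "OpBN"), leaf ABS: the abstract Steinberg character of a split (B,N)-pair
of characteristic `p` (helper19)

`abs_steinberg`: if `B ∩ n0 B n0⁻¹ = B ∩ N = T`, `|B| = p^a |T|` and `p ∤ |T|`, then the Steinberg character
`stChar` has degree `p^a`, `|G| = p^a k` with `p ∤ k`, and `stChar` is constant `= stChar 1` on `Z(G) ∩ B`. -/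

set_option autoImplicit false

namespace Cfsg.Agent.Lib.Helper40.OpBN

open Cfsg Cfsg.Agent.Lib.Helper6 Cfsg.Agent.Lib.Helper6.St Cfsg.Agent.Lib.Helper41.SpBN

/-- `T = B ∩ N ≤ B ∩ n B n⁻¹` for `n ∈ N` -/
theorem abs_T_le_conj {G : Type*} [Group G] (P : Cfsg.BNPair G) {n : G} (hn : n ∈ P.N) :
    P.B ⊓ P.N ≤ P.B ⊓ P.B.map (MulAut.conj n).toMonoidHom := by
  intro t ht
  refine Subgroup.mem_inf.mpr ⟨(Subgroup.mem_inf.mp ht).1, ?_⟩
  rw [Subgroup.mem_map]
  refine ⟨n⁻¹ * t * n, ?_, ?_⟩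
  · have := P.conj_mem n⁻¹ (P.N.inv_mem hn) t ht
    rwa [inv_inv] at this
  · simp only [MulEquiv.coe_toMonoidHom, MulAut.conj_apply]
    group

/-- a central element in `H` has the same number of fixed cosets as `1` -/
theorem abs_fpc_central {G : Type*} [Group G] (H : Subgroup G) {z : G} (hz : z ∈ Subgroup.center G)
    (hzH : z ∈ H) : Cfsg.fixedPointCharacter H z = Cfsg.fixedPointCharacter H 1 := by
  unfold Cfsg.fixedPointCharacter
  have hset : MulAction.fixedBy (G ⧸ H) z = MulAction.fixedBy (G ⧸ H) (1 : G) := by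
    ext x
    simp only [MulAction.mem_fixedBy, one_smul, iff_true]
    induction x using QuotientGroup.induction_on with
    | H a =>
      change ((z * a : G) : G ⧸ H) = (a : G ⧸ H)
      rw [QuotientGroup.eq]
      have h1 : z * a = a * z := (Subgroup.mem_center_iff.mp hz a).symm
      rw [h1]
      have : (a * z)⁻¹ * a = z⁻¹ := by group
      rw [this]
      exact H.inv_mem hzH
  rw [hset]

/-- a sum of powers of `p`, exactly one of which is `1`, is prime to `p` -/
theorem abs_sum_not_dvd {ι : Type*} [Fintype ι] [DecidableEq ι] (p : ℕ) (hp : p.Prime) (a : ℕ)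
    (f : ι → ℕ) (i0 : ι) (hdvd : ∀ i, f i ∣ p ^ a) (h0 : f i0 = 1) (h1 : ∀ i, f i = 1 → i = i0) :
    ¬ p ∣ ∑ i, f i := by
  intro h
  rw [← Finset.add_sum_erase Finset.univ f (Finset.mem_univ i0), h0] at h
  have h2 : p ∣ ∑ i ∈ Finset.univ.erase i0, f i := by
    apply Finset.dvd_sum
    intro i hi
    obtain ⟨j, -, hj⟩ := (Nat.dvd_prime_pow hp).mp (hdvd i)
    have hj0 : j ≠ 0 := by
      rintro rfl
      rw [pow_zero] at hj
      exact (Finset.ne_of_mem_erase hi) (h1 i hj)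
    rw [hj]
    exact dvd_pow_self p hj0
  have h3 : p ∣ 1 := (Nat.dvd_add_left h2).mp h
  exact hp.one_lt.ne' (Nat.dvd_one.mp h3)

/-- LEAF ABS (abstract Steinberg character of a split (B,N)-pair of characteristic `p`). -/
theorem abs_steinberg {G : Type*} [Group G] [Finite G] (P : Cfsg.BNPair G) (p : ℕ) [Fact p.Prime]
    (n0 : G) (hn0 : n0 ∈ P.N)
    (hopp : P.B ⊓ P.B.map (MulAut.conj n0).toMonoidHom = P.B ⊓ P.N)
    (a : ℕ) (hB : Nat.card ↥P.B = p ^ a * Nat.card ↥(P.B ⊓ P.N))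
    (hT : ¬ p ∣ Nat.card ↥(P.B ⊓ P.N)) :
    ∃ χ : G → ℂ, Cfsg.IsIrrCharacter G χ ∧ χ 1 = ((p ^ a : ℕ) : ℂ) ∧
      (∃ k : ℕ, Nat.card G = p ^ a * k ∧ ¬ p ∣ k) ∧
      ∀ z ∈ Subgroup.center G, z ∈ P.B → χ z = χ 1 := by
  classical
  have hp : p.Prime := Fact.out
  haveI : Fintype G := Fintype.ofFinite _
  haveI : Fintype (Wg P) := Fintype.ofFinite _
  have hfin : (P.S).Finite := Set.toFinite _
  set T : Finset G := hfin.toFinset with hTdef
  have hTS : (↑T : Set G) = P.S := hfin.coe_toFinset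
  have hTpos : 0 < Nat.card (P.B ⊓ P.N : Subgroup G) := Nat.card_pos
  -- the cells
  have hcell : ∀ n ∈ P.N, ∃ c : ℕ, Nat.card (C P n) * c = p ^ a * Nat.card P.B := by
    intro n hn
    have h1 := card_doubleCoset_mul P.B n
    obtain ⟨c, hc⟩ := Subgroup.card_dvd_of_le (abs_T_le_conj P hn)
    refine ⟨c, ?_⟩
    rw [hc] at h1
    have h2 : Nat.card (C P n) * c * Nat.card (P.B ⊓ P.N : Subgroup G) =
        p ^ a * Nat.card P.B * Nat.card (P.B ⊓ P.N : Subgroup G) := by
      calc Nat.card (C P n) * c * Nat.card (P.B ⊓ P.N : Subgroup G)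
          = Nat.card (C P n) * (Nat.card (P.B ⊓ P.N : Subgroup G) * c) := by ring
        _ = Nat.card P.B * Nat.card P.B := h1
        _ = p ^ a * Nat.card P.B * Nat.card (P.B ⊓ P.N : Subgroup G) := by
            nth_rewrite 1 [hB]; ring
    exact Nat.eq_of_mul_eq_mul_right hTpos h2
  have hmax : ∀ n ∈ P.N, Nat.card (C P n) ≤ Nat.card (C P n0) := by
    intro n hn
    have h1 := card_doubleCoset_mul P.B n
    have h2 := card_doubleCoset_mul P.B n0
    rw [hopp] at h2
    have h3 : Nat.card (P.B ⊓ P.N : Subgroup G) ≤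
        Nat.card (P.B ⊓ P.B.map (MulAut.conj n).toMonoidHom : Subgroup G) :=
      Subgroup.card_le_of_le (abs_T_le_conj P hn)
    have h4 : Nat.card (C P n) * Nat.card (P.B ⊓ P.N : Subgroup G) ≤
        Nat.card (C P n0) * Nat.card (P.B ⊓ P.N : Subgroup G) := by
      calc Nat.card (C P n) * Nat.card (P.B ⊓ P.N : Subgroup G)
          ≤ Nat.card (C P n) *
            Nat.card (P.B ⊓ P.B.map (MulAut.conj n).toMonoidHom : Subgroup G) :=
            Nat.mul_le_mul_left _ h3
        _ = Nat.card P.B * Nat.card P.B := h1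
        _ = _ := h2.symm
    exact Nat.le_of_mul_le_mul_right h4 hTpos
  -- the indices `qidx w` divide `p ^ a`
  have hq : ∀ w : Wg P, qidx P w ∣ p ^ a := by
    intro w
    obtain ⟨c, hc⟩ := hcell ((Quotient.out w : P.N) : G) (Quotient.out w : P.N).2
    have h1 : Nat.card (Cw P w) = qidx P w * Nat.card P.B := card_Cw P w
    rw [← sg5_Cw_eq, h1] at hc
    have hBpos : 0 < Nat.card P.B := Nat.card_pos
    refine ⟨c, ?_⟩
    apply Nat.eq_of_mul_eq_mul_right hBpos
    rw [← hc]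
    ring
  have hsum : ¬ p ∣ ∑ w : Wg P, qidx P w :=
    abs_sum_not_dvd p hp a (fun w => qidx P w) 1 hq (qidx_one P)
      (fun w hw => eq_one_of_qidx_eq_one P hw)
  refine ⟨stChar P T, isIrrCharacter_stChar P T hTS, ?_, ?_, ?_⟩
  · have h := stChar_borel P T hTS hn0 hmax (1 : P.B)
    rw [Subgroup.coe_one] at h
    rw [h, fixedPointCharacter_one]
    congr 1
    rw [hopp]
    have hidx : ((P.B ⊓ P.N).subgroupOf P.B).index *
        Nat.card (P.B ⊓ P.N : Subgroup G) = Nat.card P.B := by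
      have h5 := Subgroup.card_mul_index ((P.B ⊓ P.N).subgroupOf P.B)
      rw [Nat.card_congr (Subgroup.subgroupOfEquivOfLe
        (inf_le_left : P.B ⊓ P.N ≤ P.B)).toEquiv] at h5
      rw [mul_comm]
      exact h5
    rw [hB] at hidx
    exact Nat.eq_of_mul_eq_mul_right hTpos hidx
  · refine ⟨Nat.card (P.B ⊓ P.N : Subgroup G) * ∑ w : Wg P, qidx P w, ?_, ?_⟩
    · rw [card_eq_sum_qidx P, hB]
      ring
    · intro h
      rcases (Nat.Prime.dvd_mul hp).mp h with h | h
      · exact hT h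
      · exact hsum h
  · intro z hz hzB
    unfold stChar
    apply Finset.sum_congr rfl
    intro J _
    congr 1
    exact abs_fpc_central _ hz (le_sup_left (a := P.B) hzB)

end Cfsg.Agent.Lib.Helper40.OpBN
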