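import Mathlib
import Cfsg.Agent.Lib.Helper35.PStabMain
import Cfsg.Agent.Lib.Helper32.FitDer
import Cfsg.Agent.Lib.Helper53.SolvPSolv
import Cfsg.Agent.Lib.Helper54.LBalance2

set_option autoImplicit false
set_option linter.style.haveILetI false
set_option linter.unusedSectionVars false

/-!
# Quadratically acting elements lie in the Fitting subgroup

In a finite solvable group of order prime to `6`, an element acting quadratically on the Fitting
subgroup lies in the Fitting subgroup (`p`-stability for all primes at once).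
-/

namespace Cfsg.Agent.Lib.Helper19.QuadFit

open Subgroup Cfsg
open scoped commutatorElement

universe u

theorem mem_fitting_of_quadratic {X : Type u} [Group X] [Finite X] [hs : Group.IsSolvable X]
    (h2 : ¬ 2 ∣ Nat.card X) (h3 : ¬ 3 ∣ Nat.card X) (x : X)
    (hq : ∀ v ∈ fittingSubgroup X, ⁅x, ⁅x, v⁆⁆ = 1) : x ∈ fittingSubgroup X := by
  classical
  have key : ∀ q : Nat.Primes, ∃ D : Subgroup X, D.Normal ∧ x ∈ D ∧
      ∀ d ∈ D, ∃ k : ℕ, d ^ ((q : ℕ) ^ k) ∈ centralizer (pCore (q : ℕ) X : Set X) := by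
    intro q
    haveI : Fact (q : ℕ).Prime := ⟨q.2⟩
    by_cases hqd : (q : ℕ) ∣ Nat.card X
    · have hq2 : (q : ℕ) ≠ 2 := by rintro h; rw [h] at hqd; exact h2 hqd
      have hq3 : (q : ℕ) ≠ 3 := by rintro h; rw [h] at hqd; exact h3 hqd
      exact Cfsg.Agent.Lib.Helper35.PStab.pstable_D hq2
        (Cfsg.Agent.Lib.Helper53.isPSolvable_of_isSolvable (q : ℕ) hs)
        (Cfsg.Agent.Lib.Helper35.noSL_of_ne_three X hq3) (pCore (q : ℕ) X)
        (Cfsg.Agent.Lib.Helper55.pCore_isPGroup (q : ℕ)) x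
        (fun v hv => hq v (Cfsg.Agent.Lib.Helper54.pCore_le_fittingSubgroup (q : ℕ) hv))
    · refine ⟨⊤, inferInstance, Subgroup.mem_top x, ?_⟩
      intro d _
      refine ⟨0, ?_⟩
      have hbot : pCore (q : ℕ) X = ⊥ := by
        rw [← Subgroup.card_eq_one]
        obtain ⟨k, hk⟩ := IsPGroup.iff_card.1 (Cfsg.Agent.Lib.Helper55.pCore_isPGroup (G := X) (q : ℕ))
        rcases Nat.eq_zero_or_pos k with h0 | h0
        · rw [hk, h0, pow_zero]
        · exfalso
          apply hqd
          have h1 : (q : ℕ) ∣ Nat.card (pCore (q : ℕ) X) := by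
            rw [hk]; exact dvd_pow_self _ h0.ne'
          exact h1.trans (Subgroup.card_subgroup_dvd_card _)
      rw [hbot, Subgroup.mem_centralizer_iff]
      intro h hh
      have : h = 1 := Subgroup.mem_bot.1 hh
      rw [this, one_mul, mul_one]
  choose D hDn hxD hD using key
  haveI : ∀ q, (D q).Normal := hDn
  haveI : (⨅ q, D q).Normal := Subgroup.normal_iInf_normal hDn
  have hle := Cfsg.Agent.Lib.Helper32.FitDer.le_fitting_of_forall_pow_mem_centralizer (⨅ q, D q)
    (by
      intro q hq d hd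
      exact hD ⟨q, hq⟩ d (Subgroup.mem_iInf.1 hd ⟨q, hq⟩))
  exact hle (Subgroup.mem_iInf.2 hxD)

end Cfsg.Agent.Lib.Helper19.QuadFit
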