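import Mathlib
import Cfsg.Prelude.Def_LieRecognition

set_option autoImplicit false

namespace Cfsg.Agent.Lib.Helper19

open MulAction

variable {G Ω : Type*} [Group G] [MulAction G Ω] {a : Ω} {t : G} {Q : Subgroup G}

theorem two_trans (hS : Cfsg.IsRankOneSetup G Ω a t Q) {b c d e : Ω} (h : b ≠ c) (h' : d ≠ e) :
    ∃ g : G, g • b = d ∧ g • c = e :=
  (is_two_pretransitive_iff.mp hS.two_transitive) h h'

theorem ta_ne (hS : Cfsg.IsRankOneSetup G Ω a t Q) : t • a ≠ a :=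
  fun h => hS.not_mem (mem_stabilizer_iff.mpr h)

theorem t_inv (hS : Cfsg.IsRankOneSetup G Ω a t Q) : t⁻¹ = t :=
  inv_eq_of_mul_eq_one_left hS.mul_self

theorem tta (hS : Cfsg.IsRankOneSetup G Ω a t Q) : t • t • a = a := by
  rw [← mul_smul, hS.mul_self, one_smul]

theorem stab_trans (hS : Cfsg.IsRankOneSetup G Ω a t Q) {b c : Ω} (hb : b ≠ a) (hc : c ≠ a) :
    ∃ h ∈ stabilizer G a, h • b = c := by
  obtain ⟨g, h1, h2⟩ := two_trans hS (Ne.symm hb) (Ne.symm hc)
  exact ⟨g, h1, h2⟩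

theorem Q_inf_stab (hS : Cfsg.IsRankOneSetup G Ω a t Q) {b : Ω} (hb : b ≠ a) :
    Q ⊓ stabilizer G b = ⊥ := by
  obtain ⟨h, hh, hb'⟩ := stab_trans hS (ta_ne hS) hb
  rw [eq_bot_iff]
  rintro x ⟨hxQ, hxb⟩
  have hxb' : x • b = b := hxb
  have h1 : h⁻¹ * x * h ∈ Q ⊓ stabilizer G (t • a) := by
    refine ⟨?_, ?_⟩
    · simpa using hS.conj_mem h⁻¹ (inv_mem hh) x hxQ
    · show (h⁻¹ * x * h) • (t • a) = t • a
      rw [mul_smul, mul_smul, hb', hxb', ← hb', inv_smul_smul]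
  rw [hS.inf_eq_bot, Subgroup.mem_bot] at h1
  rw [Subgroup.mem_bot]
  have : x = h * (h⁻¹ * x * h) * h⁻¹ := by group
  rw [this, h1]; group

theorem Q_fix (hS : Cfsg.IsRankOneSetup G Ω a t Q) {x : G} (hx : x ∈ Q) (hx1 : x ≠ 1) {b : Ω}
    (hb : x • b = b) : b = a := by
  by_contra hne
  have : x ∈ Q ⊓ stabilizer G b := ⟨hx, hb⟩
  rw [Q_inf_stab hS hne, Subgroup.mem_bot] at this
  exact hx1 this

theorem Q_smul_a (hS : Cfsg.IsRankOneSetup G Ω a t Q) {x : G} (hx : x ∈ Q) : x • a = a :=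
  hS.le hx

theorem Q_le_normalizer (hS : Cfsg.IsRankOneSetup G Ω a t Q) :
    stabilizer G a ≤ Subgroup.normalizer (Q : Set G) := by
  intro h hh
  rw [Subgroup.mem_normalizer_iff]
  intro x
  constructor
  · intro hx; exact hS.conj_mem h hh x hx
  · intro hx
    have := hS.conj_mem h⁻¹ (inv_mem hh) _ hx
    simpa [mul_assoc] using this

theorem stab_eq_mul (hS : Cfsg.IsRankOneSetup G Ω a t Q) {h : G} (hh : h ∈ stabilizer G a) :
    ∃ x ∈ Q, ∃ d ∈ stabilizer G a ⊓ stabilizer G (t • a), h = x * d := by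
  have h1 : h ∈ ((Q ⊔ (stabilizer G a ⊓ stabilizer G (t • a)) : Subgroup G) : Set G) := by
    rw [hS.sup_eq]; exact hh
  rw [Subgroup.coe_mul_of_right_le_normalizer_left Q _
    (le_trans inf_le_left (Q_le_normalizer hS))] at h1
  obtain ⟨x, hx, d, hd, rfl⟩ := h1
  exact ⟨x, hx, d, hd, rfl⟩

theorem Q_trans_ta (hS : Cfsg.IsRankOneSetup G Ω a t Q) {b : Ω} (hb : b ≠ a) :
    ∃ x ∈ Q, x • (t • a) = b := by
  obtain ⟨h, hh, hb'⟩ := stab_trans hS (ta_ne hS) hb
  obtain ⟨x, hx, d, hd, rfl⟩ := stab_eq_mul hS hh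
  refine ⟨x, hx, ?_⟩
  have : d • (t • a) = t • a := hd.2
  rw [← hb', mul_smul, this]

theorem Q_trans (hS : Cfsg.IsRankOneSetup G Ω a t Q) {b c : Ω} (hb : b ≠ a) (hc : c ≠ a) :
    ∃ x ∈ Q, x • b = c := by
  obtain ⟨x, hx, rfl⟩ := Q_trans_ta hS hb
  obtain ⟨y, hy, rfl⟩ := Q_trans_ta hS hc
  exact ⟨y * x⁻¹, Q.mul_mem hy (Q.inv_mem hx), by rw [mul_smul, inv_smul_smul]⟩

theorem Q_regular (hS : Cfsg.IsRankOneSetup G Ω a t Q) {b c : Ω} (hb : b ≠ a) (hc : c ≠ a) :
    ∃! x : Q, (x : G) • b = c := by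
  obtain ⟨x, hx, hxb⟩ := Q_trans hS hb hc
  refine ⟨⟨x, hx⟩, hxb, ?_⟩
  rintro ⟨y, hy⟩ hyb
  have hyb' : y • b = c := hyb
  have : x⁻¹ * y ∈ Q ⊓ stabilizer G b := by
    refine ⟨Q.mul_mem (Q.inv_mem hx) hy, ?_⟩
    show (x⁻¹ * y) • b = b
    rw [mul_smul, hyb', ← hxb, inv_smul_smul]
  rw [Q_inf_stab hS hb, Subgroup.mem_bot] at this
  ext
  simp only
  rw [inv_mul_eq_one] at this
  exact this.symm

theorem Q_exists_ne_one (hS : Cfsg.IsRankOneSetup G Ω a t Q) : ∃ x ∈ Q, x ≠ 1 := by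
  by_contra hcon
  push Not at hcon
  have hbot : Q = ⊥ := by
    rw [eq_bot_iff]
    intro x hx
    rw [Subgroup.mem_bot]
    exact hcon x hx
  have h2 := hS.even_card
  rw [hbot, Subgroup.card_bot] at h2
  exact absurd h2 (by decide)

theorem pretrans (hS : Cfsg.IsRankOneSetup G Ω a t Q) : IsPretransitive G Ω :=
  haveI := hS.two_transitive
  isPretransitive_of_is_two_pretransitive

theorem Q_smul_ta_ne (hS : Cfsg.IsRankOneSetup G Ω a t Q) {x : G} (hx : x ∈ Q) {b : Ω} (hb : b ≠ a) :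
    x • b ≠ a := by
  intro h
  apply hb
  have : x⁻¹ • a = a := Q_smul_a hS (Q.inv_mem hx)
  rw [← this, ← h, inv_smul_smul]

theorem card_Omega [Finite G] (hS : Cfsg.IsRankOneSetup G Ω a t Q) :
    Nat.card Ω = Nat.card Q + 1 := by
  classical
  let f : Option Q → Ω := fun o => match o with
    | none => a
    | some x => (x : G) • (t • a)
  have hf : Function.Bijective f := by
    constructor
    · intro o o' h
      match o, o' with
      | none, none => rfl
      | none, some x =>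
        exfalso
        exact Q_smul_ta_ne hS x.2 (ta_ne hS) h.symm
      | some x, none =>
        exfalso
        exact Q_smul_ta_ne hS x.2 (ta_ne hS) h
      | some x, some y =>
        have h' : (x : G) • (t • a) = (y : G) • (t • a) := h
        obtain ⟨z, _, hz⟩ := Q_regular hS (ta_ne hS) (Q_smul_ta_ne hS y.2 (ta_ne hS))
        rw [hz x h', hz y rfl]
    · intro b
      by_cases hb : b = a
      · exact ⟨none, hb.symm⟩
      · obtain ⟨x, hx, hxb⟩ := Q_trans_ta hS hb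
        exact ⟨some ⟨x, hx⟩, hxb⟩
  rw [← Nat.card_eq_of_bijective f hf, Finite.card_option]

theorem card_stab [Finite G] (hS : Cfsg.IsRankOneSetup G Ω a t Q) :
    Nat.card (stabilizer G a) =
      Nat.card Q * Nat.card ↥(stabilizer G a ⊓ stabilizer G (t • a)) := by
  let f : Q × ↥(stabilizer G a ⊓ stabilizer G (t • a)) → stabilizer G a :=
    fun p => ⟨(p.1 : G) * (p.2 : G), (stabilizer G a).mul_mem (hS.le p.1.2) p.2.2.1⟩
  have hf : Function.Bijective f := by
    constructor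
    · rintro ⟨⟨x, hx⟩, ⟨d, hd⟩⟩ ⟨⟨x', hx'⟩, ⟨d', hd'⟩⟩ h
      have h' : x * d = x' * d' := congrArg Subtype.val h
      have h1 : x'⁻¹ * x = d' * d⁻¹ := by
        rw [inv_mul_eq_iff_eq_mul, ← mul_assoc, ← h']; group
      have h2 : x'⁻¹ * x ∈ Q ⊓ stabilizer G (t • a) := by
        refine ⟨Q.mul_mem (Q.inv_mem hx') hx, ?_⟩
        rw [h1]
        exact (stabilizer G (t • a)).mul_mem hd'.2 (inv_mem hd.2)
      rw [hS.inf_eq_bot, Subgroup.mem_bot, inv_mul_eq_one] at h2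
      subst h2
      have h3 : d = d' := mul_left_cancel h'
      subst h3
      rfl
    · rintro ⟨h, hh⟩
      obtain ⟨x, hx, d, hd, rfl⟩ := stab_eq_mul hS hh
      exact ⟨(⟨x, hx⟩, ⟨d, hd⟩), rfl⟩
  rw [← Nat.card_eq_of_bijective f hf, Nat.card_prod]

theorem card_G [Finite G] (hS : Cfsg.IsRankOneSetup G Ω a t Q) :
    Nat.card G = Nat.card Q * Nat.card ↥(stabilizer G a ⊓ stabilizer G (t • a)) *
      (Nat.card Q + 1) := by
  have := pretrans hS
  rw [← (stabilizer G a).card_mul_index, index_stabilizer_of_transitive, card_stab hS,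
    card_Omega hS]

theorem odd_card_add_one (hS : Cfsg.IsRankOneSetup G Ω a t Q) : Odd (Nat.card Q + 1) :=
  hS.even_card.add_one

theorem factorization_two [Finite G] (hS : Cfsg.IsRankOneSetup G Ω a t Q) :
    (Nat.card G).factorization 2 = (Nat.card Q).factorization 2 := by
  have hQ : Nat.card Q ≠ 0 := Nat.card_pos.ne'
  have hD : Nat.card ↥(stabilizer G a ⊓ stabilizer G (t • a)) ≠ 0 := Nat.card_pos.ne'
  rw [card_G hS, Nat.factorization_mul (mul_ne_zero hQ hD) (by omega),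
    Nat.factorization_mul hQ hD]
  have h1 : (Nat.card ↥(stabilizer G a ⊓ stabilizer G (t • a))).factorization 2 = 0 := by
    apply Nat.factorization_eq_zero_of_not_dvd
    exact hS.odd_card.not_two_dvd_nat
  have h2 : (Nat.card Q + 1).factorization 2 = 0 := by
    apply Nat.factorization_eq_zero_of_not_dvd
    exact (odd_card_add_one hS).not_two_dvd_nat
  rw [Finsupp.add_apply, Finsupp.add_apply, h1, h2, add_zero, add_zero]

theorem exists_sylow_le [Finite G] (hS : Cfsg.IsRankOneSetup G Ω a t Q) :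
    ∃ P : Sylow 2 G, (P : Subgroup G) ≤ Q := by
  have : Fact (Nat.Prime 2) := ⟨Nat.prime_two⟩
  obtain ⟨P₀⟩ : Nonempty (Sylow 2 Q) := inferInstance
  have hcard : Nat.card ((P₀ : Subgroup Q).map Q.subtype) = 2 ^ (Nat.card G).factorization 2 := by
    rw [Subgroup.card_map_of_injective Q.subtype_injective, factorization_two hS]
    exact P₀.card_eq_multiplicity
  refine ⟨Sylow.ofCard _ hcard, ?_⟩
  show (P₀ : Subgroup Q).map Q.subtype ≤ Q
  exact Subgroup.map_subtype_le _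

theorem canonical_form (hS : Cfsg.IsRankOneSetup G Ω a t Q) {g : G} (hg : g ∉ stabilizer G a) :
    ∃! p : G × G, p.1 ∈ stabilizer G a ∧ p.2 ∈ Q ∧ g = p.1 * t * p.2 := by
  have hga : g⁻¹ • a ≠ a := by
    intro h
    apply hg
    show g • a = a
    have : g • (g⁻¹ • a) = g • a := by rw [h]
    rw [smul_inv_smul] at this
    exact this.symm
  obtain ⟨y, hy, hyb⟩ := Q_trans_ta hS hga
  refine ⟨(g * y * t, y⁻¹), ⟨?_, Q.inv_mem hy, ?_⟩, ?_⟩
  · show (g * y * t) • a = a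
    rw [mul_smul, mul_smul, hyb, smul_inv_smul]
  · have := hS.mul_self
    simp only
    rw [mul_assoc (g * y), this]; group
  · rintro ⟨x, z⟩ ⟨hx, hz, hgz⟩
    simp only at hx hz hgz
    have hx' : x⁻¹ • a = a := (stabilizer G a).inv_mem hx
    have h1 : z⁻¹ • (t • a) = g⁻¹ • a := by
      rw [hgz]
      simp only [mul_inv_rev, mul_smul, hx', t_inv hS]
    have hz1 : z⁻¹ = y := by
      obtain ⟨w, _, hw⟩ := Q_regular hS (ta_ne hS) hga
      have e1 := hw ⟨z⁻¹, Q.inv_mem hz⟩ h1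
      have e2 := hw ⟨y, hy⟩ hyb
      have := e1.trans e2.symm
      exact congrArg Subtype.val this
    have hz2 : z = y⁻¹ := by rw [← hz1, inv_inv]
    subst hz2
    have hx2 : x = g * y * t := by
      rw [hgz]
      have := hS.mul_self
      have e : x * t * y⁻¹ * y * t = x * (t * t) := by group
      rw [e, this, mul_one]
    rw [hx2]

end Cfsg.Agent.Lib.Helper19
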