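import Mathlib
import Cfsg.Prelude.Def_LieRecognition
import Cfsg.Agent.Lib.Helper19.RankOne

set_option autoImplicit false

namespace Cfsg.Agent.Lib.Helper19

open MulAction

variable {G Ω : Type*} [Group G] [MulAction G Ω] {a : Ω} {t : G} {Q : Subgroup G}

theorem tta_gen (hS : Cfsg.IsRankOneSetup G Ω a t Q) (b : Ω) : t • t • b = b := by
  rw [← mul_smul, hS.mul_self, one_smul]

theorem eq_one_of_sq_of_odd {M : Type*} [Group M] [Finite M] (H : Subgroup M) (hodd : Odd (Nat.card H))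
    {d : M} (hd : d ∈ H) (h2 : d * d = 1) : d = 1 := by
  have h1 : orderOf (⟨d, hd⟩ : H) ∣ 2 := by
    apply orderOf_dvd_of_pow_eq_one
    ext
    simp [pow_two, h2]
  have h3 : orderOf (⟨d, hd⟩ : H) ∣ Nat.card H := orderOf_dvd_natCard _
  have h4 : orderOf (⟨d, hd⟩ : H) ∣ Nat.gcd 2 (Nat.card H) := Nat.dvd_gcd h1 h3
  have h5 : Nat.gcd 2 (Nat.card H) = 1 := Nat.coprime_two_left.mpr hodd
  rw [h5, Nat.dvd_one, orderOf_eq_one_iff] at h4
  exact congrArg Subtype.val h4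

theorem inv_mem_Q [Finite G] (hS : Cfsg.IsRankOneSetup G Ω a t Q) {s : G} (hs : s ∈ stabilizer G a)
    (h2 : s * s = 1) : s ∈ Q := by
  obtain ⟨x, hx, d, hd, rfl⟩ := stab_eq_mul hS hs
  have h3 : d * d = (x * (d * x * d⁻¹))⁻¹ := by
    apply eq_inv_of_mul_eq_one_right
    have : x * (d * x * d⁻¹) * (d * d) = (x * d) * (x * d) := by group
    rw [this, h2]
  have h4 : d * d ∈ Q ⊓ stabilizer G (t • a) := by
    refine ⟨?_, (stabilizer G (t • a)).mul_mem hd.2 hd.2⟩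
    rw [h3]
    exact Q.inv_mem (Q.mul_mem hx (hS.conj_mem d hd.1 x hx))
  rw [hS.inf_eq_bot, Subgroup.mem_bot] at h4
  have h5 := eq_one_of_sq_of_odd _ hS.odd_card hd h4
  rw [h5, mul_one]; exact hx

theorem fix_of_commute (hS : Cfsg.IsRankOneSetup G Ω a t Q) {s z : G} (hs : s ∈ Q) (hs1 : s ≠ 1)
    (hc : s * z = z * s) : z • a = a := by
  apply Q_fix hS hs hs1
  rw [← mul_smul, hc, mul_smul, Q_smul_a hS hs]

theorem odd_order_mul [Finite G] (hS : Cfsg.IsRankOneSetup G Ω a t Q) {s u : G}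
    (hs : s ∈ stabilizer G a) (hs1 : s ≠ 1) (hs2 : s * s = 1) (hu : u ∉ stabilizer G a)
    (hu2 : u * u = 1) : Odd (orderOf (s * u)) := by
  by_contra hodd
  rw [Nat.not_odd_iff_even] at hodd
  obtain ⟨k, hk⟩ := hodd
  have hpos : 0 < orderOf (s * u) := orderOf_pos _
  have hsQ := inv_mem_Q hS hs hs2
  set w := s * u with hw
  set z := w ^ k with hz
  have hsinv : s⁻¹ = s := inv_eq_of_mul_eq_one_left hs2
  have huinv : u⁻¹ = u := inv_eq_of_mul_eq_one_left hu2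
  have hz1 : z ≠ 1 := by
    intro h
    have := orderOf_dvd_of_pow_eq_one h
    have := Nat.le_of_dvd (by omega) this
    omega
  have hz2 : z * z = 1 := by
    rw [hz, ← pow_add, ← hk, pow_orderOf_eq_one]
  have hzinv : z⁻¹ = z := inv_eq_of_mul_eq_one_left hz2
  have hsw : s * w * s⁻¹ = w⁻¹ := by
    rw [hw, mul_inv_rev, hsinv, huinv]
    have : s * (s * u) * s = (s * s) * u * s := by group
    rw [this, hs2, one_mul]
  have huw : u * w * u⁻¹ = w⁻¹ := by
    rw [hw, mul_inv_rev, hsinv, huinv]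
    have : u * (s * u) * u = u * s * (u * u) := by group
    rw [this, hu2, mul_one]
  have hsz : s * z * s⁻¹ = z := by
    rw [hz, ← conj_pow, hsw, inv_pow, ← hz, hzinv]
  have huz : u * z * u⁻¹ = z := by
    rw [hz, ← conj_pow, huw, inv_pow, ← hz, hzinv]
  have hsz' : s * z = z * s := by
    have := congrArg (· * s) hsz
    simpa [mul_assoc] using this
  have huz' : z * u = u * z := by
    have := congrArg (· * u) huz
    simp only [inv_mul_cancel_right] at this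
    exact this.symm
  have hza : z • a = a := fix_of_commute hS hsQ hs1 hsz'
  have hzQ := inv_mem_Q hS (show z ∈ stabilizer G a from hza) hz2
  have hua : u • a = a := fix_of_commute hS hzQ hz1 huz'
  exact hu hua

theorem conj_of_odd_order [Finite G] {s u : G} (hs2 : s * s = 1) (hu2 : u * u = 1)
    (hodd : Odd (orderOf (s * u))) : ∃ g : G, g * u * g⁻¹ = s := by
  obtain ⟨k, hk⟩ := hodd
  set w := s * u with hw
  have hsinv : s⁻¹ = s := inv_eq_of_mul_eq_one_left hs2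
  have huinv : u⁻¹ = u := inv_eq_of_mul_eq_one_left hu2
  have huw : u * w⁻¹ * u⁻¹ = w := by
    rw [hw, mul_inv_rev, hsinv, huinv]
    have : u * (u * s) * u = (u * u) * s * u := by group
    rw [this, hu2, one_mul]
  refine ⟨w ^ (k + 1), ?_⟩
  have h1 : u * (w ^ (k + 1))⁻¹ * u⁻¹ = w ^ (k + 1) := by
    rw [← inv_pow, ← conj_pow, huw]
  have h2 : u * (w ^ (k + 1))⁻¹ = w ^ (k + 1) * u := mul_inv_eq_iff_eq_mul.mp h1
  have h3 : w ^ (k + 1) * u * (w ^ (k + 1))⁻¹ = w ^ (k + 1) * w ^ (k + 1) * u := by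
    rw [mul_assoc, h2, ← mul_assoc]
  rw [h3, ← pow_add]
  have h4 : k + 1 + (k + 1) = orderOf w + 1 := by omega
  rw [h4, pow_succ, pow_orderOf_eq_one, one_mul, hw, mul_assoc, hu2, mul_one]

theorem exists_fixed_of_invol [Finite G] (hS : Cfsg.IsRankOneSetup G Ω a t Q) {u : G}
    (hu2 : u * u = 1) : ∃ b : Ω, u • b = b := by
  have : Fact (Nat.Prime 2) := ⟨Nat.prime_two⟩
  have hP : IsPGroup 2 (Subgroup.zpowers u) := by
    intro g
    obtain ⟨g, hg⟩ := g
    obtain ⟨n, rfl⟩ := Subgroup.mem_zpowers_iff.mp hg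
    refine ⟨1, ?_⟩
    ext
    simp only [pow_one, SubmonoidClass.mk_pow, Subgroup.coe_one]
    rw [pow_two, ← zpow_add, ← two_mul, zpow_mul, zpow_two, hu2, one_zpow]
  have hcard : ¬ 2 ∣ Nat.card Ω := by
    rw [card_Omega hS]
    exact (odd_card_add_one hS).not_two_dvd_nat
  obtain ⟨b, hb⟩ := hP.nonempty_fixed_point_of_prime_not_dvd_card Ω hcard
  exact ⟨b, hb ⟨u, Subgroup.mem_zpowers u⟩⟩

theorem conj_t [Finite G] (hS : Cfsg.IsRankOneSetup G Ω a t Q) {u : G} (hu1 : u ≠ 1)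
    (hu2 : u * u = 1) : ∃ g : G, g * u * g⁻¹ = t := by
  obtain ⟨b, hb⟩ := exists_fixed_of_invol hS hu2
  have := pretrans hS
  obtain ⟨h, hh⟩ := exists_smul_eq G b a
  set s := h * u * h⁻¹ with hs
  have hsa : s ∈ stabilizer G a := by
    show s • a = a
    rw [hs, mul_smul, mul_smul, ← hh, inv_smul_smul, hb]
  have hs1 : s ≠ 1 := by
    intro h1
    apply hu1
    have : u = h⁻¹ * s * h := by rw [hs]; group
    rw [this, h1]; group
  have hs2 : s * s = 1 := by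
    have : s * s = h * (u * u) * h⁻¹ := by rw [hs]; group
    rw [this, hu2]; group
  have hodd := odd_order_mul hS hsa hs1 hs2 hS.not_mem hS.mul_self
  obtain ⟨g, hg⟩ := conj_of_odd_order hs2 hS.mul_self hodd
  -- g * t * g⁻¹ = s = h * u * h⁻¹
  refine ⟨g⁻¹ * h, ?_⟩
  have : g⁻¹ * h * u * (g⁻¹ * h)⁻¹ = g⁻¹ * s * g := by rw [hs]; group
  rw [this, ← hg]; group

theorem invol_conj [Finite G] (hS : Cfsg.IsRankOneSetup G Ω a t Q) {u v : G} (hu1 : u ≠ 1)
    (hu2 : u * u = 1) (hv1 : v ≠ 1) (hv2 : v * v = 1) : ∃ g : G, g * u * g⁻¹ = v := by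
  obtain ⟨g, hg⟩ := conj_t hS hu1 hu2
  obtain ⟨h, hh⟩ := conj_t hS hv1 hv2
  refine ⟨h⁻¹ * g, ?_⟩
  have : h⁻¹ * g * u * (h⁻¹ * g)⁻¹ = h⁻¹ * (g * u * g⁻¹) * h := by group
  rw [this, hg, ← hh]; group

end Cfsg.Agent.Lib.Helper19
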