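import Mathlib
import Cfsg.Prelude.Def_LieRecognition
import Cfsg.Agent.Lib.Helper19.RankOneInv

set_option autoImplicit false

namespace Cfsg.Agent.Lib.Helper19

open MulAction

variable {G Ω : Type*} [Group G] [MulAction G Ω] {a : Ω} {t : G} {Q : Subgroup G}

/-- reflection conjugating `s` to `v` in a dihedral group of twice odd order -/
theorem exists_invol_conj [Finite G] {s v : G} (hs2 : s * s = 1) (hv2 : v * v = 1)
    (hodd : Odd (orderOf (s * v))) : ∃ u : G, u * u = 1 ∧ u * s * u = v := by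
  obtain ⟨m, hm⟩ := hodd
  set w := s * v with hw
  have hsinv : s⁻¹ = s := inv_eq_of_mul_eq_one_left hs2
  have hvinv : v⁻¹ = v := inv_eq_of_mul_eq_one_left hv2
  have hsw : s * w * s⁻¹ = w⁻¹ := by
    rw [hw, mul_inv_rev, hsinv, hvinv]
    have : s * (s * v) * s = (s * s) * v * s := by group
    rw [this, hs2, one_mul]
  have hsw' : s * w ^ (m + 1) * s = (w ^ (m + 1))⁻¹ := by
    have := conj_pow (a := s) (b := w) (i := m + 1)
    rw [hsw, inv_pow, hsinv] at this
    exact this.symm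
  have hww : w ^ (m + 1) * w ^ (m + 1) = w := by
    rw [← pow_add]
    have : m + 1 + (m + 1) = orderOf w + 1 := by omega
    rw [this, pow_succ, pow_orderOf_eq_one, one_mul]
  refine ⟨s * w ^ (m + 1), ?_, ?_⟩
  · have : s * w ^ (m + 1) * (s * w ^ (m + 1)) = (s * w ^ (m + 1) * s) * w ^ (m + 1) := by group
    rw [this, hsw', inv_mul_cancel]
  · have : s * w ^ (m + 1) * s * (s * w ^ (m + 1)) = s * w ^ (m + 1) * (s * s) * w ^ (m + 1) := by
      group
    rw [this, hs2, mul_one, mul_assoc, hww, hw, ← mul_assoc, hs2, one_mul]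

theorem conj_by_inverted [Finite G] (hS : Cfsg.IsRankOneSetup G Ω a t Q) {s s' : G}
    (hs : s ∈ Cfsg.involutionsIn (stabilizer G a : Set G))
    (hs' : s' ∈ Cfsg.involutionsIn (stabilizer G a : Set G)) :
    ∃ k ∈ Cfsg.invertedBy (stabilizer G a ⊓ stabilizer G (t • a)) t, k⁻¹ * s * k = s' := by
  obtain ⟨hsa, hs1, hs2⟩ := hs
  obtain ⟨hs'a, hs'1, hs'2⟩ := hs'
  have htt := hS.mul_self
  have htinv := t_inv hS
  have hs'Q := inv_mem_Q hS hs'a hs'2
  set v := t * s' * t with hv
  have hv2 : v * v = 1 := by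
    rw [hv]
    have : t * s' * t * (t * s' * t) = t * s' * (t * t) * s' * t := by group
    rw [this, htt, mul_one, mul_assoc t, hs'2, mul_one, htt]
  have hva : v ∉ stabilizer G a := by
    intro h
    have h1 : v • a = a := h
    rw [hv, mul_smul, mul_smul] at h1
    have h2 : s' • (t • a) = t • a := by
      have := congrArg (t • ·) h1
      beta_reduce at this
      rw [tta_gen hS] at this
      exact this
    exact ta_ne hS (Q_fix hS hs'Q hs'1 h2)
  have hodd := odd_order_mul hS hsa hs1 hs2 hva hv2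
  obtain ⟨u, hu2, hus⟩ := exists_invol_conj hs2 hv2 hodd
  have huinv : u⁻¹ = u := inv_eq_of_mul_eq_one_left hu2
  -- t u a = a
  have h1 : s' • ((t * u) • a) = (t * u) • a := by
    have e : s' * (t * u) = t * u * s := by
      have e1 : s' = t * v * t := by
        rw [hv]
        have : t * (t * s' * t) * t = (t * t) * s' * (t * t) := by group
        rw [this, htt]; group
      rw [e1, ← hus]
      have : t * (u * s * u) * t * (t * u) = t * u * s * u * (t * t) * u := by group
      rw [this, htt, mul_one, mul_assoc (t * u * s), hu2, mul_one]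
    rw [← mul_smul, e, mul_smul, show s • a = a from hsa]
  have h2 : (t * u) • a = a := Q_fix hS hs'Q hs'1 h1
  have hua : u • a = t • a := by
    rw [mul_smul] at h2
    have := congrArg (t • ·) h2
    beta_reduce at this
    rw [tta_gen hS] at this
    exact this
  have hub : u • (t • a) = a := by
    rw [← hua, ← mul_smul, hu2, one_smul]
  refine ⟨u * t, ⟨⟨?_, ?_⟩, ?_⟩, ?_⟩
  · show (u * t) • a = a
    rw [mul_smul, hub]
  · show (u * t) • (t • a) = t • a
    rw [mul_smul, tta hS, hua]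
  · rw [htinv, mul_inv_rev, htinv, huinv]
    have : t * (u * t) * t = t * u * (t * t) := by group
    rw [this, htt, mul_one]
  · rw [mul_inv_rev, htinv, huinv]
    have : t * u * s * (u * t) = t * (u * s * u) * t := by group
    rw [this, hus, hv]
    have : t * (t * s' * t) * t = (t * t) * s' * (t * t) := by group
    rw [this, htt]; group

theorem card_inverted_le [Finite G] (hS : Cfsg.IsRankOneSetup G Ω a t Q) :
    Nat.card (Cfsg.invertedBy (stabilizer G a ⊓ stabilizer G (t • a)) t) ≤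
      Nat.card (Cfsg.involutionsIn (stabilizer G a : Set G)) := by
  have htt := hS.mul_self
  have htinv := t_inv hS
  obtain ⟨c, hc⟩ := exists_fixed_of_invol hS htt
  have hca : c ≠ a := by
    intro h
    rw [h] at hc
    exact ta_ne hS hc
  have := pretrans hS
  obtain ⟨g₀, hg₀⟩ := exists_smul_eq G a c
  have hg₀' : g₀⁻¹ • c = a := by rw [← hg₀, inv_smul_smul]
  have key : ∀ k : Cfsg.invertedBy (stabilizer G a ⊓ stabilizer G (t • a)) t,
      ∃ s : G, s ∈ Cfsg.involutionsIn (stabilizer G a : Set G) ∧ ∃ x ∈ Q,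
        s = g₀⁻¹ * x * (t * k) * x⁻¹ * g₀ := by
    rintro ⟨k, ⟨hka, hkb⟩, hkinv⟩
    have hka' : k • a = a := hka
    rw [htinv] at hkinv
    have hu2 : (t * k) * (t * k) = 1 := by
      have : t * k * (t * k) = (t * k * t) * k := by group
      rw [this, hkinv, inv_mul_cancel]
    have hu1 : t * k ≠ 1 := by
      intro h
      have : (t * k) • a = a := by rw [h, one_smul]
      rw [mul_smul, hka'] at this
      exact ta_ne hS this
    obtain ⟨e, he⟩ := exists_fixed_of_invol hS hu2
    have hea : e ≠ a := by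
      intro h
      rw [h, mul_smul, hka'] at he
      exact ta_ne hS he
    obtain ⟨x, hxQ, hx⟩ := Q_trans hS hea hca
    have hx' : x⁻¹ • c = e := by rw [← hx, inv_smul_smul]
    refine ⟨g₀⁻¹ * x * (t * k) * x⁻¹ * g₀, ⟨?_, ?_, ?_⟩, x, hxQ, rfl⟩
    · show (g₀⁻¹ * x * (t * k) * x⁻¹ * g₀) • a = a
      simp only [mul_smul]
      rw [hg₀, hx', ← mul_smul t k, he, hx, hg₀']
    · intro h
      apply hu1
      have : t * k = x⁻¹ * g₀ * (g₀⁻¹ * x * (t * k) * x⁻¹ * g₀) * g₀⁻¹ * x := by group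
      rw [this, h]; group
    · have : g₀⁻¹ * x * (t * k) * x⁻¹ * g₀ * (g₀⁻¹ * x * (t * k) * x⁻¹ * g₀)
          = g₀⁻¹ * x * ((t * k) * (t * k)) * x⁻¹ * g₀ := by group
      rw [this, hu2]; group
  choose ψ hψ1 x hxQ hψ2 using key
  let f : Cfsg.invertedBy (stabilizer G a ⊓ stabilizer G (t • a)) t →
      Cfsg.involutionsIn (stabilizer G a : Set G) := fun k => ⟨ψ k, hψ1 k⟩
  apply Nat.card_le_card_of_injective f
  intro k k' hkk
  have h1 : ψ k = ψ k' := congrArg Subtype.val hkk
  rw [hψ2 k, hψ2 k'] at h1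
  have h2 : x k * (t * (k : G)) * (x k)⁻¹ = x k' * (t * (k' : G)) * (x k')⁻¹ := by
    have e1 : x k * (t * (k : G)) * (x k)⁻¹
        = g₀ * (g₀⁻¹ * x k * (t * (k : G)) * (x k)⁻¹ * g₀) * g₀⁻¹ := by group
    rw [e1, h1]; group
  have h3 : ∀ k : Cfsg.invertedBy (stabilizer G a ⊓ stabilizer G (t • a)) t,
      (x k * (t * (k : G)) * (x k)⁻¹) • a = x k • (t • a) := by
    intro k
    have hka : (k : G) • a = a := k.2.1.1
    simp only [mul_smul]
    rw [Q_smul_a hS (Q.inv_mem (hxQ k)), hka]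
  have h4 : x k • (t • a) = x k' • (t • a) := by rw [← h3 k, ← h3 k', h2]
  have h5 : x k = x k' := by
    obtain ⟨w, _, hw⟩ := Q_regular hS (ta_ne hS) (Q_smul_ta_ne hS (hxQ k') (ta_ne hS))
    have e1 := hw ⟨x k, hxQ k⟩ h4
    have e2 := hw ⟨x k', hxQ k'⟩ rfl
    exact congrArg Subtype.val (e1.trans e2.symm)
  rw [h5] at h2
  have h6 : t * (k : G) = t * (k' : G) := by
    have := mul_right_cancel h2
    exact mul_left_cancel this
  exact Subtype.ext (mul_left_cancel h6)

theorem involutionsIn_nonempty [Finite G] (hS : Cfsg.IsRankOneSetup G Ω a t Q) :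
    ∃ s : G, s ∈ Cfsg.involutionsIn (stabilizer G a : Set G) := by
  have htt := hS.mul_self
  obtain ⟨c, hc⟩ := exists_fixed_of_invol hS htt
  have := pretrans hS
  obtain ⟨g₀, hg₀⟩ := exists_smul_eq G a c
  have hg₀' : g₀⁻¹ • c = a := by rw [← hg₀, inv_smul_smul]
  refine ⟨g₀⁻¹ * t * g₀, ?_, ?_, ?_⟩
  · show (g₀⁻¹ * t * g₀) • a = a
    simp only [mul_smul]
    rw [hg₀, hc, hg₀']
  · intro h
    apply hS.ne_one
    have : t = g₀ * (g₀⁻¹ * t * g₀) * g₀⁻¹ := by group
    rw [this, h]; group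
  · have : g₀⁻¹ * t * g₀ * (g₀⁻¹ * t * g₀) = g₀⁻¹ * (t * t) * g₀ := by group
    rw [this, htt]; group

theorem card_inverted_eq [Finite G] (hS : Cfsg.IsRankOneSetup G Ω a t Q) :
    Nat.card (Cfsg.invertedBy (stabilizer G a ⊓ stabilizer G (t • a)) t) =
      Nat.card (Cfsg.involutionsIn (stabilizer G a : Set G)) := by
  apply le_antisymm (card_inverted_le hS)
  obtain ⟨s₀, hs₀⟩ := involutionsIn_nonempty hS
  have key : ∀ s : Cfsg.involutionsIn (stabilizer G a : Set G),
      ∃ k : Cfsg.invertedBy (stabilizer G a ⊓ stabilizer G (t • a)) t,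
        (k : G)⁻¹ * s₀ * k = s := by
    rintro ⟨s, hs⟩
    obtain ⟨k, hk, hks⟩ := conj_by_inverted hS hs₀ hs
    exact ⟨⟨k, hk⟩, hks⟩
  let f : Cfsg.invertedBy (stabilizer G a ⊓ stabilizer G (t • a)) t →
      Cfsg.involutionsIn (stabilizer G a : Set G) := fun k =>
    ⟨(k : G)⁻¹ * s₀ * k, by
      obtain ⟨hsa, hs1, hs2⟩ := hs₀
      have hka : (k : G) • a = a := k.2.1.1
      have hka' : (k : G)⁻¹ • a = a := by
        have := congrArg ((k : G)⁻¹ • ·) hka
        beta_reduce at this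
        rw [inv_smul_smul] at this
        exact this.symm
      refine ⟨?_, ?_, ?_⟩
      · show ((k : G)⁻¹ * s₀ * k) • a = a
        simp only [mul_smul]
        rw [hka, show s₀ • a = a from hsa, hka']
      · intro h
        apply hs1
        have : s₀ = (k : G) * ((k : G)⁻¹ * s₀ * k) * (k : G)⁻¹ := by group
        rw [this, h]; group
      · have : (k : G)⁻¹ * s₀ * k * ((k : G)⁻¹ * s₀ * k) = (k : G)⁻¹ * (s₀ * s₀) * k := by group
        rw [this, hs2]; group⟩
  apply Nat.card_le_card_of_surjective f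
  intro s
  obtain ⟨k, hk⟩ := key s
  exact ⟨k, Subtype.ext hk⟩

end Cfsg.Agent.Lib.Helper19
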