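import Mathlib
import Cfsg.Prelude.Def_LieRecognition
import Cfsg.Agent.Lib.Helper19.RankOneK
import Cfsg.Agent.Lib.Helper19.InvAct

set_option autoImplicit false

namespace Cfsg.Agent.Lib.Helper19

open MulAction

variable {G Ω : Type*} [Group G] [MulAction G Ω] {a : Ω} {t : G} {Q : Subgroup G}

/-- the two point stabiliser -/
abbrev DD (G : Type*) {Ω : Type*} [Group G] [MulAction G Ω] (a : Ω) (t : G) : Subgroup G :=
  stabilizer G a ⊓ stabilizer G (t • a)

theorem D_norm (hS : Cfsg.IsRankOneSetup G Ω a t Q) : ∀ x ∈ DD G a t, t * x * t⁻¹ ∈ DD G a t := by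
  rintro x ⟨hxa, hxb⟩
  have hxa' : x • a = a := hxa
  have hxb' : x • (t • a) = t • a := hxb
  rw [t_inv hS]
  constructor
  · show (t * x * t) • a = a
    simp only [mul_smul]
    rw [hxb', tta hS]
  · show (t * x * t) • (t • a) = t • a
    simp only [mul_smul]
    rw [tta hS, hxa']

theorem one_mem_inverted (t : G) (X : Subgroup G) : (1 : G) ∈ Cfsg.invertedBy X t :=
  ⟨X.one_mem, by simp⟩

theorem invol_fix_unique [Finite G] (hS : Cfsg.IsRankOneSetup G Ω a t Q) {u : G} (hu1 : u ≠ 1)
    (hu2 : u * u = 1) {c c' : Ω} (hc : u • c = c) (hc' : u • c' = c') : c = c' := by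
  have := pretrans hS
  obtain ⟨g, hg⟩ := exists_smul_eq G c a
  have hg' : g⁻¹ • a = c := by rw [← hg, inv_smul_smul]
  set s := g * u * g⁻¹ with hs
  have hsa : s • a = a := by
    rw [hs]; simp only [mul_smul]; rw [hg', hc, hg]
  have hs1 : s ≠ 1 := by
    intro h
    apply hu1
    have : u = g⁻¹ * s * g := by rw [hs]; group
    rw [this, h]; group
  have hs2 : s * s = 1 := by
    have : s * s = g * (u * u) * g⁻¹ := by rw [hs]; group
    rw [this, hu2]; group
  have hsQ := inv_mem_Q hS (show s ∈ stabilizer G a from hsa) hs2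
  have h1 : s • (g • c') = g • c' := by
    rw [hs]; simp only [mul_smul]; rw [inv_smul_smul, hc']
  have h2 := Q_fix hS hsQ hs1 h1
  have h3 : g • c' = g • c := by rw [h2, hg]
  exact (smul_left_cancel g h3).symm

theorem dist_smul [Finite G] (hS : Cfsg.IsRankOneSetup G Ω a t Q) {s r : G} {c : Ω}
    (hs : s ∈ Cfsg.involutionsIn (stabilizer G a : Set G)) (heq : t * s * t = r⁻¹ * t * r)
    (hc : t • c = c) : r • (t • a) = c := by
  obtain ⟨hsa, hs1, hs2⟩ := hs
  have htt := hS.mul_self
  have hsQ : s ∈ Q := inv_mem_Q hS hsa hs2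
  have h1 : s • (t • (r⁻¹ • c)) = t • (r⁻¹ • c) := by
    have e : s = t * (r⁻¹ * t * r) * t := by
      rw [← heq]
      have : t * (t * s * t) * t = (t * t) * s * (t * t) := by group
      rw [this, htt]; group
    have : s • (t • (r⁻¹ • c)) = (t * (r⁻¹ * t * r) * t) • (t • (r⁻¹ • c)) := by rw [← e]
    rw [this]
    simp only [mul_smul]
    rw [tta_gen hS, smul_inv_smul, hc]
  have h2 : t • (r⁻¹ • c) = a := Q_fix hS hsQ hs1 h1
  have h3 : r⁻¹ • c = t • a := by rw [← h2, tta_gen hS]
  rw [← h3, smul_inv_smul]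

theorem cent_t_le [Finite G] (hS : Cfsg.IsRankOneSetup G Ω a t Q) {s r : G}
    (hs : s ∈ Cfsg.involutionsIn (stabilizer G a : Set G)) (hr : r ∈ Q)
    (heq : t * s * t = r⁻¹ * t * r) {d : G} (hd : d ∈ DD G a t) (hdt : t * d = d * t) :
    d * r = r * d ∧ d * s = s * d := by
  have htt := hS.mul_self
  obtain ⟨c, hc⟩ := exists_fixed_of_invol hS htt
  have hca : c ≠ a := by
    intro h
    rw [h] at hc
    exact ta_ne hS hc
  have hdc : d • c = c := by
    have : t • (d • c) = d • c := by rw [← mul_smul, hdt, mul_smul, hc]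
    exact invol_fix_unique hS hS.ne_one htt this hc
  have hrb := dist_smul hS hs heq hc
  have hdb : d⁻¹ • (t • a) = t • a := by
    have : d • (t • a) = t • a := hd.2
    have := congrArg (d⁻¹ • ·) this
    beta_reduce at this
    rw [inv_smul_smul] at this
    exact this.symm
  have h1 : (d * r * d⁻¹) • (t • a) = c := by
    simp only [mul_smul]
    rw [hdb, hrb, hdc]
  have h2 : d * r * d⁻¹ = r := by
    obtain ⟨w, _, hw⟩ := Q_regular hS (ta_ne hS) hca
    have e1 := hw ⟨d * r * d⁻¹, hS.conj_mem d hd.1 r hr⟩ h1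
    have e2 := hw ⟨r, hr⟩ hrb
    exact congrArg Subtype.val (e1.trans e2.symm)
  have h3 : d * r = r * d := by
    have := congrArg (· * d) h2
    simpa using this
  refine ⟨h3, ?_⟩
  have e : s = t * (r⁻¹ * t * r) * t := by
    rw [← heq]
    have : t * (t * s * t) * t = (t * t) * s * (t * t) := by group
    rw [this, htt]; group
  have c1 : Commute d t := hdt.symm
  have c2 : Commute d r := h3
  have c3 : Commute d (t * (r⁻¹ * t * r) * t) :=
    ((c1.mul_right ((c2.inv_right.mul_right c1).mul_right c2)).mul_right c1)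
  rw [e]
  exact c3

theorem conj_mem_inv (_hS : Cfsg.IsRankOneSetup G Ω a t Q) {d s : G} (hd : d ∈ stabilizer G a)
    (hs : s ∈ Cfsg.involutionsIn (stabilizer G a : Set G)) :
    d⁻¹ * s * d ∈ Cfsg.involutionsIn (stabilizer G a : Set G) := by
  obtain ⟨hsa, hs1, hs2⟩ := hs
  have hda : d • a = a := hd
  have hda' : d⁻¹ • a = a := by
    have := congrArg (d⁻¹ • ·) hda
    beta_reduce at this
    rw [inv_smul_smul] at this
    exact this.symm
  refine ⟨?_, ?_, ?_⟩
  · show (d⁻¹ * s * d) • a = a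
    simp only [mul_smul]
    rw [hda, show s • a = a from hsa, hda']
  · intro h
    apply hs1
    have : s = d * (d⁻¹ * s * d) * d⁻¹ := by group
    rw [this, h]; group
  · have : d⁻¹ * s * d * (d⁻¹ * s * d) = d⁻¹ * (s * s) * d := by group
    rw [this, hs2]; group

/-- conjugation map from the inverted set onto the involutions of the stabiliser -/
def conjMap (hS : Cfsg.IsRankOneSetup G Ω a t Q) (s₀ : G)
    (hs₀ : s₀ ∈ Cfsg.involutionsIn (stabilizer G a : Set G)) :
    Cfsg.invertedBy (DD G a t) t → Cfsg.involutionsIn (stabilizer G a : Set G) :=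
  fun k => ⟨(k : G)⁻¹ * s₀ * k, conj_mem_inv hS k.2.1.1 hs₀⟩

theorem conjMap_bijective [Finite G] (hS : Cfsg.IsRankOneSetup G Ω a t Q) (s₀ : G)
    (hs₀ : s₀ ∈ Cfsg.involutionsIn (stabilizer G a : Set G)) :
    Function.Bijective (conjMap hS s₀ hs₀) := by
  apply Function.Surjective.bijective_of_nat_card_le
  · rintro ⟨s, hs⟩
    obtain ⟨k, hk, hks⟩ := conj_by_inverted hS hs₀ hs
    exact ⟨⟨k, hk⟩, Subtype.ext hks⟩
  · exact (card_inverted_eq hS).le

theorem inverted_comm_eq_one [Finite G] (hS : Cfsg.IsRankOneSetup G Ω a t Q) {s k : G}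
    (hs : s ∈ Cfsg.involutionsIn (stabilizer G a : Set G))
    (hk : k ∈ Cfsg.invertedBy (DD G a t) t) (hks : k * s = s * k) : k = 1 := by
  have hinj := (conjMap_bijective hS s hs).1
  have h1 : conjMap hS s hs ⟨k, hk⟩ = conjMap hS s hs ⟨1, one_mem_inverted t _⟩ := by
    apply Subtype.ext
    show k⁻¹ * s * k = (1 : G)⁻¹ * s * 1
    rw [mul_assoc, ← hks]; group
  exact congrArg Subtype.val (hinj h1)

theorem cent_s_le [Finite G] (hS : Cfsg.IsRankOneSetup G Ω a t Q) {s r : G}
    (hs : s ∈ Cfsg.involutionsIn (stabilizer G a : Set G)) (hr : r ∈ Q)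
    (heq : t * s * t = r⁻¹ * t * r) {d : G} (hd : d ∈ DD G a t) (hds : d * s = s * d) :
    t * d = d * t := by
  have htt := hS.mul_self
  obtain ⟨⟨y, k⟩, ⟨hy, hk, hde⟩, _⟩ :=
    decomp_exists_unique t htt (DD G a t) hS.odd_card (D_norm hS) d hd
  simp only at hy hk hde
  have hyt : t * y = y * t := mem_centralizer_singleton.mp hy.2
  have hys := (cent_t_le hS hs hr heq hy.1 hyt).2
  have hk' : k = y⁻¹ * d := by rw [hde]; group
  have hks : k * s = s * k := by
    have c1 : Commute y s := hys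
    have c2 : Commute d s := hds
    have c3 : Commute (y⁻¹ * d) s := c1.inv_left.mul_left c2
    rw [hk']; exact c3
  have hk1 := inverted_comm_eq_one hS hs hk hks
  rw [hde, hk1, mul_one]
  exact hyt

end Cfsg.Agent.Lib.Helper19
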