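import Mathlib
import Cfsg.Prelude.Def_LieRecognition
import Cfsg.Agent.Lib.Helper19.RankOneC

set_option autoImplicit false

namespace Cfsg.Agent.Lib.Helper19

open MulAction

variable {G Ω : Type*} [Group G] [MulAction G Ω] {a : Ω} {t : G} {Q : Subgroup G}

theorem conj_invol {g u : G} (hu1 : u ≠ 1) (hu2 : u * u = 1) :
    g * u * g⁻¹ ≠ 1 ∧ (g * u * g⁻¹) * (g * u * g⁻¹) = 1 := by
  constructor
  · intro h
    apply hu1
    have : u = g⁻¹ * (g * u * g⁻¹) * g := by group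
    rw [this, h]; group
  · have : g * u * g⁻¹ * (g * u * g⁻¹) = g * (u * u) * g⁻¹ := by group
    rw [this, hu2]; group

theorem exists_comm_invol_in_stab [Finite G] (hS : Cfsg.IsRankOneSetup G Ω a t Q)
    (h2 : ∃ x y : G, x ≠ 1 ∧ y ≠ 1 ∧ x ≠ y ∧ x * x = 1 ∧ y * y = 1 ∧ x * y = y * x) :
    ∃ x y : G, x ∈ Cfsg.involutionsIn (stabilizer G a : Set G) ∧
      y ∈ Cfsg.involutionsIn (stabilizer G a : Set G) ∧ x ≠ y ∧ x * y = y * x := by
  obtain ⟨x, y, hx1, hy1, hxy, hx2, hy2, hc⟩ := h2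
  obtain ⟨f, hf⟩ := exists_fixed_of_invol hS hx2
  have hyf : y • f = f := by
    have : x • (y • f) = y • f := by rw [← mul_smul, hc, mul_smul, hf]
    exact invol_fix_unique hS hx1 hx2 this hf
  have := pretrans hS
  obtain ⟨g, hg⟩ := exists_smul_eq G f a
  have hg' : g⁻¹ • a = f := by rw [← hg, inv_smul_smul]
  refine ⟨g * x * g⁻¹, g * y * g⁻¹, ⟨?_, (conj_invol hx1 hx2).1, (conj_invol hx1 hx2).2⟩,
    ⟨?_, (conj_invol hy1 hy2).1, (conj_invol hy1 hy2).2⟩, ?_, ?_⟩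
  · show (g * x * g⁻¹) • a = a
    simp only [mul_smul]; rw [hg', hf, hg]
  · show (g * y * g⁻¹) • a = a
    simp only [mul_smul]; rw [hg', hyf, hg]
  · intro h
    apply hxy
    have e : x = g⁻¹ * (g * x * g⁻¹) * g := by group
    rw [e, h]; group
  · have e1 : g * x * g⁻¹ * (g * y * g⁻¹) = g * (x * y) * g⁻¹ := by group
    have e2 : g * y * g⁻¹ * (g * x * g⁻¹) = g * (y * x) * g⁻¹ := by group
    rw [e1, e2, hc]

/-- a normal subgroup of odd order fixes `a` (given two commuting involutions) -/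
theorem odd_normal_le_stab [Finite G] (hS : Cfsg.IsRankOneSetup G Ω a t Q)
    (h2 : ∃ x y : G, x ≠ 1 ∧ y ≠ 1 ∧ x ≠ y ∧ x * x = 1 ∧ y * y = 1 ∧ x * y = y * x)
    (M : Subgroup G) [hM : M.Normal] (hodd : Odd (Nat.card M)) : M ≤ stabilizer G a := by
  obtain ⟨x, y, ⟨hxa, hx1, hx2⟩, ⟨hya, hy1, hy2⟩, hxy, hc⟩ := exists_comm_invol_in_stab hS h2
  intro m hm
  by_contra hma
  have hma' : m • a ≠ a := hma
  obtain ⟨x', hx'⟩ : ∃ x' : G, x' = m * x * m⁻¹ := ⟨_, rfl⟩
  have hx'2 : x' ≠ 1 ∧ x' * x' = 1 := by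
    rw [hx']; exact conj_invol (g := m) hx1 hx2
  have hx'a : x' ∉ stabilizer G a := by
    intro h
    have h1 : x' • a = a := h
    have h3 : x' • (m • a) = m • a := by
      rw [hx']; simp only [mul_smul]; rw [inv_smul_smul, show x • a = a from hxa]
    exact hma' (invol_fix_unique hS hx'2.1 hx'2.2 h3 h1)
  have hodd' := odd_order_mul hS hya hy1 hy2 hx'a hx'2.2
  obtain ⟨n, hn⟩ := hodd'
  -- work in the quotient
  let π := QuotientGroup.mk' M
  have hπm : π m = 1 := (QuotientGroup.eq_one_iff m).mpr hm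
  have hπx' : π x' = π x := by
    rw [hx', map_mul, map_mul, map_inv, hπm]; simp
  have h1 : π ((y * x') ^ (2 * n + 1)) = π ((y * x) ^ (2 * n + 1)) := by
    rw [map_pow, map_pow, map_mul, map_mul, hπx']
  rw [← hn, pow_orderOf_eq_one, map_one] at h1
  have hyx2 : (y * x) * (y * x) = 1 := by
    have : y * x * (y * x) = y * (x * y) * x := by group
    rw [this, hc]
    have : y * (y * x) * x = (y * y) * (x * x) := by group
    rw [this, hx2, hy2, one_mul]
  have h3 : (y * x) ^ (2 * n + 1) = y * x := by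
    rw [pow_succ, pow_mul, pow_two, hyx2, one_pow, one_mul]
  rw [hn, h3] at h1
  have hyxM : y * x ∈ M := (QuotientGroup.eq_one_iff (y * x)).mp h1.symm
  have h4 := eq_one_of_sq_of_odd M hodd hyxM hyx2
  apply hxy
  have : x = y⁻¹ := eq_inv_of_mul_eq_one_right h4
  rw [this]
  exact inv_eq_of_mul_eq_one_left hy2

end Cfsg.Agent.Lib.Helper19
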