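import Mathlib
import Cfsg.Prelude.Def_LieRecognition
import Cfsg.Agent.Lib.Helper19.RankOneC

set_option autoImplicit false

namespace Cfsg.Agent.Lib.Helper19

open MulAction

variable {G Ω : Type*} [Group G] [MulAction G Ω] {a : Ω} {t : G} {Q : Subgroup G}

theorem inv_smul_of_smul {g : G} {f : Ω} (h : g • f = f) : g⁻¹ • f = f := by
  have := congrArg (g⁻¹ • ·) h
  beta_reduce at this
  rw [inv_smul_smul] at this
  exact this.symm

theorem cent_preserves {X : Set G} {g : G} (hg : g ∈ Subgroup.centralizer X) {f : Ω}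
    (hf : ∀ x ∈ X, x • f = f) : ∀ x ∈ X, x • (g • f) = g • f := by
  intro x hx
  have := Subgroup.mem_centralizer_iff.mp hg x hx
  rw [← mul_smul, this, mul_smul, hf x hx]

theorem cq_trans (hS : Cfsg.IsRankOneSetup G Ω a t Q) {X : Set G}
    (hX : X ⊆ (DD G a t : Set G)) {f f' : Ω} (hf : ∀ x ∈ X, x • f = f) (hfa : f ≠ a)
    (hf' : ∀ x ∈ X, x • f' = f') (hf'a : f' ≠ a) :
    ∃ q ∈ Subgroup.centralizer X ⊓ Q, q • f = f' := by
  obtain ⟨q, hqQ, hq⟩ := Q_trans hS hfa hf'a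
  refine ⟨q, ⟨?_, hqQ⟩, hq⟩
  apply Subgroup.mem_centralizer_iff.mpr
  intro x hx
  have hxa : x ∈ stabilizer G a := (hX hx).1
  have h1 : (x * q * x⁻¹) • f = f' := by
    simp only [mul_smul]
    rw [inv_smul_of_smul (hf x hx), hq, hf' x hx]
  obtain ⟨w, _, hw⟩ := Q_regular hS hfa hf'a
  have e1 := hw ⟨x * q * x⁻¹, hS.conj_mem x hxa q hqQ⟩ h1
  have e2 := hw ⟨q, hqQ⟩ hq
  have e3 : x * q * x⁻¹ = q := congrArg Subtype.val (e1.trans e2.symm)
  have := congrArg (· * x) e3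
  simpa using this

theorem cq_trans' (hS : Cfsg.IsRankOneSetup G Ω a t Q) {X : Set G}
    (hX : X ⊆ (DD G a t : Set G)) {f f' : Ω} (hf : ∀ x ∈ X, x • f = f) (hfb : f ≠ t • a)
    (hf' : ∀ x ∈ X, x • f' = f') (hf'b : f' ≠ t • a) :
    ∃ g ∈ Subgroup.centralizer X, g • (t • a) = t • a ∧ g • f = f' := by
  have htt := hS.mul_self
  have htinv := t_inv hS
  have hX' : (fun x => t * x * t) '' X ⊆ (DD G a t : Set G) := by
    rintro _ ⟨x, hx, rfl⟩
    have := D_norm hS x (hX hx)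
    rw [htinv] at this
    exact this
  have hne : ∀ {f : Ω}, f ≠ t • a → t • f ≠ a := by
    intro f hf h
    apply hf
    rw [← h, tta_gen hS]
  have hfix : ∀ {f : Ω}, (∀ x ∈ X, x • f = f) → ∀ y ∈ (fun x => t * x * t) '' X, y • (t • f) = t • f := by
    rintro f hf _ ⟨x, hx, rfl⟩
    simp only [mul_smul]
    rw [tta_gen hS, hf x hx]
  obtain ⟨q, ⟨hqc, hqQ⟩, hq⟩ := cq_trans hS hX' (hfix hf) (hne hfb) (hfix hf') (hne hf'b)
  refine ⟨t * q * t, ?_, ?_, ?_⟩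
  · apply Subgroup.mem_centralizer_iff.mpr
    intro x hx
    have h1 : (t * x * t) * q = q * (t * x * t) :=
      Subgroup.mem_centralizer_iff.mp hqc _ ⟨x, hx, rfl⟩
    have e1 : t * ((t * x * t) * q) * t = (t * t) * x * (t * q * t) := by group
    have e2 : t * (q * (t * x * t)) * t = t * q * t * x * (t * t) := by group
    rw [htt, one_mul] at e1
    rw [htt, mul_one] at e2
    rw [← e1, ← e2, h1]
  · simp only [mul_smul]
    rw [tta hS, Q_smul_a hS hqQ]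
  · simp only [mul_smul]
    rw [hq, tta_gen hS]

theorem N_trans (hS : Cfsg.IsRankOneSetup G Ω a t Q) {X : Set G}
    (hX : X ⊆ (DD G a t : Set G)) {e : Ω} (he : ∀ x ∈ X, x • e = e) (hea : e ≠ a)
    (heb : e ≠ t • a) {f f' : Ω} (hf : ∀ x ∈ X, x • f = f) (hf' : ∀ x ∈ X, x • f' = f') :
    ∃ g ∈ Subgroup.centralizer X, g • f = f' := by
  have to_e : ∀ {f : Ω}, (∀ x ∈ X, x • f = f) → ∃ g ∈ Subgroup.centralizer X, g • f = e := by
    intro f hf
    by_cases hfa : f = a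
    · have hfb : f ≠ t • a := by rw [hfa]; exact (ta_ne hS).symm
      obtain ⟨g, hg, _, hgf⟩ := cq_trans' hS hX hf hfb he heb
      exact ⟨g, hg, hgf⟩
    · obtain ⟨q, hq, hqf⟩ := cq_trans hS hX hf hfa he hea
      exact ⟨q, hq.1, hqf⟩
  obtain ⟨g₁, hg₁, h₁⟩ := to_e hf
  obtain ⟨g₂, hg₂, h₂⟩ := to_e hf'
  refine ⟨g₂⁻¹ * g₁, (Subgroup.centralizer X).mul_mem ((Subgroup.centralizer X).inv_mem hg₂) hg₁, ?_⟩
  rw [mul_smul, h₁, ← h₂, inv_smul_smul]

theorem two_trans_cent (hS : Cfsg.IsRankOneSetup G Ω a t Q) {X : Set G}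
    (hX : X ⊆ (DD G a t : Set G)) {e : Ω} (he : ∀ x ∈ X, x • e = e) (hea : e ≠ a)
    (heb : e ≠ t • a) {b₁ b₂ c₁ c₂ : Ω} (hb₁ : ∀ x ∈ X, x • b₁ = b₁) (hb₂ : ∀ x ∈ X, x • b₂ = b₂)
    (hc₁ : ∀ x ∈ X, x • c₁ = c₁) (hc₂ : ∀ x ∈ X, x • c₂ = c₂) (hb : b₁ ≠ b₂) (hc : c₁ ≠ c₂) :
    ∃ g ∈ Subgroup.centralizer X, g • b₁ = c₁ ∧ g • b₂ = c₂ := by
  have ha : ∀ x ∈ X, x • a = a := fun x hx => (hX hx).1
  obtain ⟨g₁, hg₁, h₁⟩ := N_trans hS hX he hea heb hb₁ ha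
  obtain ⟨g₂, hg₂, h₂⟩ := N_trans hS hX he hea heb hc₁ ha
  have hb₂' := cent_preserves hg₁ hb₂
  have hc₂' := cent_preserves hg₂ hc₂
  have hb₂a : g₁ • b₂ ≠ a := by
    intro h
    rw [← h₁] at h
    exact hb (smul_left_cancel g₁ h).symm
  have hc₂a : g₂ • c₂ ≠ a := by
    intro h
    rw [← h₂] at h
    exact hc (smul_left_cancel g₂ h).symm
  obtain ⟨q, hq, hqf⟩ := cq_trans hS hX hb₂' hb₂a hc₂' hc₂a
  refine ⟨g₂⁻¹ * q * g₁, (Subgroup.centralizer X).mul_mem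
    ((Subgroup.centralizer X).mul_mem ((Subgroup.centralizer X).inv_mem hg₂) hq.1) hg₁, ?_, ?_⟩
  · simp only [mul_smul]
    rw [h₁, Q_smul_a hS hq.2, ← h₂, inv_smul_smul]
  · simp only [mul_smul]
    rw [hqf, inv_smul_smul]

theorem third_point {X : Set G} {a b : Ω}
    (h3 : ∃ b c d : Ω, b ≠ c ∧ b ≠ d ∧ c ≠ d ∧ ∀ x ∈ X, x • b = b ∧ x • c = c ∧ x • d = d) :
    ∃ e : Ω, (∀ x ∈ X, x • e = e) ∧ e ≠ a ∧ e ≠ b := by
  obtain ⟨p, q, r, hpq, hpr, hqr, hfix⟩ := h3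
  by_cases h1 : p ≠ a ∧ p ≠ b
  · exact ⟨p, fun x hx => (hfix x hx).1, h1.1, h1.2⟩
  by_cases h2 : q ≠ a ∧ q ≠ b
  · exact ⟨q, fun x hx => (hfix x hx).2.1, h2.1, h2.2⟩
  refine ⟨r, fun x hx => (hfix x hx).2.2, ?_, ?_⟩
  · rintro rfl
    have hp : p = b := by
      by_contra hpb
      exact h1 ⟨hpr, hpb⟩
    have hq : q = b := by
      by_contra hqb
      exact h2 ⟨hqr, hqb⟩
    exact hpq (hp.trans hq.symm)
  · rintro rfl
    have hp : p = a := by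
      by_contra hpa
      exact h1 ⟨hpa, hpr⟩
    have hq : q = a := by
      by_contra hqa
      exact h2 ⟨hqa, hqr⟩
    exact hpq (hp.trans hq.symm)

/-- an involution in `C_G(X)` swapping `a` and `t • a` -/
theorem exists_swap_invol [Finite G] (hS : Cfsg.IsRankOneSetup G Ω a t Q) {X : Set G}
    (hX : X ⊆ (DD G a t : Set G))
    (h3 : ∃ b c d : Ω, b ≠ c ∧ b ≠ d ∧ c ≠ d ∧ ∀ x ∈ X, x • b = b ∧ x • c = c ∧ x • d = d) :
    ∃ u ∈ Subgroup.centralizer X, u * u = 1 ∧ u • a = t • a ∧ u • (t • a) = a := by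
  obtain ⟨e, he, hea, heb⟩ := third_point (a := a) (b := t • a) h3
  have ha : ∀ x ∈ X, x • a = a := fun x hx => (hX hx).1
  have hb : ∀ x ∈ X, x • (t • a) = t • a := fun x hx => (hX hx).2
  obtain ⟨g, hg, hga, hgb⟩ := two_trans_cent hS hX he hea heb ha hb hb ha (ta_ne hS).symm (ta_ne hS)
  have hg2 : g * g ∈ DD G a t := by
    constructor
    · show (g * g) • a = a
      rw [mul_smul, hga, hgb]
    · show (g * g) • (t • a) = t • a
      rw [mul_smul, hgb, hga]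
  obtain ⟨m, hm⟩ := hS.odd_card
  have hpow : ∀ j : ℕ, ((g * g) ^ j) • a = a ∧ ((g * g) ^ j) • (t • a) = t • a := by
    intro j
    have := (DD G a t).pow_mem hg2 j
    exact ⟨this.1, this.2⟩
  have hu : g ^ (2 * m + 1) = (g * g) ^ m * g := by
    rw [pow_succ, pow_mul, pow_two]
  refine ⟨g ^ (2 * m + 1), (Subgroup.centralizer X).pow_mem hg _, ?_, ?_, ?_⟩
  · have : g ^ (2 * m + 1) * g ^ (2 * m + 1) = (g * g) ^ (2 * m + 1) := by
      rw [← pow_two, ← pow_mul, mul_comm, pow_mul, pow_two]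
    rw [this, ← hm]
    exact pow_card_sub _ hg2
  · rw [hu, mul_smul, hga]
    exact (hpow m).2
  · rw [hu, mul_smul, hgb]
    exact (hpow m).1

theorem swap_invol_conj_t [Finite G] (hS : Cfsg.IsRankOneSetup G Ω a t Q) {u : G}
    (hu2 : u * u = 1) (hua : u • a = t • a) (hub : u • (t • a) = a) :
    ∃ k ∈ Cfsg.invertedBy (DD G a t) t, k⁻¹ * t * k = u := by
  have htt := hS.mul_self
  have htinv := t_inv hS
  have huinv : u⁻¹ = u := inv_eq_of_mul_eq_one_left hu2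
  obtain ⟨m, hm⟩ := hS.odd_card
  have hκD : t * u ∈ DD G a t := by
    constructor
    · show (t * u) • a = a
      rw [mul_smul, hua, tta hS]
    · show (t * u) • (t • a) = t • a
      rw [mul_smul, hub]
  have hκinv : t * (t * u) * t⁻¹ = (t * u)⁻¹ := by
    rw [mul_inv_rev, htinv, huinv]
    have : t * (t * u) * t = (t * t) * u * t := by group
    rw [this, htt, one_mul]
  set k := (t * u) ^ (m + 1) with hk
  have hkD : k ∈ DD G a t := (DD G a t).pow_mem hκD _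
  have hkinv : t * k * t⁻¹ = k⁻¹ := by
    rw [hk, ← conj_pow, hκinv, inv_pow]
  have hkk : k * k = t * u := by
    rw [hk, ← pow_add]
    have hm' : Nat.card (DD G a t) = 2 * m + 1 := hm
    have : m + 1 + (m + 1) = Nat.card (DD G a t) + 1 := by omega
    rw [this, pow_succ, pow_card_sub _ hκD, one_mul]
  refine ⟨k, ⟨hkD, hkinv⟩, ?_⟩
  have e1 : k⁻¹ * t * k = k⁻¹ * (t * k * t⁻¹) * t := by group
  rw [e1, hkinv]
  have e2 : k⁻¹ * k⁻¹ * t = (k * k)⁻¹ * t := by group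
  rw [e2, hkk, mul_inv_rev, htinv, huinv, mul_assoc, htt, mul_one]

end Cfsg.Agent.Lib.Helper19
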