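import Mathlib
import Cfsg.Agent.Lib.Helper19.HallRel
import Cfsg.Agent.Lib.Helper19.QuadFit
import Cfsg.Prelude.Def_OddOrderLocal

set_option autoImplicit false
set_option linter.style.haveILetI false
set_option linter.unusedSectionVars false

/-!
# Self-centralizing normal subgroups of the Fitting subgroup of a Hall subgroup, part 1

Basic tools for the theorem `C_S(A) = A × D`.
-/

namespace Cfsg.Agent.Lib.Helper19.SCNHall

open Subgroup Cfsg
open scoped commutatorElement Pointwise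

universe u

variable {S : Type u} [Group S]

/-- `F(H)` as a subgroup of the ambient group. -/
abbrev fitOf (H : Subgroup S) : Subgroup S := (fittingSubgroup ↥H).map H.subtype

/-- `O_t(H)` as a subgroup of the ambient group. -/
abbrev coreOf (t : ℕ) (H : Subgroup S) : Subgroup S := (pCore t ↥H).map H.subtype

theorem fitOf_le (H : Subgroup S) : fitOf H ≤ H := Subgroup.map_subtype_le _

theorem coreOf_le (t : ℕ) (H : Subgroup S) : coreOf t H ≤ H := Subgroup.map_subtype_le _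

/-- if `u` centralizes `A` and `v⁻¹ A v ⊆ A` then `[u, v]` centralizes `A` -/
theorem commutator_mem_centralizer (A : Subgroup S) {u v : S} (hu : u ∈ centralizer (A : Set S))
    (hv : ∀ a ∈ A, v⁻¹ * a * v ∈ A) : ⁅u, v⁆ ∈ centralizer (A : Set S) := by
  rw [Subgroup.mem_centralizer_iff] at hu ⊢
  intro a ha
  have h1 := hu a ha
  have h2 := hu (v⁻¹ * a * v) (hv a ha)
  -- a * (u v u⁻¹ v⁻¹) = (u v u⁻¹ v⁻¹) * a
  have h3 : u⁻¹ * (v⁻¹ * a * v) = (v⁻¹ * a * v) * u⁻¹ := by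
    have : (v⁻¹ * a * v) * u = u * (v⁻¹ * a * v) := h2
    calc u⁻¹ * (v⁻¹ * a * v) = u⁻¹ * ((v⁻¹ * a * v) * u) * u⁻¹ := by group
      _ = u⁻¹ * (u * (v⁻¹ * a * v)) * u⁻¹ := by rw [this]
      _ = (v⁻¹ * a * v) * u⁻¹ := by group
  calc a * ⁅u, v⁆ = a * u * v * u⁻¹ * v⁻¹ := by rw [commutatorElement_def]; group
    _ = u * a * v * u⁻¹ * v⁻¹ := by rw [h1]
    _ = u * v * ((v⁻¹ * a * v) * u⁻¹) * v⁻¹ := by group
    _ = u * v * (u⁻¹ * (v⁻¹ * a * v)) * v⁻¹ := by rw [h3]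
    _ = ⁅u, v⁆ * a := by rw [commutatorElement_def]; group

/-- **Coprime quadratic action is trivial** (elementwise form). -/
theorem commute_of_quadratic_coprime (Y : Subgroup S) (f : S)
    (hfY : ∀ y ∈ Y, f * y * f⁻¹ ∈ Y) {r t : ℕ} (hr : r.Prime) (ht : t.Prime) (hrt : r ≠ t)
    (hY : ∀ y ∈ Y, ∃ i : ℕ, y ^ (r ^ i) = 1) {j : ℕ} (hf : f ^ (t ^ j) = 1)
    (hquad : ∀ y ∈ Y, Commute (y⁻¹ * (f * y * f⁻¹)) f) : ∀ y ∈ Y, f * y = y * f := by
  intro y hy
  set c := y⁻¹ * (f * y * f⁻¹) with hc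
  have hcY : c ∈ Y := Y.mul_mem (Y.inv_mem hy) (hfY y hy)
  have hcf : Commute c f := hquad y hy
  have hpow : ∀ k : ℕ, f ^ k * y * (f ^ k)⁻¹ = y * c ^ k := by
    intro k
    induction k with
    | zero => simp
    | succ k ih =>
      have h1 : f ^ (k + 1) * y * (f ^ (k + 1))⁻¹ = f * (f ^ k * y * (f ^ k)⁻¹) * f⁻¹ := by
        rw [pow_succ']; group
      rw [h1, ih]
      have h2 : f * (y * c ^ k) * f⁻¹ = (f * y * f⁻¹) * (f * c ^ k * f⁻¹) := by group
      have h3 : f * c ^ k * f⁻¹ = c ^ k := by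
        have := (hcf.pow_left k).eq
        rw [← this]; group
      have h4 : f * y * f⁻¹ = y * c := by rw [hc]; group
      rw [h2, h3, h4, pow_succ']; group
  have h5 := hpow (t ^ j)
  rw [hf, one_mul, inv_one, mul_one] at h5
  have h6 : c ^ (t ^ j) = 1 := by
    have : y * c ^ (t ^ j) = y * 1 := by rw [mul_one]; exact h5.symm
    exact mul_left_cancel this
  obtain ⟨i, hi⟩ := hY c hcY
  have hcop : (t ^ j).Coprime (r ^ i) :=
    Nat.Coprime.pow _ _ ((Nat.coprime_primes ht hr).2 (Ne.symm hrt))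
  have h7 : orderOf c ∣ 1 := by
    rw [← Nat.Coprime.gcd_eq_one hcop]
    exact Nat.dvd_gcd (orderOf_dvd_of_pow_eq_one h6) (orderOf_dvd_of_pow_eq_one hi)
  have hc1 : c = 1 := orderOf_eq_one_iff.1 (Nat.dvd_one.1 h7)
  rw [hc] at hc1
  have : f * y * f⁻¹ = y := by
    have := congrArg (fun z => y * z) hc1
    simpa using this
  calc f * y = (f * y * f⁻¹) * f := by group
    _ = y * f := by rw [this]

variable [Finite S]

/-- **The centralizer in `H` of a self-centralizing normal subgroup of `F(H)`.** -/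
theorem dagger [Group.IsSolvable S] (H : Subgroup S) (h2 : ¬ 2 ∣ Nat.card H)
    (h3 : ¬ 3 ∣ Nat.card H) (A' : Subgroup S)
    (ha : ∀ v ∈ fitOf H, ∀ a ∈ A', v⁻¹ * a * v ∈ A')
    (hb : ∀ x ∈ fitOf H, x ∈ centralizer (A' : Set S) → x ∈ A') :
    ∀ y ∈ H, y ∈ centralizer (A' : Set S) → y ∈ A' := by
  intro y hyH hyC
  have hquad : ∀ v ∈ fittingSubgroup ↥H,
      ⁅(⟨y, hyH⟩ : ↥H), ⁅(⟨y, hyH⟩ : ↥H), v⁆⁆ = 1 := by
    intro v hv
    haveI : (fittingSubgroup ↥H).Normal := Cfsg.Agent.Lib.Helper22.fittingSubgroup_normal _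
    have hc : ⁅(⟨y, hyH⟩ : ↥H), v⁆ ∈ fittingSubgroup ↥H := by
      rw [commutatorElement_def]
      exact Subgroup.mul_mem _ (Subgroup.Normal.conj_mem inferInstance v hv _)
        (Subgroup.inv_mem _ hv)
    have hcS : ((⁅(⟨y, hyH⟩ : ↥H), v⁆ : ↥H) : S) ∈ fitOf H := ⟨_, hc, rfl⟩
    have hcC : ((⁅(⟨y, hyH⟩ : ↥H), v⁆ : ↥H) : S) ∈ centralizer (A' : Set S) := by
      have : ((⁅(⟨y, hyH⟩ : ↥H), v⁆ : ↥H) : S) = ⁅y, (v : S)⁆ := by
        simp [commutatorElement_def]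
      rw [this]
      exact commutator_mem_centralizer A' hyC (ha (v : S) ⟨v, hv, rfl⟩)
    have hcA := hb _ hcS hcC
    rw [commutatorElement_eq_one_iff_mul_comm]
    apply Subtype.ext
    have := Subgroup.mem_centralizer_iff.1 hyC _ hcA
    simpa using this.symm
  have hmem := Cfsg.Agent.Lib.Helper19.QuadFit.mem_fitting_of_quadratic h2 h3
    (⟨y, hyH⟩ : ↥H) hquad
  exact hb y ⟨_, hmem, rfl⟩ hyC

end Cfsg.Agent.Lib.Helper19.SCNHall
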