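import Mathlib
import Cfsg.Agent.Lib.Helper19.SCNHall1
import Cfsg.Agent.Lib.Helper11.Repl
import Cfsg.Agent.Lib.Helper32.PGroupCenter
import Cfsg.Agent.Lib.Helper10.FittingCent
import Cfsg.Agent.Lib.Helper22.Fitting
import Cfsg.Agent.Lib.Helper21.BenderLemma

set_option autoImplicit false
set_option linter.style.haveILetI false
set_option linter.unusedSectionVars false

/-!
# Self-centralizing normal subgroups of the Fitting subgroup of a Hall subgroup, part 2

General lemmas: normal `π`-subgroups lie in Hall `π`-subgroups, central elements modulo a subgroup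
in a `p`-group, and the key step (B2).
-/

namespace Cfsg.Agent.Lib.Helper19.SCNHall

open Subgroup Cfsg
open scoped commutatorElement Pointwise

universe u

variable {S : Type u} [Group S]

theorem conj_mem_of_mem_normalizer_h19 {A : Subgroup S} {n : S}
    (hn : n ∈ normalizer (A : Set S)) {x : S} (hx : x ∈ A) : n * x * n⁻¹ ∈ A :=
  (Subgroup.mem_normalizer_iff.mp hn x).mp hx

theorem conj_mem_of_mem_normalizer_h19' {A : Subgroup S} {n : S}
    (hn : n ∈ normalizer (A : Set S)) {x : S} (hx : x ∈ A) : n⁻¹ * x * n ∈ A := by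
  have := conj_mem_of_mem_normalizer_h19 (inv_mem hn) hx
  rwa [inv_inv] at this

/-- conjugation by a normalizing element preserves the centralizer -/
theorem conj_mem_centralizer_h19 {A : Subgroup S} {n c : S}
    (hn : n ∈ normalizer (A : Set S)) (hc : c ∈ centralizer (A : Set S)) :
    n * c * n⁻¹ ∈ centralizer (A : Set S) := by
  rw [Subgroup.mem_centralizer_iff] at hc ⊢
  intro a ha
  have h1 := hc (n⁻¹ * a * n) (conj_mem_of_mem_normalizer_h19' hn ha)
  calc a * (n * c * n⁻¹) = n * ((n⁻¹ * a * n) * c) * n⁻¹ := by group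
    _ = n * (c * (n⁻¹ * a * n)) * n⁻¹ := by rw [h1]
    _ = n * c * n⁻¹ * a := by group

theorem isSCN_le_centralizer {P A : Subgroup S} (hA : IsSCN P A) :
    A ≤ centralizer (A : Set S) := by
  intro a ha
  have : a ∈ P ⊓ centralizer (A : Set S) := by rw [hA.2.2]; exact ha
  exact this.2

theorem isSCN_mem {P A : Subgroup S} (hA : IsSCN P A) {x : S} (hxP : x ∈ P)
    (hxC : x ∈ centralizer (A : Set S)) : x ∈ A := by
  rw [← hA.2.2]; exact ⟨hxP, hxC⟩

variable [Finite S]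

/-- a normal `π`-subgroup lies in every Hall `π`-subgroup -/
theorem normal_le_hall (π : Set ℕ) (H : Subgroup S) (hH : IsPiHall π H) (P : Subgroup S)
    [P.Normal] (hP : ∀ p : ℕ, p.Prime → p ∣ Nat.card P → p ∈ π) : P ≤ H := by
  have h1 := Cfsg.Agent.Lib.Helper1.card_sup_mul_card_inf H P
  have h2 : Nat.card H * H.relIndex (H ⊔ P) = Nat.card (H ⊔ P : Subgroup S) := by
    have h5 := Subgroup.relIndex_mul_relIndex ⊥ H (H ⊔ P) bot_le le_sup_left
    rwa [Subgroup.relIndex_bot_left, Subgroup.relIndex_bot_left] at h5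
  have h3 : H.relIndex (H ⊔ P) ∣ H.index := Subgroup.relIndex_dvd_index_of_le le_sup_left
  have h4 : H.relIndex (H ⊔ P) ∣ Nat.card P := by
    have hpos : 0 < Nat.card H := Nat.card_pos
    refine ⟨Nat.card (H ⊓ P : Subgroup S), ?_⟩
    apply Nat.eq_of_mul_eq_mul_left hpos
    rw [← h1, ← h2]; ring
  have h5 : H.relIndex (H ⊔ P) = 1 := by
    by_contra hne
    obtain ⟨p, hp, hpd⟩ := Nat.exists_prime_and_dvd hne
    exact hH.2 p hp (hP p hp (hpd.trans h4)) (hpd.trans h3)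
  have h6 : H ⊔ P ≤ H := Subgroup.relIndex_eq_one.1 h5
  exact le_sup_right.trans h6

/-- `O_s(S) ≤ H` implies `O_s(S) ≤ O_s(H)` -/
theorem pCore_le_coreOf (s : ℕ) (H : Subgroup S) (h : pCore s S ≤ H) :
    pCore s S ≤ coreOf s H := by
  intro x hx
  haveI : (pCore s S).Normal := Cfsg.Agent.Lib.Helper22.pCore_normal' s S
  have hp : IsPGroup s ((pCore s S).subgroupOf H) :=
    (Cfsg.Agent.Lib.Helper55.pCore_isPGroup (G := S) s).comap_subtype
  have hle : (pCore s S).subgroupOf H ≤ pCore s ↥H :=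
    le_sSup ⟨inferInstance, hp⟩
  exact ⟨⟨x, h hx⟩, hle (by rw [Subgroup.mem_subgroupOf]; exact hx), rfl⟩

theorem coreOf_le_fitOf (t : ℕ) [Fact t.Prime] (H : Subgroup S) : coreOf t H ≤ fitOf H :=
  Subgroup.map_mono (Cfsg.Agent.Lib.Helper54.pCore_le_fittingSubgroup t)

theorem fitOf_eq_iSup (H : Subgroup S) : fitOf H = ⨆ p : Nat.Primes, coreOf (p : ℕ) H := by
  unfold fitOf coreOf
  rw [Cfsg.Agent.Lib.Helper22.fittingSubgroup_eq_iSup_pCore, Subgroup.map_iSup]

theorem coreOf_isPGroup (t : ℕ) (H : Subgroup S) : IsPGroup t (coreOf t H) :=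
  (Cfsg.Agent.Lib.Helper55.pCore_isPGroup (G := ↥H) t).map _

theorem fitOf_le_normalizer (H : Subgroup S) : H ≤ normalizer (fitOf H : Set S) := by
  haveI : (fittingSubgroup ↥H).Normal := Cfsg.Agent.Lib.Helper22.fittingSubgroup_normal _
  have := Subgroup.le_normalizer_map (H := fittingSubgroup ↥H) H.subtype
  rw [Subgroup.normalizer_eq_top, ← MonoidHom.range_eq_map, Subgroup.range_subtype] at this
  exact this

theorem coreOf_le_normalizer (t : ℕ) (H : Subgroup S) : H ≤ normalizer (coreOf t H : Set S) := by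
  haveI : (pCore t ↥H).Normal := Cfsg.Agent.Lib.Helper22.pCore_normal' t _
  have := Subgroup.le_normalizer_map (H := pCore t ↥H) H.subtype
  rw [Subgroup.normalizer_eq_top, ← MonoidHom.range_eq_map, Subgroup.range_subtype] at this
  exact this

/-- distinct cores of `H` commute elementwise -/
theorem coreOf_commute {r t : ℕ} [Fact r.Prime] [Fact t.Prime] (hrt : r ≠ t) (H : Subgroup S)
    {x f : S} (hx : x ∈ coreOf r H) (hf : f ∈ coreOf t H) : x * f = f * x := by
  obtain ⟨x', hx', rfl⟩ := hx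
  obtain ⟨f', hf', rfl⟩ := hf
  have h := Cfsg.Agent.Lib.Helper21.bl_pCore_le_centralizer_pCore (H := ↥H) hrt hx'
  rw [Subgroup.mem_centralizer_iff] at h
  have h1 := h f' hf'
  have := congrArg (H.subtype) h1
  simpa using this.symm

/-- elementwise `p`-power order in a `p`-subgroup -/
theorem exists_pow_eq_one_of_isPGroup {p : ℕ} {R : Subgroup S} (hR : IsPGroup p R) :
    ∀ y ∈ R, ∃ i : ℕ, y ^ (p ^ i) = 1 := by
  intro y hy
  obtain ⟨i, hi⟩ := hR ⟨y, hy⟩
  refine ⟨i, ?_⟩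
  have := congrArg (R.subtype) hi
  simpa using this

/-- **Central elements modulo a subgroup.** In a finite `r`-group `T` with a `T`-invariant subgroup
`R₁ ≤ T` not contained in the `T`-invariant subgroup `A₀`, some `u ∈ R₁ ∖ A₀` satisfies
`[u, T] ⊆ A₀`. -/
theorem exists_comm_mem {r : ℕ} [Fact r.Prime] (T R₁ A₀ : Subgroup S) (hT : IsPGroup r T)
    (hRT : R₁ ≤ T) (hnR : ∀ g ∈ T, ∀ x ∈ R₁, g * x * g⁻¹ ∈ R₁)
    (hnA : ∀ g ∈ T, ∀ a ∈ A₀, g * a * g⁻¹ ∈ A₀) (hRA : ¬ R₁ ≤ A₀) :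
    ∃ u ∈ R₁, u ∉ A₀ ∧ ∀ g ∈ T, ⁅u, g⁆ ∈ A₀ := by
  set B' : Subgroup ↥T := (R₁ ⊓ A₀).subgroupOf T with hB'
  haveI hB'n : B'.Normal := by
    constructor
    intro x hx g
    rw [hB', Subgroup.mem_subgroupOf] at hx ⊢
    exact ⟨by simpa using hnR g g.2 x hx.1, by simpa using hnA g g.2 x hx.2⟩
  haveI hR'n : (R₁.subgroupOf T).Normal := by
    constructor
    intro x hx g
    rw [Subgroup.mem_subgroupOf] at hx ⊢
    simpa using hnR g g.2 x hx
  have hQ : IsPGroup r (↥T ⧸ B') := IsPGroup.to_quotient hT B'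
  set N : Subgroup (↥T ⧸ B') := (R₁.subgroupOf T).map (QuotientGroup.mk' B') with hN
  haveI hNn : N.Normal := Subgroup.Normal.map hR'n _ (QuotientGroup.mk'_surjective B')
  have hNne : N ≠ ⊥ := by
    intro hbot
    apply hRA
    intro x hx
    have h1 : (QuotientGroup.mk' B' ⟨x, hRT hx⟩) ∈ N :=
      Subgroup.mem_map.2 ⟨⟨x, hRT hx⟩, Subgroup.mem_subgroupOf.2 hx, rfl⟩
    rw [hbot, Subgroup.mem_bot, QuotientGroup.mk'_apply, QuotientGroup.eq_one_iff, hB',
      Subgroup.mem_subgroupOf] at h1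
    exact h1.2
  obtain ⟨xb, hxN, hxZ, hx1⟩ :=
    Cfsg.Agent.Lib.Helper32.exists_ne_one_mem_normal_inf_center hQ N hNne
  obtain ⟨u, huR, rfl⟩ := Subgroup.mem_map.1 hxN
  rw [Subgroup.mem_subgroupOf] at huR
  refine ⟨(u : S), huR, ?_, ?_⟩
  · intro huA
    apply hx1
    rw [QuotientGroup.mk'_apply, QuotientGroup.eq_one_iff, hB', Subgroup.mem_subgroupOf]
    exact ⟨huR, huA⟩
  · intro g hg
    have h1 : QuotientGroup.mk' B' ⁅u, (⟨g, hg⟩ : ↥T)⁆ = 1 := by
      rw [map_commutatorElement, commutatorElement_eq_one_iff_mul_comm]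
      exact (Subgroup.mem_center_iff.1 hxZ _).symm
    rw [QuotientGroup.mk'_apply, QuotientGroup.eq_one_iff, hB', Subgroup.mem_subgroupOf] at h1
    have h2 : ((⁅u, (⟨g, hg⟩ : ↥T)⁆ : ↥T) : S) = ⁅(u : S), g⁆ := by
      simp [commutatorElement_def]
    rw [h2] at h1
    exact h1.2

/-- If every `O_r(K)` lies in a central subgroup `A₀` of `K`, then `K ≤ A₀`. -/
theorem le_of_pCores_le [Group.IsSolvable S] (K A₀ : Subgroup S)
    (hcen : ∀ a ∈ A₀, ∀ k ∈ K, a * k = k * a)
    (h : ∀ r : Nat.Primes, (pCore (r : ℕ) ↥K).map K.subtype ≤ A₀) : K ≤ A₀ := by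
  have hF : (fittingSubgroup ↥K).map K.subtype ≤ A₀ := by
    rw [Cfsg.Agent.Lib.Helper22.fittingSubgroup_eq_iSup_pCore, Subgroup.map_iSup]
    exact iSup_le h
  intro k hk
  have hc : (⟨k, hk⟩ : ↥K) ∈ centralizer (fittingSubgroup ↥K : Set ↥K) := by
    rw [Subgroup.mem_centralizer_iff]
    intro x hx
    have hxA : (x : S) ∈ A₀ := hF ⟨x, hx, rfl⟩
    apply Subtype.ext
    simpa using hcen _ hxA k hk
  have := Cfsg.Agent.Lib.Helper10.centralizer_fitting_le hc
  exact hF ⟨_, this, rfl⟩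

/-- **(B2)** A `π`-element of `C_S(A)` normalizing `F(H)` lies in `A`. -/
theorem mem_of_normalizes_fit [Group.IsSolvable S] (π : Set ℕ) (h2 : 2 ∉ π) (h3 : 3 ∉ π)
    (H : Subgroup S) (hH : IsPiHall π H) (A : Subgroup S) (hA : IsSCN (fitOf H) A) (u : S)
    (huC : u ∈ centralizer (A : Set S)) (huN : u ∈ normalizer (fitOf H : Set S)) {r k : ℕ}
    (hr : r.Prime) (hrπ : r ∈ π) (hu : u ^ (r ^ k) = 1) : u ∈ A := by
  set M := normalizer (fitOf H : Set S) with hM
  have hHM : H ≤ M := fitOf_le_normalizer H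
  have hX : Nat.card M = Nat.card H * H.relIndex M := by
    have h5 := Subgroup.relIndex_mul_relIndex ⊥ H M bot_le hHM
    rw [Subgroup.relIndex_bot_left, Subgroup.relIndex_bot_left] at h5
    exact h5.symm
  have hnd : H.relIndex M ∣ H.index := Subgroup.relIndex_dvd_index_of_le hHM
  have hmn : (Nat.card H).Coprime (H.relIndex M) := by
    apply Nat.Coprime.symm
    apply Nat.Coprime.symm
    apply Nat.coprime_of_dvd
    intro p hp hpH hpn
    exact hH.2 p hp (hH.1 p hp hpH) (hpn.trans hnd)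
  have hUM : zpowers u ≤ M := by
    rw [Subgroup.zpowers_le]; exact huN
  have hU : (Nat.card (zpowers u)).Coprime (H.relIndex M) := by
    rw [Nat.card_zpowers]
    have h1 : orderOf u ∣ r ^ k := orderOf_dvd_of_pow_eq_one hu
    have h2 : (r ^ k).Coprime (H.relIndex M) := by
      apply Nat.Coprime.pow_left
      rw [Nat.Prime.coprime_iff_not_dvd hr]
      intro hd
      exact hH.2 r hr hrπ (hd.trans hnd)
    exact Nat.Coprime.coprime_dvd_left h1 h2
  obtain ⟨g, hgM, hUg⟩ := Cfsg.Agent.Lib.Helper19.HallRel.exists_conj_le M _ _ hX hmn H hHM rfl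
    (zpowers u) hUM hU
  have hyH : g⁻¹ * u * g ∈ H := by
    have := hUg (Subgroup.mem_zpowers u)
    rw [Subgroup.mem_pointwise_smul_iff_inv_smul_mem] at this
    simpa using this
  set A' : Subgroup S := A.comap (MulAut.conj g).toMonoidHom with hA'
  have hmemA' : ∀ x : S, x ∈ A' ↔ g * x * g⁻¹ ∈ A := by
    intro x
    rw [hA', Subgroup.mem_comap]
    simp [MulAut.conj_apply]
  have ha : ∀ v ∈ fitOf H, ∀ a ∈ A', v⁻¹ * a * v ∈ A' := by
    intro v hv a ha
    rw [hmemA'] at ha ⊢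
    have hw : g * v * g⁻¹ ∈ fitOf H := conj_mem_of_mem_normalizer_h19 hgM hv
    have := conj_mem_of_mem_normalizer_h19' (hA.2.1 hw) ha
    have he : g * (v⁻¹ * a * v) * g⁻¹ = (g * v * g⁻¹)⁻¹ * (g * a * g⁻¹) * (g * v * g⁻¹) := by
      group
    rw [he]; exact this
  have hb : ∀ x ∈ fitOf H, x ∈ centralizer (A' : Set S) → x ∈ A' := by
    intro x hx hxC
    rw [hmemA']
    apply isSCN_mem hA (conj_mem_of_mem_normalizer_h19 hgM hx)
    rw [Subgroup.mem_centralizer_iff] at hxC ⊢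
    intro a ha
    have h1 : g⁻¹ * a * g ∈ A' := by
      rw [hmemA']
      have : g * (g⁻¹ * a * g) * g⁻¹ = a := by group
      rw [this]; exact ha
    have h2 := hxC _ h1
    calc a * (g * x * g⁻¹) = g * ((g⁻¹ * a * g) * x) * g⁻¹ := by group
      _ = g * (x * (g⁻¹ * a * g)) * g⁻¹ := by rw [h2]
      _ = g * x * g⁻¹ * a := by group
  have hyC : g⁻¹ * u * g ∈ centralizer (A' : Set S) := by
    rw [Subgroup.mem_centralizer_iff] at huC ⊢
    intro a ha0
    have ha : a ∈ A' := ha0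
    rw [hmemA'] at ha
    have h2 := huC _ ha
    calc a * (g⁻¹ * u * g) = g⁻¹ * ((g * a * g⁻¹) * u) * g := by group
      _ = g⁻¹ * (u * (g * a * g⁻¹)) * g := by rw [h2]
      _ = g⁻¹ * u * g * a := by group
  have h2H : ¬ 2 ∣ Nat.card H := fun hd => h2 (hH.1 2 Nat.prime_two hd)
  have h3H : ¬ 3 ∣ Nat.card H := fun hd => h3 (hH.1 3 Nat.prime_three hd)
  have := dagger H h2H h3H A' ha hb _ hyH hyC
  rw [hmemA'] at this
  have he : g * (g⁻¹ * u * g) * g⁻¹ = u := by group
  rwa [he] at this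

end Cfsg.Agent.Lib.Helper19.SCNHall
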