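import Mathlib
import Cfsg.Agent.Lib.Helper19.SCNHall2
import Cfsg.Agent.Lib.Helper24.Coprime
import Cfsg.Agent.Lib.Helper46.CharP

set_option autoImplicit false
set_option linter.style.haveILetI false
set_option linter.unusedSectionVars false

/-!
# Self-centralizing normal subgroups of the Fitting subgroup of a Hall subgroup, part 3

The case `O_{π'}(S) = 1`.
-/

namespace Cfsg.Agent.Lib.Helper19.SCNHall

open Subgroup Cfsg
open scoped commutatorElement Pointwise

universe u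

variable {S : Type u} [Group S] [Finite S]

theorem prime_eq_of_dvd_card_isPGroup {s p : ℕ} (hs : s.Prime) {Y : Subgroup S}
    (hY : IsPGroup s Y) (hp : p.Prime) (hd : p ∣ Nat.card Y) : p = s := by
  haveI : Fact s.Prime := ⟨hs⟩
  obtain ⟨k, hk⟩ := IsPGroup.iff_card.1 hY
  rw [hk] at hd
  exact (Nat.prime_dvd_prime_iff_eq hp hs).1 (hp.dvd_of_dvd_pow hd)

/-- the standing hypotheses of Case B -/
structure Ctx (π : Set ℕ) (H A H₂ : Subgroup S) : Prop where
  h2 : 2 ∉ π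
  h3 : 3 ∉ π
  hH : IsPiHall π H
  hA : IsSCN (fitOf H) A
  hB : ∀ W : Subgroup S, W.Normal → (∀ p : ℕ, p.Prime → p ∣ Nat.card W → p ∉ π) → W = ⊥
  hH₂N : H₂ ≤ normalizer (A : Set S)
  hH₂π : ∀ p : ℕ, p.Prime → p ∣ Nat.card H₂ → p ∈ π
  hFH₂ : fitOf H ≤ H₂

variable {π : Set ℕ} {H A H₂ : Subgroup S}

theorem Ctx.pCore_le_coreOf (c : Ctx π H A H₂) {s : ℕ} (hs : s.Prime) (hsπ : s ∈ π) :
    pCore s S ≤ coreOf s H := by
  haveI : (pCore s S).Normal := Cfsg.Agent.Lib.Helper22.pCore_normal' s S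
  apply SCNHall.pCore_le_coreOf
  apply normal_le_hall π H c.hH
  intro p hp hd
  rw [prime_eq_of_dvd_card_isPGroup hs (Cfsg.Agent.Lib.Helper55.pCore_isPGroup (G := S) s) hp hd]
  exact hsπ

theorem Ctx.pCore_eq_bot (c : Ctx π H A H₂) {s : ℕ} (hs : s.Prime) (hsπ : s ∉ π) :
    pCore s S = ⊥ := by
  apply c.hB _ (Cfsg.Agent.Lib.Helper22.pCore_normal' s S)
  intro p hp hd
  rw [prime_eq_of_dvd_card_isPGroup hs (Cfsg.Agent.Lib.Helper55.pCore_isPGroup (G := S) s) hp hd]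
  exact hsπ

/-- (i) an `r`-element of `C_S(A)` centralizes `O_s(S)` for `s ≠ r` -/
theorem Ctx.step_i (c : Ctx π H A H₂) {r s : ℕ} (hr : r.Prime) (hs : s.Prime) (hsr : s ≠ r)
    {u : S} (huC : u ∈ centralizer (A : Set S)) {j : ℕ} (hu : u ^ (r ^ j) = 1) :
    u ∈ centralizer (pCore s S : Set S) := by
  haveI : Fact s.Prime := ⟨hs⟩
  by_cases hsπ : s ∈ π
  · haveI hYn : (pCore s S).Normal := Cfsg.Agent.Lib.Helper22.pCore_normal' s S
    have hYF : pCore s S ≤ fitOf H := (c.pCore_le_coreOf hs hsπ).trans (coreOf_le_fitOf s H)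
    have huC' := Subgroup.mem_centralizer_iff.1 huC
    have key := commute_of_quadratic_coprime (pCore s S) u
      (fun y hy => hYn.conj_mem y hy u) hs hr hsr
      (exists_pow_eq_one_of_isPGroup (Cfsg.Agent.Lib.Helper55.pCore_isPGroup (G := S) s)) hu
      (by
        intro y hy
        have hcY : y⁻¹ * (u * y * u⁻¹) ∈ pCore s S :=
          (pCore s S).mul_mem ((pCore s S).inv_mem hy) (hYn.conj_mem y hy u)
        have hyN : y ∈ normalizer (A : Set S) := c.hA.2.1 (hYF hy)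
        have h1 : ⁅u, y⁻¹⁆ ∈ centralizer (A : Set S) := by
          apply commutator_mem_centralizer A huC
          intro a ha
          have := conj_mem_of_mem_normalizer_h19 hyN ha
          simpa using this
        have h2 : y⁻¹ * (u * y * u⁻¹) = (⁅u, y⁻¹⁆)⁻¹ := by
          rw [commutatorElement_def]; group
        have hcA : y⁻¹ * (u * y * u⁻¹) ∈ A := by
          apply isSCN_mem c.hA (hYF hcY)
          rw [h2]; exact inv_mem h1
        exact huC' _ hcA)
    rw [Subgroup.mem_centralizer_iff]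
    intro y hy
    exact (key y hy).symm
  · rw [c.pCore_eq_bot hs hsπ, Subgroup.mem_centralizer_iff]
    intro y hy
    have : y = 1 := Subgroup.mem_bot.1 hy
    rw [this, one_mul, mul_one]

/-- (ii) `O_t(H)` centralizes an `F(H)`-invariant `r`-subgroup of `C_S(A)` for `t ≠ r` -/
theorem Ctx.step_ii [Group.IsSolvable S] (c : Ctx π H A H₂) {r t : ℕ} (hr : r.Prime)
    (ht : t.Prime) (htr : t ≠ r)
    (hrπ : r ∈ π) (R₁ : Subgroup S) (hR₁p : IsPGroup r R₁)
    (hR₁C : R₁ ≤ centralizer (A : Set S))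
    (hR₁n : ∀ f ∈ fitOf H, ∀ x ∈ R₁, f * x * f⁻¹ ∈ R₁) {f : S} (hf : f ∈ coreOf t H) :
    ∀ u ∈ R₁, f * u = u * f := by
  haveI : Fact r.Prime := ⟨hr⟩
  haveI : Fact t.Prime := ⟨ht⟩
  haveI hYn : (pCore r S).Normal := Cfsg.Agent.Lib.Helper22.pCore_normal' r S
  have hfF : f ∈ fitOf H := coreOf_le_fitOf t H hf
  obtain ⟨j, hfj⟩ := exists_pow_eq_one_of_isPGroup (coreOf_isPGroup t H) f hf
  have hYr : pCore r S ≤ coreOf r H := c.pCore_le_coreOf hr hrπ
  apply commute_of_quadratic_coprime R₁ f (hR₁n f hfF) hr ht (Ne.symm htr)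
    (exists_pow_eq_one_of_isPGroup hR₁p) hfj
  intro u hu
  set c' := u⁻¹ * (f * u * f⁻¹) with hc'
  have hc'R : c' ∈ R₁ := R₁.mul_mem (R₁.inv_mem hu) (hR₁n f hfF u hu)
  obtain ⟨i, hc'i⟩ := exists_pow_eq_one_of_isPGroup hR₁p c' hc'R
  -- `c'` centralizes every `O_s(S)`
  have hcent : ∀ s : Nat.Primes, c' ∈ centralizer (pCore (s : ℕ) S : Set S) := by
    intro s
    by_cases hsr : (s : ℕ) = r
    · rw [hsr, Subgroup.mem_centralizer_iff]
      intro y hy
      have hfy : ∀ z ∈ pCore r S, z * f = f * z := fun z hz =>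
        coreOf_commute (Ne.symm htr) H (hYr hz) hf
      have h1 := hfy y hy
      have h2 := hfy (u * y * u⁻¹) (hYn.conj_mem y hy u)
      have h1' : f⁻¹ * y = y * f⁻¹ := by
        calc f⁻¹ * y = f⁻¹ * (y * f) * f⁻¹ := by group
          _ = f⁻¹ * (f * y) * f⁻¹ := by rw [h1]
          _ = y * f⁻¹ := by group
      calc y * c' = u⁻¹ * ((u * y * u⁻¹) * f) * u * f⁻¹ := by rw [hc']; group
        _ = u⁻¹ * (f * (u * y * u⁻¹)) * u * f⁻¹ := by rw [h2]
        _ = u⁻¹ * f * u * (y * f⁻¹) := by group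
        _ = u⁻¹ * f * u * (f⁻¹ * y) := by rw [h1']
        _ = c' * y := by rw [hc']; group
    · exact c.step_i hr s.2 hsr (hR₁C hc'R) hc'i
  have hcF : c' ∈ fittingSubgroup S :=
    Cfsg.Agent.Lib.Helper10.centralizer_fitting_le
      (Cfsg.Agent.Lib.Helper32.FitDer.mem_centralizer_fitting_of_forall hcent)
  have hcO : c' ∈ pCore r S := Cfsg.Agent.Lib.Helper21.bl_mem_pCore_of_mem_fitting hcF hc'i
  exact coreOf_commute (Ne.symm htr) H (hYr hcO) hf

/-- an `H₂`-invariant `r`-subgroup of `H₂ ∩ C_S(A)` lies in `A` -/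
theorem Ctx.R_le [Group.IsSolvable S] (c : Ctx π H A H₂) {r : ℕ} (hr : r.Prime)
    (R₁ : Subgroup S)
    (hR₁p : IsPGroup r R₁) (hR₁H : R₁ ≤ H₂) (hR₁C : R₁ ≤ centralizer (A : Set S))
    (hR₁n : ∀ h ∈ H₂, ∀ x ∈ R₁, h * x * h⁻¹ ∈ R₁) : R₁ ≤ A := by
  haveI : Fact r.Prime := ⟨hr⟩
  by_contra hRA
  have hrπ : r ∈ π := by
    apply c.hH₂π r hr
    obtain ⟨k, hk⟩ := IsPGroup.iff_card.1 hR₁p
    have hk0 : k ≠ 0 := by
      rintro rfl
      rw [pow_zero, Subgroup.card_eq_one] at hk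
      apply hRA
      rw [hk]; exact bot_le
    have h1 : r ∣ Nat.card R₁ := by rw [hk]; exact dvd_pow_self _ hk0
    exact h1.trans (Subgroup.card_dvd_of_le hR₁H)
  have hFn : ∀ f ∈ fitOf H, ∀ x ∈ R₁, f * x * f⁻¹ ∈ R₁ := fun f hf => hR₁n f (c.hFH₂ hf)
  have hle : coreOf r H ≤ normalizer (R₁ : Set S) := by
    intro x hx
    exact Cfsg.Agent.Lib.Helper11.mem_normalizer_of_conj_mem R₁ x
      (hFn x (coreOf_le_fitOf r H hx))
  have hT : IsPGroup r (coreOf r H ⊔ R₁ : Subgroup S) :=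
    IsPGroup.to_sup_of_normal_right' (coreOf_isPGroup r H) hR₁p hle
  have hTR : (coreOf r H ⊔ R₁ : Subgroup S) ≤ normalizer (R₁ : Set S) :=
    sup_le hle Subgroup.le_normalizer
  have hTA : (coreOf r H ⊔ R₁ : Subgroup S) ≤ normalizer (A : Set S) :=
    sup_le ((coreOf_le_fitOf r H).trans c.hA.2.1)
      (hR₁C.trans (Subgroup.centralizer_le_normalizer _))
  obtain ⟨u, huR, huA, hcomm⟩ := exists_comm_mem (coreOf r H ⊔ R₁) R₁ A hT le_sup_right
    (fun g hg x hx => conj_mem_of_mem_normalizer_h19 (hTR hg) hx)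
    (fun g hg a ha => conj_mem_of_mem_normalizer_h19 (hTA hg) ha) hRA
  obtain ⟨i, hui⟩ := exists_pow_eq_one_of_isPGroup hR₁p u huR
  have huN : u ∈ normalizer (fitOf H : Set S) := by
    apply Cfsg.Agent.Lib.Helper11.mem_normalizer_of_conj_mem
    have hsup : fitOf H ≤ (fitOf H).comap (MulAut.conj u).toMonoidHom := by
      conv_lhs => rw [fitOf_eq_iSup]
      apply iSup_le
      intro p v hv
      rw [Subgroup.mem_comap]
      change u * v * u⁻¹ ∈ fitOf H
      haveI : Fact (p : ℕ).Prime := ⟨p.2⟩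
      by_cases hpr : (p : ℕ) = r
      · rw [hpr] at hv
        have h1 : ⁅u, v⁆ ∈ fitOf H := c.hA.1 (hcomm v (le_sup_left (a := coreOf r H) hv))
        have h2 : u * v * u⁻¹ = ⁅u, v⁆ * v := by rw [commutatorElement_def]; group
        rw [h2]
        exact (fitOf H).mul_mem h1 (coreOf_le_fitOf r H hv)
      · have h1 := c.step_ii hr p.2 hpr hrπ R₁ hR₁p hR₁C hFn hv u huR
        have h2 : u * v * u⁻¹ = v := by
          calc u * v * u⁻¹ = (v * u) * u⁻¹ := by rw [h1]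
            _ = v := by group
        rw [h2]
        exact coreOf_le_fitOf (p : ℕ) H hv
    intro v hv
    have := hsup hv
    rw [Subgroup.mem_comap] at this
    exact this
  exact huA (mem_of_normalizes_fit π c.h2 c.h3 H c.hH A c.hA u (hR₁C huR) huN hr hrπ hui)

/-- `H₂ ∩ C_S(A) ≤ A` -/
theorem Ctx.K_le [Group.IsSolvable S] (c : Ctx π H A H₂) :
    H₂ ⊓ centralizer (A : Set S) ≤ A := by
  set K := H₂ ⊓ centralizer (A : Set S) with hK
  have hH₂K : H₂ ≤ normalizer (K : Set S) := by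
    intro h hh
    apply Cfsg.Agent.Lib.Helper11.mem_normalizer_of_conj_mem
    intro x hx
    exact ⟨H₂.mul_mem (H₂.mul_mem hh hx.1) (H₂.inv_mem hh),
      conj_mem_centralizer_h19 (c.hH₂N hh) hx.2⟩
  apply le_of_pCores_le K A
  · intro a ha k hk
    exact Subgroup.mem_centralizer_iff.1 hk.2 a ha
  · intro r
    haveI : (pCore (r : ℕ) ↥K).Characteristic :=
      Cfsg.Agent.Lib.Helper46.pCore_characteristic (r : ℕ) ↥K
    apply c.R_le r.2
    · exact (Cfsg.Agent.Lib.Helper55.pCore_isPGroup (G := ↥K) (r : ℕ)).map _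
    · exact (Subgroup.map_subtype_le _).trans inf_le_left
    · exact (Subgroup.map_subtype_le _).trans inf_le_right
    · intro h hh x hx
      exact Cfsg.Agent.Lib.Helper24.conj_mem_map_of_characteristic K (pCore (r : ℕ) ↥K) h
        (hH₂K hh) x hx

/-- **Case B.** If `S` has no nontrivial normal `π'`-subgroup, every `π`-element of `C_S(A)` lies
in `A`. -/
theorem caseB [Group.IsSolvable S] (π : Set ℕ) (h2 : 2 ∉ π) (h3 : 3 ∉ π) (H : Subgroup S)
    (hH : IsPiHall π H) (A : Subgroup S) (hA : IsSCN (fitOf H) A)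
    (hB : ∀ W : Subgroup S, W.Normal → (∀ p : ℕ, p.Prime → p ∣ Nat.card W → p ∉ π) → W = ⊥) :
    ∀ x ∈ centralizer (A : Set S), ∀ q : ℕ, q.Prime → q ∈ π → ∀ k : ℕ, x ^ (q ^ k) = 1 →
      x ∈ A := by
  obtain ⟨m, n, hNmn, hcop, hm, hn⟩ := Cfsg.Agent.Lib.Helper19.HallRel.pi_factorization π
    (Nat.card (normalizer (A : Set S))) Nat.card_pos
  have hFN : fitOf H ≤ normalizer (A : Set S) := hA.2.1
  have hFcop : (Nat.card (fitOf H)).Coprime n := by
    apply Nat.coprime_of_dvd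
    intro p hp hpF hpn
    exact hn p hp hpn (hH.1 p hp (hpF.trans (Subgroup.card_dvd_of_le (fitOf_le H))))
  obtain ⟨H₂, hH₂N, hH₂card, hFH₂⟩ := Cfsg.Agent.Lib.Helper19.HallRel.exists_hall_ge
    (normalizer (A : Set S)) m n hNmn hcop (fitOf H) hFN hFcop
  have c : Ctx π H A H₂ := ⟨h2, h3, hH, hA, hB, hH₂N, by rw [hH₂card]; exact hm, hFH₂⟩
  intro x hxC q hq hqπ k hxk
  have hxN : x ∈ normalizer (A : Set S) := Subgroup.centralizer_le_normalizer _ hxC
  have hle : zpowers x ≤ normalizer (A : Set S) := by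
    rw [Subgroup.zpowers_le]; exact hxN
  have hcop' : (Nat.card (zpowers x)).Coprime n := by
    rw [Nat.card_zpowers]
    have h1 : orderOf x ∣ q ^ k := orderOf_dvd_of_pow_eq_one hxk
    have h2 : (q ^ k).Coprime n := by
      apply Nat.Coprime.pow_left
      rw [Nat.Prime.coprime_iff_not_dvd hq]
      intro hd
      exact hn q hq hd hqπ
    exact Nat.Coprime.coprime_dvd_left h1 h2
  obtain ⟨g, hgN, hUg⟩ := Cfsg.Agent.Lib.Helper19.HallRel.exists_conj_le
    (normalizer (A : Set S)) m n hNmn hcop H₂ hH₂N hH₂card (zpowers x) hle hcop'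
  have hyH : g⁻¹ * x * g ∈ H₂ := by
    have := hUg (Subgroup.mem_zpowers x)
    rw [Subgroup.mem_pointwise_smul_iff_inv_smul_mem] at this
    simpa using this
  have hyC : g⁻¹ * x * g ∈ centralizer (A : Set S) := by
    have := conj_mem_centralizer_h19 (inv_mem hgN) hxC
    rwa [inv_inv] at this
  have hyA : g⁻¹ * x * g ∈ A := c.K_le ⟨hyH, hyC⟩
  have := conj_mem_of_mem_normalizer_h19 hgN hyA
  have he : g * (g⁻¹ * x * g) * g⁻¹ = x := by group
  rwa [he] at this

end Cfsg.Agent.Lib.Helper19.SCNHall
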