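import Mathlib
import Cfsg.Agent.Lib.Helper19.SCNHall3
import Cfsg.Agent.Lib.Helper22.FStar
import Cfsg.Agent.Lib.Helper1.Basic

set_option autoImplicit false
set_option linter.style.haveILetI false
set_option linter.unusedSectionVars false

/-!
# Self-centralizing normal subgroups of the Fitting subgroup of a Hall subgroup, part 4

The reduction modulo a normal `π'`-subgroup, the induction, and the splitting `C_S(A) = A × D`.
-/

namespace Cfsg.Agent.Lib.Helper19.SCNHall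

open Subgroup Cfsg
open scoped commutatorElement Pointwise

universe u v

/-- the main claim: `π`-elements of `C_S(A)` lie in `A` -/
def MC (S : Type u) [Group S] : Prop :=
  ∀ (π : Set ℕ), 2 ∉ π → 3 ∉ π → ∀ H : Subgroup S, IsPiHall π H → ∀ A : Subgroup S,
    IsSCN (fitOf H) A → ∀ x ∈ centralizer (A : Set S), ∀ q : ℕ, q.Prime → q ∈ π →
      ∀ k : ℕ, x ^ (q ^ k) = 1 → x ∈ A

variable {S : Type u} [Group S]

/-- `F(H)` maps onto `F(φ H)` when `φ` is injective on `H` -/
theorem fitOf_map {Q : Type v} [Group Q] (φ : S →* Q) (H : Subgroup S) (hH : H ⊓ φ.ker = ⊥) :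
    fitOf (H.map φ) = (fitOf H).map φ := by
  have hinj : Function.Injective (φ.subgroupMap H) := by
    rw [injective_iff_map_eq_one]
    intro x hx
    have h1 : φ (x : S) = 1 := by
      have := congrArg Subtype.val hx
      simpa using this
    have h2 : (x : S) ∈ H ⊓ φ.ker := ⟨x.2, (MonoidHom.mem_ker).2 h1⟩
    rw [hH, Subgroup.mem_bot] at h2
    exact Subtype.ext h2
  set e : ↥H ≃* ↥(H.map φ) :=
    MulEquiv.ofBijective (φ.subgroupMap H) ⟨hinj, φ.subgroupMap_surjective H⟩ with he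
  have h1 := Cfsg.Agent.Lib.Helper22.fittingSubgroup_map_equiv e
  unfold fitOf
  rw [← h1, Subgroup.map_map, Subgroup.map_map]
  congr 1

variable [Finite S]

/-- **Case A.** Reduction modulo a normal `π'`-subgroup. -/
theorem caseA (π : Set ℕ) (h2 : 2 ∉ π) (h3 : 3 ∉ π) (H : Subgroup S)
    (hH : IsPiHall π H) (A : Subgroup S) (hA : IsSCN (fitOf H) A) (W : Subgroup S) [W.Normal]
    (hWπ : ∀ p : ℕ, p.Prime → p ∣ Nat.card W → p ∉ π) (ih : MC (S ⧸ W)) :
    ∀ x ∈ centralizer (A : Set S), ∀ q : ℕ, q.Prime → q ∈ π → ∀ k : ℕ, x ^ (q ^ k) = 1 →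
      x ∈ A := by
  have hHW : H ⊓ W = ⊥ := by
    rw [← Subgroup.card_eq_one]
    by_contra hne
    obtain ⟨p, hp, hpd⟩ := Nat.exists_prime_and_dvd hne
    exact hWπ p hp (hpd.trans (Subgroup.card_dvd_of_le inf_le_right))
      (hH.1 p hp (hpd.trans (Subgroup.card_dvd_of_le inf_le_left)))
  have hAH : A ≤ H := hA.1.trans (fitOf_le H)
  set φ := QuotientGroup.mk' W with hφ
  have hker : φ.ker = W := QuotientGroup.ker_mk' W
  have hmemW : ∀ w : S, φ w = 1 → w ∈ W := by
    intro w hw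
    rw [← hker]; exact (MonoidHom.mem_ker).2 hw
  have hfit : fitOf (H.map φ) = (fitOf H).map φ := fitOf_map φ H (by rw [hker]; exact hHW)
  have hHb : IsPiHall π (H.map φ) := by
    refine ⟨fun p hp hd => hH.1 p hp (hd.trans (Subgroup.card_map_dvd H φ)), ?_⟩
    intro p hp hpπ hd
    exact hH.2 p hp hpπ (hd.trans (Subgroup.index_map_dvd H (QuotientGroup.mk'_surjective W)))
  have hAab : ∀ a ∈ A, ∀ b ∈ A, b * a = a * b := fun a ha b hb =>
    Subgroup.mem_centralizer_iff.1 (isSCN_le_centralizer hA ha) b hb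
  have hAb : IsSCN (fitOf (H.map φ)) (A.map φ) := by
    rw [hfit]
    refine ⟨Subgroup.map_mono hA.1,
      (Subgroup.map_mono hA.2.1).trans (Subgroup.le_normalizer_map φ), ?_⟩
    apply le_antisymm
    · rintro z ⟨⟨f, hfF, rfl⟩, hzC⟩
      refine ⟨f, ?_, rfl⟩
      apply isSCN_mem hA hfF
      rw [Subgroup.mem_centralizer_iff]
      intro a ha
      have h1 := Subgroup.mem_centralizer_iff.1 hzC (φ a) ⟨a, ha, rfl⟩
      have hw : φ ((f * a)⁻¹ * (a * f)) = 1 := by
        rw [map_mul, map_inv, map_mul, map_mul, h1]; group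
      have hwW := hmemW _ hw
      have hfH : f ∈ H := fitOf_le H hfF
      have hwH : (f * a)⁻¹ * (a * f) ∈ H :=
        H.mul_mem (H.inv_mem (H.mul_mem hfH (hAH ha))) (H.mul_mem (hAH ha) hfH)
      have h2 : (f * a)⁻¹ * (a * f) ∈ H ⊓ W := ⟨hwH, hwW⟩
      rw [hHW, Subgroup.mem_bot] at h2
      calc a * f = (f * a) * ((f * a)⁻¹ * (a * f)) := by group
        _ = f * a := by rw [h2, mul_one]
    · apply le_inf (Subgroup.map_mono hA.1)
      rintro _ ⟨a, ha, rfl⟩
      rw [Subgroup.mem_centralizer_iff]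
      rintro _ ⟨b, hb, rfl⟩
      rw [← map_mul, ← map_mul, hAab a ha b hb]
  intro x hxC q hq hqπ k hxk
  have hxC' := Subgroup.mem_centralizer_iff.1 hxC
  have hxbC : φ x ∈ centralizer ((A.map φ : Subgroup (S ⧸ W)) : Set (S ⧸ W)) := by
    rw [Subgroup.mem_centralizer_iff]
    rintro _ ⟨b, hb, rfl⟩
    rw [← map_mul, ← map_mul, hxC' b hb]
  have hxb := ih π h2 h3 (H.map φ) hHb (A.map φ) hAb (φ x) hxbC q hq hqπ k
    (by rw [← map_pow, hxk, map_one])
  obtain ⟨a, haA, hax⟩ := hxb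
  have hwW : a⁻¹ * x ∈ W := by
    apply hmemW
    rw [map_mul, map_inv, hax]; group
  have hcomm : Commute a⁻¹ x := by
    have h1 : a * x = x * a := hxC' a haA
    have : a⁻¹ * x = x * a⁻¹ := by
      calc a⁻¹ * x = a⁻¹ * (x * a) * a⁻¹ := by group
        _ = a⁻¹ * (a * x) * a⁻¹ := by rw [h1]
        _ = x * a⁻¹ := by group
    exact this
  have hpow : (a⁻¹ * x) ^ (q ^ k) = (a⁻¹) ^ (q ^ k) := by
    rw [hcomm.mul_pow, hxk, mul_one]
  have hpowA : (a⁻¹ * x) ^ (q ^ k) ∈ A := by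
    rw [hpow]; exact A.pow_mem (A.inv_mem haA) _
  have hpow1 : (a⁻¹ * x) ^ (q ^ k) = 1 := by
    have h2 : (a⁻¹ * x) ^ (q ^ k) ∈ H ⊓ W := ⟨hAH hpowA, W.pow_mem hwW _⟩
    rw [hHW, Subgroup.mem_bot] at h2
    exact h2
  have hord1 : orderOf (a⁻¹ * x) ∣ q ^ k := orderOf_dvd_of_pow_eq_one hpow1
  have hord2 : orderOf (a⁻¹ * x) ∣ Nat.card W := Subgroup.orderOf_dvd_natCard W hwW
  have hcop : (q ^ k).Coprime (Nat.card W) := by
    apply Nat.Coprime.pow_left
    rw [Nat.Prime.coprime_iff_not_dvd hq]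
    intro hd
    exact hWπ q hq hd hqπ
  have hone : orderOf (a⁻¹ * x) = 1 := Nat.eq_one_of_dvd_coprimes hcop hord1 hord2
  have hw1 : a⁻¹ * x = 1 := orderOf_eq_one_iff.1 hone
  have : x = a := by
    calc x = a * (a⁻¹ * x) := by group
      _ = a := by rw [hw1, mul_one]
  rw [this]; exact haA

/-- the main claim holds in every finite solvable group -/
theorem mc_all (S : Type u) [Group S] [Finite S] [hs : Group.IsSolvable S] : MC S := by
  refine Cfsg.Agent.Lib.Helper1.finite_group_induction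
    (fun G _ => Group.IsSolvable G → MC G) ?_ S hs
  intro G _ _ ih hs π h2 h3 H hH A hA
  by_cases hW : ∃ W : Subgroup G, W.Normal ∧ W ≠ ⊥ ∧
      ∀ p : ℕ, p.Prime → p ∣ Nat.card W → p ∉ π
  · obtain ⟨W, hWn, hWne, hWπ⟩ := hW
    haveI := hWn
    have hlt : Nat.card (G ⧸ W) < Nat.card G := by
      rw [Subgroup.card_eq_card_quotient_mul_card_subgroup W]
      have h1 : 1 < Nat.card W := (Subgroup.one_lt_card_iff_ne_bot W).2 hWne
      have h0 : 0 < Nat.card (G ⧸ W) := Nat.card_pos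
      nlinarith
    exact caseA π h2 h3 H hH A hA W hWπ (ih (G ⧸ W) hlt inferInstance)
  · have hB : ∀ W : Subgroup G, W.Normal → (∀ p : ℕ, p.Prime → p ∣ Nat.card W → p ∉ π) →
        W = ⊥ := by
      intro W hWn hWπ
      by_contra hne
      exact hW ⟨W, hWn, hne, hWπ⟩
    exact caseB π h2 h3 H hH A hA hB

/-- **The splitting `C_S(A) = A × D`.** -/
theorem scn_split [hs : Group.IsSolvable S]
    (π : Set ℕ) (h2 : 2 ∉ π) (h3 : 3 ∉ π) (H : Subgroup S) (hH : IsPiHall π H)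
    (A : Subgroup S) (hA : IsSCN (fitOf H) A) :
    ∃ D : Subgroup S, D ≤ centralizer (A : Set S) ∧
      (∀ c ∈ centralizer (A : Set S), ∀ d ∈ D, c * d * c⁻¹ ∈ D) ∧
      A ⊓ D = ⊥ ∧ A ⊔ D = centralizer (A : Set S) ∧
      ∀ q : ℕ, q.Prime → q ∣ Nat.card D → q ∉ π := by
  have hmc := mc_all S π h2 h3 H hH A hA
  set C := centralizer (A : Set S) with hC
  have hAC : A ≤ C := isSCN_le_centralizer hA
  set A' : Subgroup ↥C := A.subgroupOf C with hA'
  have hA'cen : A' ≤ center ↥C := by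
    intro a ha
    rw [hA', Subgroup.mem_subgroupOf] at ha
    rw [Subgroup.mem_center_iff]
    intro c
    apply Subtype.ext
    have := Subgroup.mem_centralizer_iff.1 c.2 (a : S) ha
    simpa using this.symm
  haveI hA'n : A'.Normal := by
    constructor
    intro a ha c
    have h1 := Subgroup.mem_center_iff.1 (hA'cen ha) c
    have : c * a * c⁻¹ = a := by
      calc c * a * c⁻¹ = (a * c) * c⁻¹ := by rw [h1]
        _ = a := by group
    rw [this]; exact ha
  have hidx : ∀ p : ℕ, p.Prime → p ∈ π → ¬ p ∣ A'.index := by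
    intro p hp hpπ hd
    haveI : Fact p.Prime := ⟨hp⟩
    obtain ⟨P⟩ : Nonempty (Sylow p ↥C) := inferInstance
    have hPA : (P : Subgroup ↥C) ≤ A' := by
      intro x hx
      obtain ⟨k, hk⟩ := P.2 ⟨x, hx⟩
      have hk' : (x : S) ^ (p ^ k) = 1 := by
        have := congrArg (fun z : ↥(P : Subgroup ↥C) => ((z : ↥C) : S)) hk
        simpa using this
      rw [hA', Subgroup.mem_subgroupOf]
      exact hmc (x : S) x.2 p hp hpπ k hk'
    exact P.not_dvd_index (hd.trans (Subgroup.index_dvd_of_le hPA))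
  have hcop : (Nat.card A').Coprime A'.index := by
    apply Nat.coprime_of_dvd
    intro p hp hpA hpi
    have hcard : Nat.card A' = Nat.card A :=
      Nat.card_congr (Subgroup.subgroupOfEquivOfLe hAC).toEquiv
    rw [hcard] at hpA
    have hpπ : p ∈ π :=
      hH.1 p hp (hpA.trans (Subgroup.card_dvd_of_le (hA.1.trans (fitOf_le H))))
    exact hidx p hp hpπ hpi
  obtain ⟨D', hD'⟩ := Subgroup.exists_right_complement'_of_coprime hcop
  have hdisj : A' ⊓ D' = ⊥ := hD'.disjoint.eq_bot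
  have hsup : A' ⊔ D' = ⊤ := hD'.sup_eq_top
  have hD'n : ∀ c : ↥C, c ∈ normalizer (D' : Set ↥C) := by
    intro c
    have h1 : A' ⊔ D' ≤ normalizer (D' : Set ↥C) :=
      sup_le (hA'cen.trans (Subgroup.center_le_normalizer _)) Subgroup.le_normalizer
    rw [hsup] at h1
    exact h1 (Subgroup.mem_top c)
  refine ⟨D'.map C.subtype, Subgroup.map_subtype_le D', ?_, ?_, ?_, ?_⟩
  · rintro c hc _ ⟨d, hd, rfl⟩
    refine ⟨⟨c, hc⟩ * d * ⟨c, hc⟩⁻¹, ?_, by simp⟩
    exact (Subgroup.mem_normalizer_iff.1 (hD'n ⟨c, hc⟩) d).1 hd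
  · rw [eq_bot_iff]
    rintro x ⟨hxA, ⟨d, hd, rfl⟩⟩
    have h1 : d ∈ A' ⊓ D' := ⟨Subgroup.mem_subgroupOf.2 hxA, hd⟩
    rw [hdisj, Subgroup.mem_bot] at h1
    rw [h1]; simp
  · have h1 := congrArg (Subgroup.map C.subtype) hsup
    rw [Subgroup.map_sup, hA', Subgroup.map_subgroupOf_eq_of_le hAC, ← MonoidHom.range_eq_map,
      Subgroup.range_subtype] at h1
    exact h1
  · intro q hq hqd hqπ
    rw [Subgroup.card_map_of_injective (Subgroup.subtype_injective C)] at hqd
    have h1 : A'.index = Nat.card D' := hD'.symm.index_eq_card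
    rw [← h1] at hqd
    exact hidx q hq hqπ hqd

end Cfsg.Agent.Lib.Helper19.SCNHall
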