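import Mathlib
import Cfsg.Prelude.Def_Classical
import Cfsg.Prelude.Def_LieClassical
import Cfsg.Agent.Lib.Helper14.TuDefs
import Cfsg.Agent.Lib.Helper80.TuD1gen

/-! # Tu hive (S5953, helper14), leaf TU-D2A, generic part (helper19)

The block matrix `diag(U_0, …, U_{t-1}, D)` transported to `Fin n`, as an algebra homomorphism
(so that polynomials can be evaluated blockwise), its determinant, action on vectors, fixed space. -/

set_option autoImplicit false

namespace Cfsg.Agent.Lib.Helper14.Tu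

open Cfsg.Agent.Lib.Helper40.Herm Cfsg.Agent.Lib.Helper2.BG Polynomial Module Matrix

section d2agen

variable {F : Type*} [Field F] {c t k n : ℕ}

/-- the block matrix `diag(U_0, …, U_{t-1}, D)` on `(Fin c × Fin t) ⊕ Fin k` -/
def d2a_Y0 (U : Fin t → Matrix (Fin c) (Fin c) F) (D : Matrix (Fin k) (Fin k) F) :
    Matrix ((Fin c × Fin t) ⊕ Fin k) ((Fin c × Fin t) ⊕ Fin k) F :=
  Matrix.fromBlocks (Matrix.blockDiagonal U) 0 0 D

/-- the same matrix transported to `Fin n` -/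
def d2a_Y (e : (Fin c × Fin t) ⊕ Fin k ≃ Fin n) (U : Fin t → Matrix (Fin c) (Fin c) F)
    (D : Matrix (Fin k) (Fin k) F) : Matrix (Fin n) (Fin n) F :=
  (d2a_Y0 U D).submatrix e.symm e.symm

theorem d2a_Y_mul (e : (Fin c × Fin t) ⊕ Fin k ≃ Fin n) (U U' : Fin t → Matrix (Fin c) (Fin c) F)
    (D D' : Matrix (Fin k) (Fin k) F) :
    d2a_Y e U D * d2a_Y e U' D' = d2a_Y e (U * U') (D * D') := by
  unfold d2a_Y d2a_Y0
  rw [Matrix.submatrix_mul_equiv, Matrix.fromBlocks_multiply,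
    show (U * U') = fun s => U s * U' s from rfl, Matrix.blockDiagonal_mul]
  simp

theorem d2a_Y_one (e : (Fin c × Fin t) ⊕ Fin k ≃ Fin n) :
    d2a_Y e (1 : Fin t → Matrix (Fin c) (Fin c) F) (1 : Matrix (Fin k) (Fin k) F) = 1 := by
  unfold d2a_Y d2a_Y0
  rw [Matrix.blockDiagonal_one, Matrix.fromBlocks_one, Matrix.submatrix_one_equiv]

theorem d2a_Y_add (e : (Fin c × Fin t) ⊕ Fin k ≃ Fin n) (U U' : Fin t → Matrix (Fin c) (Fin c) F)
    (D D' : Matrix (Fin k) (Fin k) F) :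
    d2a_Y e (U + U') (D + D') = d2a_Y e U D + d2a_Y e U' D' := by
  unfold d2a_Y d2a_Y0
  rw [Matrix.blockDiagonal_add]
  have h : Matrix.fromBlocks (Matrix.blockDiagonal U + Matrix.blockDiagonal U') 0 0 (D + D') =
      Matrix.fromBlocks (Matrix.blockDiagonal U) 0 0 D +
        Matrix.fromBlocks (Matrix.blockDiagonal U') 0 0 D' := by
    rw [Matrix.fromBlocks_add]
    simp
  rw [h]
  rfl

theorem d2a_Y_smul (e : (Fin c × Fin t) ⊕ Fin k ≃ Fin n) (a : F)
    (U : Fin t → Matrix (Fin c) (Fin c) F) (D : Matrix (Fin k) (Fin k) F) :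
    d2a_Y e (a • U) (a • D) = a • d2a_Y e U D := by
  unfold d2a_Y d2a_Y0
  rw [Matrix.blockDiagonal_smul]
  have h : Matrix.fromBlocks (a • Matrix.blockDiagonal U) 0 0 (a • D) =
      a • Matrix.fromBlocks (Matrix.blockDiagonal U) 0 0 D := by
    rw [Matrix.fromBlocks_smul]
    simp
  rw [h]
  rfl

/-- `(U, D) ↦ diag(U, D)` as an algebra homomorphism -/
noncomputable def d2a_hom (e : (Fin c × Fin t) ⊕ Fin k ≃ Fin n) :
    ((Fin t → Matrix (Fin c) (Fin c) F) × Matrix (Fin k) (Fin k) F) →ₐ[F] Matrix (Fin n) (Fin n) F :=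
  AlgHom.ofLinearMap
    { toFun := fun x => d2a_Y e x.1 x.2
      map_add' := fun x y => d2a_Y_add e x.1 y.1 x.2 y.2
      map_smul' := fun a x => d2a_Y_smul e a x.1 x.2 }
    (d2a_Y_one e)
    (fun x y => (d2a_Y_mul e x.1 y.1 x.2 y.2).symm)

theorem d2a_hom_apply (e : (Fin c × Fin t) ⊕ Fin k ≃ Fin n)
    (x : (Fin t → Matrix (Fin c) (Fin c) F) × Matrix (Fin k) (Fin k) F) :
    d2a_hom e x = d2a_Y e x.1 x.2 := rfl

/-- polynomials are evaluated blockwise -/
theorem d2a_aeval (e : (Fin c × Fin t) ⊕ Fin k ≃ Fin n) (U : Fin t → Matrix (Fin c) (Fin c) F)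
    (D : Matrix (Fin k) (Fin k) F) (P : F[X]) :
    aeval (d2a_Y e U D) P = d2a_Y e (fun s => aeval (U s) P) (aeval D P) := by
  have h1 : aeval (d2a_hom e (U, D)) P = d2a_hom e (aeval (U, D) P) :=
    Polynomial.aeval_algHom_apply (d2a_hom e) (U, D) P
  rw [d2a_hom_apply, d2a_hom_apply] at h1
  rw [h1]
  have h2 : (aeval (U, D) P).1 = fun s => aeval (U s) P := by
    have h3 : (aeval (U, D) P).1 = aeval U P := by
      have := Polynomial.aeval_algHom_apply
        (AlgHom.fst F (Fin t → Matrix (Fin c) (Fin c) F) (Matrix (Fin k) (Fin k) F)) (U, D) P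
      simpa using this.symm
    rw [h3]
    funext s
    have := Polynomial.aeval_algHom_apply
      (Pi.evalAlgHom F (fun _ : Fin t => Matrix (Fin c) (Fin c) F) s) U P
    simpa using this.symm
  have h4 : (aeval (U, D) P).2 = aeval D P := by
    have := Polynomial.aeval_algHom_apply
      (AlgHom.snd F (Fin t → Matrix (Fin c) (Fin c) F) (Matrix (Fin k) (Fin k) F)) (U, D) P
    simpa using this.symm
  rw [h2, h4]

theorem d2a_Y_pow (e : (Fin c × Fin t) ⊕ Fin k ≃ Fin n) (U : Fin t → Matrix (Fin c) (Fin c) F)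
    (D : Matrix (Fin k) (Fin k) F) (r : ℕ) :
    d2a_Y e U D ^ r = d2a_Y e (fun s => U s ^ r) (D ^ r) := by
  induction r with
  | zero =>
    simp only [pow_zero]
    exact (d2a_Y_one e).symm
  | succ r ih =>
    rw [pow_succ, ih, d2a_Y_mul]
    congr 1

theorem d2a_Y_det (e : (Fin c × Fin t) ⊕ Fin k ≃ Fin n) (U : Fin t → Matrix (Fin c) (Fin c) F)
    (D : Matrix (Fin k) (Fin k) F) :
    (d2a_Y e U D).det = (∏ s, (U s).det) * D.det := by
  unfold d2a_Y d2a_Y0
  rw [Matrix.det_submatrix_equiv_self, Matrix.det_fromBlocks_zero₂₁, Matrix.det_blockDiagonal]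

/-- the action on vectors, in block coordinates -/
theorem d2a_Y_mulVec (e : (Fin c × Fin t) ⊕ Fin k ≃ Fin n) (U : Fin t → Matrix (Fin c) (Fin c) F)
    (D : Matrix (Fin k) (Fin k) F) (v : Fin n → F) :
    (∀ (a : Fin c) (s : Fin t), (d2a_Y e U D *ᵥ v) (e (Sum.inl (a, s))) =
      (U s *ᵥ fun a' => v (e (Sum.inl (a', s)))) a) ∧
    (∀ j : Fin k, (d2a_Y e U D *ᵥ v) (e (Sum.inr j)) =
      (D *ᵥ fun j' => v (e (Sum.inr j'))) j) := by
  unfold d2a_Y d2a_Y0
  rw [Matrix.submatrix_mulVec_equiv, Matrix.fromBlocks_mulVec]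
  constructor
  · intro a s
    simp only [Function.comp_apply, Equiv.symm_apply_apply, Sum.elim_inl, Equiv.symm_symm,
      Matrix.zero_mulVec, add_zero]
    simp only [Matrix.mulVec, dotProduct, Matrix.blockDiagonal_apply, Fintype.sum_prod_type,
      Function.comp_apply]
    apply Finset.sum_congr rfl
    intro a' _
    rw [Finset.sum_eq_single s]
    · simp
    · intro s' _ hs'
      simp [Ne.symm hs']
    · intro h
      exact absurd (Finset.mem_univ s) h
  · intro j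
    simp only [Function.comp_apply, Equiv.symm_apply_apply, Sum.elim_inr, Equiv.symm_symm,
      Matrix.zero_mulVec, zero_add]
    rfl

theorem d2a_preserves (q : ℕ) (e : (Fin c × Fin t) ⊕ Fin k ≃ Fin n)
    (U : Fin t → Matrix (Fin c) (Fin c) F)
    (hU : ∀ s, ∀ u v : Fin c → F,
      Cfsg.hermForm c F q (U s *ᵥ u) (U s *ᵥ v) = Cfsg.hermForm c F q u v)
    (u v : Fin n → F) :
    Cfsg.hermForm n F q (d2a_Y e U 1 *ᵥ u) (d2a_Y e U 1 *ᵥ v) = Cfsg.hermForm n F q u v := by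
  rw [d1_herm_split q e, d1_herm_split q e u v]
  congr 1
  · apply Finset.sum_congr rfl
    intro s _
    have h1 : (fun a => (d2a_Y e U 1 *ᵥ u) (e (Sum.inl (a, s)))) =
        U s *ᵥ fun a' => u (e (Sum.inl (a', s))) := by
      funext a
      exact (d2a_Y_mulVec e U 1 u).1 a s
    have h2 : (fun a => (d2a_Y e U 1 *ᵥ v) (e (Sum.inl (a, s)))) =
        U s *ᵥ fun a' => v (e (Sum.inl (a', s))) := by
      funext a
      exact (d2a_Y_mulVec e U 1 v).1 a s
    rw [h1, h2, hU]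
  · apply Finset.sum_congr rfl
    intro j _
    rw [(d2a_Y_mulVec e U 1 u).2 j, (d2a_Y_mulVec e U 1 v).2 j, Matrix.one_mulVec,
      Matrix.one_mulVec]

theorem d2a_fixed (e : (Fin c × Fin t) ⊕ Fin k ≃ Fin n) (U : Fin t → Matrix (Fin c) (Fin c) F)
    (hfpf : ∀ s, ∀ w : Fin c → F, U s *ᵥ w = w → w = 0) (v : Fin n → F)
    (hv : d2a_Y e U 1 *ᵥ v = v) (a : Fin c) (s : Fin t) : v (e (Sum.inl (a, s))) = 0 := by
  have h1 : (U s *ᵥ fun a' => v (e (Sum.inl (a', s)))) = fun a' => v (e (Sum.inl (a', s))) := by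
    funext a'
    rw [← (d2a_Y_mulVec e U 1 v).1 a' s, hv]
  exact congrFun (hfpf s _ h1) a

theorem d2a_finrank_ker_le (e : (Fin c × Fin t) ⊕ Fin k ≃ Fin n)
    (U : Fin t → Matrix (Fin c) (Fin c) F)
    (hfpf : ∀ s, ∀ w : Fin c → F, U s *ᵥ w = w → w = 0) :
    finrank F ↥(LinearMap.ker (Matrix.toLin' (d2a_Y e U 1) - 1)) ≤ k := by
  have hker : ∀ v : Fin n → F, v ∈ LinearMap.ker (Matrix.toLin' (d2a_Y e U 1) - 1) →
      d2a_Y e U 1 *ᵥ v = v := by
    intro v hv
    rw [LinearMap.mem_ker, LinearMap.sub_apply, Matrix.toLin'_apply, Module.End.one_apply,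
      sub_eq_zero] at hv
    exact hv
  let φ : ↥(LinearMap.ker (Matrix.toLin' (d2a_Y e U 1) - 1)) →ₗ[F] (Fin k → F) :=
    (LinearMap.funLeft F F (fun j : Fin k => e (Sum.inr j))).comp (Submodule.subtype _)
  have hφ : ∀ v, φ v = fun j => v.1 (e (Sum.inr j)) := fun v => rfl
  have hinj : Function.Injective φ := by
    rw [← LinearMap.ker_eq_bot, LinearMap.ker_eq_bot']
    intro v hv
    apply Subtype.ext
    funext i
    obtain ⟨j, rfl⟩ := e.surjective i
    rcases j with ⟨a, s⟩ | j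
    · exact d2a_fixed e U hfpf v.1 (hker v.1 v.2) a s
    · have := congrFun hv j
      rw [hφ] at this
      exact this
  have := LinearMap.finrank_le_finrank_of_injective hinj
  rwa [Module.finrank_fintype_fun_eq_card, Fintype.card_fin] at this

end d2agen

end Cfsg.Agent.Lib.Helper14.Tu
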