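import Mathlib
import Cfsg.Prelude.Def_Classical
import Cfsg.Prelude.Def_LieClassical
import Cfsg.Agent.Lib.Helper14.TuDefs
import Cfsg.Agent.Lib.Helper2.TuARC
import Cfsg.Agent.Lib.Helper61.UfU1
import Cfsg.Agent.Lib.Helper75.UfAR1
import Cfsg.Agent.Lib.Helper5.UnitaryCard
import Cfsg.Agent.Lib.Helper13.GU

/-! # Tu hive (S5953, helper14): leaf TU-FPF `exists_fpf` (helper19)

`GU_c(q)`, `c = ord_r(-q)`, contains an element of order `r` without nonzero fixed vectors (Cauchy + the rank
argument of the Uf hive: `r ∣ |GU_d(q)|` for `d = rank (u - 1)` forces `c ≤ d`). -/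

set_option autoImplicit false

open scoped MatrixGroups
open Matrix

namespace Cfsg.Agent.Lib.Helper14.Tu

section ex
variable {F : Type*} [Field F] [Fintype F] {p : ℕ} [Fact p.Prime] [CharP F p] {q : ℕ}

omit [Fintype F] in
/-- a square matrix of full rank has trivial kernel -/
theorem fpf_ker_of_rank {n : ℕ} (A : Matrix (Fin n) (Fin n) F) (hA : A.rank = n) (v : Fin n → F)
    (hv : A.mulVec v = 0) : v = 0 := by
  have h1 : Module.finrank F (LinearMap.range A.mulVecLin) = Module.finrank F (Fin n → F) := by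
    rw [Module.finrank_fin_fun]
    exact hA
  have h2 : LinearMap.range A.mulVecLin = ⊤ := Submodule.eq_top_of_finrank_eq h1
  have h3 : Function.Surjective A.mulVecLin := LinearMap.range_eq_top.mp h2
  have h4 : Function.Injective A.mulVecLin := LinearMap.injective_iff_surjective.mpr h3
  apply h4
  rw [map_zero]
  exact hv

/-- TU-FPF. -/
theorem exists_fpf (hq : Fintype.card F = q ^ 2) (r : ℕ) (hr : r.Prime) (hr2 : r ≠ 2) (hrp : r ≠ p)
    (c : ℕ) (hc : c = cOf (orderOf (q : ZMod r))) :
    ∃ u : GL (Fin c) F, u ∈ Cfsg.GU c F q ∧ u ^ r = 1 ∧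
      (∀ v : Fin c → F, (u : Matrix (Fin c) (Fin c) F).mulVec v = v → v = 0) ∧
      (¬ r ∣ q + 1 → Matrix.GeneralLinearGroup.det u = 1) := by
  have : Fact r.Prime := ⟨hr⟩
  have hp : p.Prime := Fact.out
  obtain ⟨f, hf0, hqf⟩ := q_eq_pow (F := F) (p := p) hq
  -- `r ∤ q`
  have hrq : ¬ r ∣ q := by
    intro h
    rw [hqf] at h
    have := hr.dvd_of_dvd_pow h
    exact hrp ((Nat.prime_dvd_prime_iff_eq hr hp).mp this)
  have hq0 : (q : ZMod r) ≠ 0 := by
    intro h
    exact hrq ((ZMod.natCast_eq_zero_iff q r).mp h)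
  have hrF : (r : F) ≠ 0 := by
    intro h
    have := (CharP.cast_eq_zero_iff F p r).mp h
    exact hrp ((Nat.prime_dvd_prime_iff_eq hp hr).mp this).symm
  -- `c` is the order of `-q`
  have hord : orderOf (-(q : ZMod r)) = c := by
    rw [hc]; exact arc_orderOf_neg r hr hr2 _ hq0
  have hnq0 : -(q : ZMod r) ≠ 0 := neg_ne_zero.mpr hq0
  have hc0 : 0 < c := by
    rw [← hord]
    apply orderOf_pos_iff.mpr
    exact isOfFinOrder_iff_pow_eq_one.mpr
      ⟨r - 1, by have := hr.two_le; omega, ZMod.pow_card_sub_one_eq_one hnq0⟩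
  have hpow : (-(q : ZMod r)) ^ c = 1 := by rw [← hord]; exact pow_orderOf_eq_one _
  have hq1 : 1 ≤ q := by
    rcases Nat.eq_zero_or_pos q with h0 | h0
    · exact absurd (h0 ▸ dvd_zero r) hrq
    · exact h0
  -- `r ∣ |GU_c(q)|`
  have hdvd : r ∣ Nat.card (Cfsg.GU c F q) := by
    rw [Cfsg.Agent.Lib.Helper5.card_GU hq c]
    apply Dvd.dvd.mul_left
    have hmem : c - 1 ∈ Finset.range c := Finset.mem_range.mpr (by omega)
    apply Dvd.dvd.trans _ (Finset.dvd_prod_of_mem _ hmem)
    have hc1 : c - 1 + 1 = c := by omega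
    rw [hc1]
    split_ifs with hev
    · -- `c` odd
      have hodd : Odd c := by
        rcases Nat.even_or_odd c with h | h
        · exfalso
          have : Odd (c - 1) := by
            obtain ⟨k, hk⟩ := h
            exact ⟨k - 1, by omega⟩
          exact (Nat.not_even_iff_odd.mpr this) hev
        · exact h
      rw [neg_pow, hodd.neg_one_pow] at hpow
      apply (ZMod.natCast_eq_zero_iff _ _).mp
      push_cast
      linear_combination -hpow
    · have hevc : Even c := by
        rcases Nat.even_or_odd c with h | h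
        · exact h
        · exfalso
          apply hev
          obtain ⟨k, hk⟩ := h
          exact ⟨k, by omega⟩
      rw [hevc.neg_pow] at hpow
      apply (ZMod.natCast_eq_zero_iff _ _).mp
      rw [Nat.cast_sub (Nat.one_le_pow _ _ hq1)]
      push_cast
      linear_combination hpow
  -- Cauchy
  obtain ⟨g, hg⟩ := exists_prime_orderOf_dvd_card' r hdvd
  have hgr : g ^ r = 1 := by rw [← hg]; exact pow_orderOf_eq_one g
  have hg1 : g ≠ 1 := by
    intro h
    rw [h, orderOf_one] at hg
    exact hr.one_lt.ne hg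
  refine ⟨(g : GL (Fin c) F), g.2, ?_, ?_, ?_⟩
  · have := congrArg Subtype.val hgr
    simpa using this
  · -- the rank argument
    have hur : (g : GL (Fin c) F) ^ r = 1 := by
      have := congrArg Subtype.val hgr
      simpa using this
    have hu1 : (g : GL (Fin c) F) ≠ 1 := by
      intro h
      apply hg1
      exact Subtype.ext h
    have h1 := Cfsg.Agent.Lib.Helper44.Uf.dvd_card_GU_rank hq r hr hrF (g : GL (Fin c) F) g.2 hur hu1
    obtain ⟨j, hj1, hjd, hj⟩ :=
      Cfsg.Agent.Lib.Helper44.Uf.exists_pow_eq_one_of_dvd_card_GU hq _ r hrq h1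
    have hcj : c ∣ j := by
      rw [← hord]; exact orderOf_dvd_of_pow_eq_one hj
    have hcle : c ≤ j := Nat.le_of_dvd (by omega) hcj
    have hrk : (((g : GL (Fin c) F) : Matrix (Fin c) (Fin c) F) - 1).rank ≤ c := by
      have := Matrix.rank_le_width (((g : GL (Fin c) F) : Matrix (Fin c) (Fin c) F) - 1)
      simpa using this
    have hrank : (((g : GL (Fin c) F) : Matrix (Fin c) (Fin c) F) - 1).rank = c := by omega
    intro v hv
    apply fpf_ker_of_rank _ hrank v
    rw [Matrix.sub_mulVec, hv, Matrix.one_mulVec, sub_self]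
  · intro hrq1
    have hd1 := Cfsg.Agent.Lib.Helper13.GU_det_pow hq c (g : GL (Fin c) F) g.2
    have hur : (g : GL (Fin c) F) ^ r = 1 := by
      have := congrArg Subtype.val hgr
      simpa using this
    have hd2 : ((g : GL (Fin c) F) : Matrix (Fin c) (Fin c) F).det ^ r = 1 := by
      rw [← Matrix.det_pow]
      have := congrArg (fun x : GL (Fin c) F => (x : Matrix (Fin c) (Fin c) F)) hur
      simp only [Units.val_pow_eq_pow_val, Units.val_one] at this
      rw [this, Matrix.det_one]
    have hcop : Nat.Coprime r (q + 1) := (Nat.Prime.coprime_iff_not_dvd hr).mpr hrq1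
    have hd3 : ((g : GL (Fin c) F) : Matrix (Fin c) (Fin c) F).det = 1 := by
      have := pow_gcd_eq_one.mpr ⟨hd2, hd1⟩
      rwa [Nat.Coprime.gcd_eq_one hcop, pow_one] at this
    apply Units.ext
    rw [Matrix.GeneralLinearGroup.val_det_apply, hd3, Units.val_one]

end ex

end Cfsg.Agent.Lib.Helper14.Tu
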