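import Mathlib
import Cfsg.Prelude.Def_Classical
import Cfsg.Prelude.Def_LieClassical
import Cfsg.Agent.Lib.Helper14.TuDefs
import Cfsg.Agent.Lib.Helper14.TuGlue
import Cfsg.Agent.Lib.Helper76.TuIRR
import Cfsg.Agent.Lib.Helper19.TuFPF

/-! # Tu hive (S5953, helper14), leaf TU-D2A, polynomial part (helper19)

The powers `u ^ t` of a fixed-point-free element `u` of order `r` of `GU_b(q)` realise at least
`(r - 1) / b` pairwise coprime irreducible factors of `Φ_r` as annihilating polynomials. -/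

set_option autoImplicit false

open scoped MatrixGroups

namespace Cfsg.Agent.Lib.Helper14.Tu

open Cfsg.Agent.Lib.Helper40.Herm Cfsg.Agent.Lib.Helper2.BG Polynomial Module Matrix

section bridge
variable {F : Type*} [Field F] {n : ℕ}

theorem d2a_toLin_aeval (A : Matrix (Fin n) (Fin n) F) (P : F[X]) :
    aeval (Matrix.toLin' A) P = Matrix.toLin' (aeval A P) := by
  have := Polynomial.aeval_algHom_apply (Matrix.toLinAlgEquiv' (R := F) (n := Fin n)).toAlgHom A P
  exact this

theorem d2a_map_aeval {L : Type*} [Field L] [Algebra F L] (A : Matrix (Fin n) (Fin n) F)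
    (P : F[X]) :
    (aeval A P).map (algebraMap F L) =
      aeval (A.map (algebraMap F L)) (P.map (algebraMap F L)) := by
  have := Polynomial.map_aeval_eq_aeval_map (R := F) (S := Matrix (Fin n) (Fin n) F) (T := L)
    (U := Matrix (Fin n) (Fin n) L)
    (φ := algebraMap F L) (ψ := (algebraMap F L).mapMatrix) ?_ P A
  · simpa using this
  · ext x i j
    simp [Matrix.algebraMap_matrix_apply]
    split_ifs <;> simp

/-- a polynomial killing `u ^ t` vanishes at `ω ^ t` for every eigenvalue `ω` of `u` over an extension -/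
theorem d2a_eval_eig {L : Type*} [Field L] [Algebra F L] (u : Matrix (Fin n) (Fin n) F) (ω : L)
    (v : Fin n → L)
    (hv : Module.End.HasEigenvector (Matrix.toLin' (u.map (algebraMap F L))) ω v) (t : ℕ)
    (Q : F[X]) (hQ : aeval (u ^ t) Q = 0) : (Q.map (algebraMap F L)).eval (ω ^ t) = 0 := by
  have h0 : (u ^ t).map (algebraMap F L) = (u.map (algebraMap F L)) ^ t := by
    have := map_pow (algebraMap F L).mapMatrix u t
    simpa [RingHom.mapMatrix_apply] using this
  have h1 : aeval ((u.map (algebraMap F L)) ^ t) (Q.map (algebraMap F L)) = 0 := by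
    have := d2a_map_aeval (L := L) (u ^ t) Q
    rw [hQ, h0] at this
    rw [← this]
    ext i j
    simp
  have h2 : aeval (u.map (algebraMap F L)) ((Q.map (algebraMap F L)).comp (X ^ t)) = 0 := by
    rw [Polynomial.aeval_comp]
    simpa using h1
  have h3 : aeval (Matrix.toLin' (u.map (algebraMap F L)))
      ((Q.map (algebraMap F L)).comp (X ^ t)) v = 0 := by
    rw [d2a_toLin_aeval, h2]
    simp
  rw [Module.End.aeval_apply_of_hasEigenvector hv] at h3
  have h4 := (smul_eq_zero.mp h3).resolve_right hv.2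
  rw [Polynomial.eval_comp] at h4
  simpa using h4

end bridge

section fam
variable {F : Type*} [Field F] [Fintype F] {p : ℕ} [Fact p.Prime] [CharP F p] {q : ℕ}

omit [Fintype F] in
/-- a power of `u` prime to its order has the same fixed vectors -/
theorem d2a_fpf_pow {b : ℕ} (u : GL (Fin b) F) (r : ℕ) (hr : r.Prime) (hur : u ^ r = 1)
    (hfpf : ∀ v : Fin b → F, (u : Matrix (Fin b) (Fin b) F).mulVec v = v → v = 0) (t : ℕ)
    (ht : ¬ r ∣ t) :
    ∀ v : Fin b → F, ((u ^ t : GL (Fin b) F) : Matrix (Fin b) (Fin b) F).mulVec v = v → v = 0 := by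
  intro v hv
  have hcop : Nat.Coprime t r := ((Nat.Prime.coprime_iff_not_dvd hr).mpr ht).symm
  obtain ⟨m, -, hm⟩ := Nat.exists_mul_mod_eq_one_of_coprime hcop hr.one_lt
  have h1 : (u ^ t) ^ m = u := by
    rw [← pow_mul, pow_eq_pow_mod (t * m) hur, hm, pow_one]
  apply hfpf
  have h2 : ∀ k : ℕ, (((u ^ t) ^ k : GL (Fin b) F) : Matrix (Fin b) (Fin b) F).mulVec v = v := by
    intro k
    induction k with
    | zero => simp
    | succ k ih =>
      rw [pow_succ, Units.val_mul, ← Matrix.mulVec_mulVec, hv, ih]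
  rw [← h1]
  exact h2 m

/-- the context attached to a unitary matrix of order dividing `r` -/
theorem d2a_ctx (hq : Fintype.card F = q ^ 2) (r : ℕ) (hr : r.Prime) (hrp : r ≠ p) {n : ℕ}
    (A : Matrix (Fin n) (Fin n) F)
    (hA : ∀ u v, Cfsg.hermForm n F q (A.mulVec u) (A.mulVec v) = Cfsg.hermForm n F q u v)
    (hAr : A ^ r = 1) : Ctx hq (stdHerm hq n) (Matrix.toLin' A) r where
  herm := stdHerm_isHermitian hq n
  inv := glue_hinv hq A hA
  pos := hr.pos
  pow := by rw [← Matrix.toLin'_pow, hAr, Matrix.toLin'_one]; rfl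
  ne := glue_natCast_ne_zero r hr hrp

/-- a fixed-point-free unitary matrix of order `r` in dimension `b` is killed by an irreducible factor
of `Φ_r` -/
theorem d2a_exists_irr (hq : Fintype.card F = q ^ 2) (r : ℕ) (hr : r.Prime) (hrp : r ≠ p) (b : ℕ)
    (hb0 : 0 < b) (hb : b = bOf (orderOf (q : ZMod r))) (U : GL (Fin b) F)
    (hU : U ∈ Cfsg.GU b F q) (hUr : U ^ r = 1)
    (hfpf : ∀ v : Fin b → F, (U : Matrix (Fin b) (Fin b) F).mulVec v = v → v = 0) :
    ∃ P : F[X], Irreducible P ∧ P ∣ cyclotomic r F ∧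
      aeval (U : Matrix (Fin b) (Fin b) F) P = 0 := by
  have hUr' : (U : Matrix (Fin b) (Fin b) F) ^ r = 1 := by
    have := congrArg (fun x : GL (Fin b) F => (x : Matrix (Fin b) (Fin b) F)) hUr
    simpa using this
  have hc := d2a_ctx hq r hr hrp (U : Matrix (Fin b) (Fin b) F)
    ((Cfsg.Agent.Lib.Helper40.Herm.mem_GU_iff b U).mp hU) hUr'
  have : NeZero b := ⟨hb0.ne'⟩
  have htop : (⊤ : Submodule F (Fin b → F)) ≠ ⊥ := by
    intro h
    have h1 : Module.finrank F (⊤ : Submodule F (Fin b → F)) = 0 := by rw [h]; simp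
    rw [finrank_top, Module.finrank_fin_fun] at h1
    omega
  obtain ⟨Y, -, -, -, -, hYfr, P, hPirr, hPdvd, hPY⟩ :=
    exists_minimal hc hr (inv_top _) htop
      (fun v _ hv => hfpf v (by simpa [Matrix.toLin'_apply] using hv))
  have hYtop : Y = ⊤ := by
    apply Submodule.eq_top_of_finrank_eq
    rw [hYfr, ← hb, Module.finrank_fin_fun]
  refine ⟨P, hPirr, hPdvd, ?_⟩
  have h1 : aeval (Matrix.toLin' (U : Matrix (Fin b) (Fin b) F)) P = 0 := by
    apply LinearMap.ext
    intro v
    rw [LinearMap.zero_apply]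
    exact hPY v (hYtop ▸ Submodule.mem_top)
  rw [d2a_toLin_aeval] at h1
  apply Matrix.toLin'.injective
  rw [h1, map_zero]

open Classical in
/-- at most `deg P` of the powers `u ^ t`, `1 ≤ t < r`, are killed by the same polynomial `P` -/
theorem d2a_fibre (r : ℕ) (hr : r.Prime) (hrp : r ≠ p) (b : ℕ) (hb0 : 0 < b)
    (u : Matrix (Fin b) (Fin b) F)
    (hcyc : aeval u (cyclotomic r F) = 0) (P : F[X]) (hP0 : P ≠ 0) :
    ((Finset.Icc 1 (r - 1)).filter (fun t => aeval (u ^ t) P = 0)).card ≤ P.natDegree := by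
  have : Fact r.Prime := ⟨hr⟩
  have : NeZero b := ⟨hb0.ne'⟩
  let L := AlgebraicClosure F
  have hrL : (r : L) ≠ 0 := by
    have h1 : (r : L) = algebraMap F L (r : F) := by simp
    rw [h1]
    intro h
    exact glue_natCast_ne_zero (F := F) r hr hrp ((map_eq_zero (algebraMap F L)).mp h)
  obtain ⟨ω, hω⟩ := Module.End.exists_eigenvalue (Matrix.toLin' (u.map (algebraMap F L)))
  obtain ⟨v, hv⟩ := hω.exists_hasEigenvector
  have hcycω : (cyclotomic r L).eval ω = 0 := by
    have := d2a_eval_eig u ω v hv 1 (cyclotomic r F) (by rwa [pow_one])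
    rwa [Polynomial.map_cyclotomic, pow_one] at this
  have hω1 : ω ≠ 1 := by
    intro h
    rw [h, Polynomial.eval_one_cyclotomic_prime] at hcycω
    exact hrL hcycω
  have hωr : ω ^ r = 1 := by
    have h1 := congrArg (Polynomial.eval ω) (Polynomial.cyclotomic_prime_mul_X_sub_one L r)
    rw [Polynomial.eval_mul, hcycω, zero_mul] at h1
    simp only [Polynomial.eval_sub, Polynomial.eval_pow, Polynomial.eval_X, Polynomial.eval_one] at h1
    exact (sub_eq_zero.mp h1.symm)
  have hord : orderOf ω = r := orderOf_eq_prime hωr hω1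
  have hPL : P.map (algebraMap F L) ≠ 0 := (Polynomial.map_ne_zero_iff (algebraMap F L).injective).mpr hP0
  have h1 : ((Finset.Icc 1 (r - 1)).filter (fun t => aeval (u ^ t) P = 0)).card ≤
      (P.map (algebraMap F L)).roots.toFinset.card := by
    apply Finset.card_le_card_of_injOn (fun t => ω ^ t)
    · intro t ht
      rw [Finset.coe_filter] at ht
      rw [Finset.mem_coe, Multiset.mem_toFinset, Polynomial.mem_roots hPL]
      exact d2a_eval_eig u ω v hv t P ht.2
    · intro t ht t' ht'
      rw [Finset.coe_filter] at ht ht'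
      have h2 := Finset.mem_Icc.mp ht.1
      have h3 := Finset.mem_Icc.mp ht'.1
      have hr2 := hr.two_le
      apply pow_injOn_Iio_orderOf (x := ω)
      · rw [hord]; exact Set.mem_Iio.mpr (by omega)
      · rw [hord]; exact Set.mem_Iio.mpr (by omega)
  calc _ ≤ (P.map (algebraMap F L)).roots.toFinset.card := h1
    _ ≤ Multiset.card (P.map (algebraMap F L)).roots := Multiset.toFinset_card_le _
    _ ≤ (P.map (algebraMap F L)).natDegree := Polynomial.card_roots' _
    _ = P.natDegree := Polynomial.natDegree_map _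

open Classical in
/-- `a ≤ (r - 1) / b` fixed-point-free elements of order `r` of `SU_b(q)` with pairwise coprime
irreducible annihilating polynomials -/
theorem d2a_family (hq : Fintype.card F = q ^ 2) (r : ℕ) (hr : r.Prime) (hr2 : r ≠ 2) (hrp : r ≠ p)
    (b : ℕ) (hb : b = bOf (orderOf (q : ZMod r))) (hcb : b = cOf (orderOf (q : ZMod r)))
    (hrq1 : ¬ r ∣ q + 1) (a : ℕ) (ha : a ≤ (r - 1) / b) :
    ∃ (U : Fin a → GL (Fin b) F) (P : Fin a → F[X]),
      (∀ s, U s ∈ Cfsg.GU b F q ∧ U s ^ r = 1 ∧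
        (∀ v : Fin b → F, (U s : Matrix (Fin b) (Fin b) F).mulVec v = v → v = 0) ∧
        Matrix.GeneralLinearGroup.det (U s) = 1 ∧
        Irreducible (P s) ∧ P s ∣ cyclotomic r F ∧
        aeval (U s : Matrix (Fin b) (Fin b) F) (P s) = 0) ∧
      ∀ s s', s ≠ s' → IsCoprime (P s) (P s') := by
  rcases Nat.eq_zero_or_pos a with ha0 | ha0
  · subst ha0
    exact ⟨fun s => s.elim0, fun s => s.elim0, fun s => s.elim0, fun s => s.elim0⟩
  have hb0 : 0 < b := by
    rcases Nat.eq_zero_or_pos b with h | h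
    · rw [h, Nat.div_zero] at ha; omega
    · exact h
  have hrF : (r : F) ≠ 0 := glue_natCast_ne_zero r hr hrp
  obtain ⟨u, huU, hur, hufpf, hudet⟩ := exists_fpf hq r hr hr2 hrp b hcb
  have hudet1 := hudet hrq1
  -- an irreducible annihilator for each power prime to `r`
  have key : ∀ t : ℕ, ¬ r ∣ t → ∃ P : F[X], Irreducible P ∧ P ∣ cyclotomic r F ∧
      aeval ((u ^ t : GL (Fin b) F) : Matrix (Fin b) (Fin b) F) P = 0 := by
    intro t ht
    exact d2a_exists_irr hq r hr hrp b hb0 hb (u ^ t) (Subgroup.pow_mem _ huU t)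
      (by rw [← pow_mul, mul_comm, pow_mul, hur, one_pow]) (d2a_fpf_pow u r hr hur hufpf t ht)
  let f : ℕ → F[X] := fun t =>
    if h : ¬ r ∣ t then normalize (Classical.choose (key t h)) else 0
  have hf : ∀ t, ¬ r ∣ t → Irreducible (f t) ∧ f t ∣ cyclotomic r F ∧
      aeval ((u ^ t : GL (Fin b) F) : Matrix (Fin b) (Fin b) F) (f t) = 0 ∧
      normalize (f t) = f t := by
    intro t ht
    obtain ⟨h1, h2, h3⟩ := Classical.choose_spec (key t ht)
    have hft : f t = normalize (Classical.choose (key t ht)) := dif_pos ht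
    have hass : Associated (f t) (Classical.choose (key t ht)) := by
      rw [hft]; exact normalize_associated _
    refine ⟨hass.symm.irreducible h1, hass.dvd.trans h2, ?_, by rw [hft, normalize_idem]⟩
    obtain ⟨c, hc⟩ := hass.symm
    rw [← hc, map_mul, h3, zero_mul]
  have hT : ∀ t ∈ Finset.Icc 1 (r - 1), ¬ r ∣ t := by
    intro t ht
    have h2 := Finset.mem_Icc.mp ht
    have hr2' := hr.two_le
    exact Nat.not_dvd_of_pos_of_lt (by omega) (by omega)
  have h1T : 1 ∈ Finset.Icc 1 (r - 1) := by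
    have hr2' := hr.two_le
    exact Finset.mem_Icc.mpr ⟨le_refl _, by omega⟩
  have hcycu : aeval (u : Matrix (Fin b) (Fin b) F) (cyclotomic r F) = 0 := by
    obtain ⟨h1, h2, h3, -⟩ := hf 1 (hT 1 h1T)
    obtain ⟨R, hR⟩ := h2
    rw [pow_one] at h3
    rw [hR, map_mul, h3, zero_mul]
  -- the fibres of `f` have at most `b` elements
  have hfib : ∀ P ∈ Finset.image f (Finset.Icc 1 (r - 1)),
      ((Finset.Icc 1 (r - 1)).filter (fun t => f t = P)).card ≤ b := by
    intro P hP
    obtain ⟨t0, ht0, rfl⟩ := Finset.mem_image.mp hP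
    obtain ⟨h1, h2, -, -⟩ := hf t0 (hT t0 ht0)
    have hdeg : (f t0).natDegree = b := by
      rw [hb]; exact irr_allIrrDeg hq hr hrF (f t0) h1 h2
    have hsub : (Finset.Icc 1 (r - 1)).filter (fun t => f t = f t0) ⊆
        (Finset.Icc 1 (r - 1)).filter
          (fun t => aeval ((u : Matrix (Fin b) (Fin b) F) ^ t) (f t0) = 0) := by
      intro t ht
      rw [Finset.mem_filter] at ht ⊢
      refine ⟨ht.1, ?_⟩
      have := (hf t (hT t ht.1)).2.2.1
      rw [ht.2, Units.val_pow_eq_pow_val] at this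
      exact this
    calc _ ≤ _ := Finset.card_le_card hsub
      _ ≤ (f t0).natDegree := d2a_fibre r hr hrp b hb0 _ hcycu (f t0) h1.ne_zero
      _ = b := hdeg
  have hcard := Finset.card_le_mul_card_image (Finset.Icc 1 (r - 1)) b hfib
  rw [Nat.card_Icc] at hcard
  have hcard' : a ≤ (Finset.image f (Finset.Icc 1 (r - 1))).card := by
    have h3 : (r - 1) / b ≤ (Finset.image f (Finset.Icc 1 (r - 1))).card := by
      apply Nat.div_le_of_le_mul
      have : r - 1 + 1 - 1 = r - 1 := by omega
      rw [this] at hcard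
      exact hcard
    omega
  obtain ⟨ι⟩ : Nonempty (Fin a ↪ ↥(Finset.image f (Finset.Icc 1 (r - 1)))) := by
    apply Function.Embedding.nonempty_of_card_le
    rw [Fintype.card_fin, Fintype.card_coe]
    exact hcard'
  have hsel : ∀ s : Fin a, ∃ t ∈ Finset.Icc 1 (r - 1), f t = ((ι s : ↥(Finset.image f (Finset.Icc 1 (r - 1)))) : F[X]) :=
    fun s => Finset.mem_image.mp (ι s).2
  choose τ hτT hτ using hsel
  refine ⟨fun s => u ^ τ s, fun s => f (τ s), ?_, ?_⟩
  · intro s
    obtain ⟨h1, h2, h3, -⟩ := hf (τ s) (hT _ (hτT s))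
    refine ⟨Subgroup.pow_mem _ huU _, by rw [← pow_mul, mul_comm, pow_mul, hur, one_pow],
      d2a_fpf_pow u r hr hur hufpf _ (hT _ (hτT s)), ?_, h1, h2, h3⟩
    rw [map_pow, hudet1, one_pow]
  · intro s s' hss
    have hne : f (τ s) ≠ f (τ s') := by
      rw [hτ s, hτ s']
      intro h
      exact hss (ι.injective (Subtype.ext h))
    obtain ⟨h1, -, -, hn1⟩ := hf (τ s) (hT _ (hτT s))
    obtain ⟨h1', -, -, hn1'⟩ := hf (τ s') (hT _ (hτT s'))
    rw [Irreducible.coprime_iff_not_dvd h1]
    intro hdvd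
    have hass := Irreducible.associated_of_dvd h1 h1' hdvd
    apply hne
    rw [← hn1, ← hn1']
    exact normalize_eq_normalize hass.dvd hass.symm.dvd

end fam

end Cfsg.Agent.Lib.Helper14.Tu
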