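import Mathlib
import Cfsg.Prelude.Def_Classical
import Cfsg.Prelude.Def_LieClassical
import Cfsg.Agent.Lib.Helper14.TuDefs
import Cfsg.Agent.Lib.Helper14.TuGlue
import Cfsg.Agent.Lib.Helper76.TuIRR
import Cfsg.Agent.Lib.Helper76.TuDEC
import Cfsg.Agent.Lib.Helper69.TuFIX
import Cfsg.Agent.Lib.Helper69.TuHALF
import Cfsg.Agent.Lib.Helper69.TuTI
import Cfsg.Agent.Lib.Helper13.GU
import Cfsg.Agent.Lib.Helper19.TuD2Aa
import Cfsg.Agent.Lib.Helper19.TuD2Ab

/-! # Tu hive (S5953, helper14): leaf TU-D2A `bad_selfdual` (helper19) -/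

set_option autoImplicit false

open scoped MatrixGroups

namespace Cfsg.Agent.Lib.Helper14.Tu

open Cfsg.Agent.Lib.Helper40.Herm Cfsg.Agent.Lib.Helper2.BG Polynomial Module Matrix

section abs
variable {F : Type*} [Field F] [Fintype F] {q : ℕ} {hF : Fintype.card F = q ^ 2}
  {V : Type*} [AddCommGroup V] [Module F V] [FiniteDimensional F V]
  {H : V →ₗ[F] V →ₛₗ[tauHom hF] F} {g : Module.End F V}

/-- if no `b`-dimensional invariant subspace killed by an irreducible factor of `Φ_r` is totally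
isotropic, every invariant totally isotropic subspace consists of fixed vectors -/
theorem d2a_abs {r : ℕ} (hc : Ctx hF H g r) (hr : r.Prime)
    (hyp : ∀ (P : F[X]) (Y : Submodule F V), Irreducible P → P ∣ cyclotomic r F → Inv g Y → Y ≠ ⊥ →
      (∀ v ∈ Y, aeval g P v = 0) → finrank F ↥Y = bOf (orderOf (q : ZMod r)) → ¬ HIsotropic H Y)
    {W : Submodule F V} (hWi : Inv g W) (hW : HIsotropic H W) : W ≤ LinearMap.ker (g - 1) := by
  obtain ⟨M, hMW, hMi, hMfix, -, hsup, -⟩ := exists_moved hc hr hWi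
  by_cases hM0 : M = ⊥
  · rw [hM0, sup_bot_eq] at hsup
    rw [← hsup]
    exact inf_le_right
  · exfalso
    obtain ⟨Y, hYM, hYi, hY0, -, hYfr, P, hPirr, hPdvd, hPY⟩ :=
      exists_minimal hc hr hMi hM0 hMfix
    exact hyp P Y hPirr hPdvd hYi hY0 hPY hYfr
      (fun x hx y hy => hW x (hMW (hYM hx)) y (hMW (hYM hy)))

end abs

section core
variable {F : Type*} [Field F] [Fintype F] {p : ℕ} [Fact p.Prime] [CharP F p] {q : ℕ}

omit [Fintype F] [Fact p.Prime] [CharP F p] in
/-- coprime polynomials: a vector killed by `A(M)`, with `B(M) = 0`, vanishes -/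
theorem d2a_coprime_kill {b : ℕ} (M : Matrix (Fin b) (Fin b) F) (A B : F[X]) (hAB : IsCoprime A B)
    (hB : aeval M B = 0) (w : Fin b → F) (hw : aeval M A *ᵥ w = 0) : w = 0 := by
  obtain ⟨S, T, hST⟩ := hAB
  have h1 := congrArg (aeval M) hST
  rw [map_add, map_mul, map_mul, hB, mul_zero, add_zero, map_one] at h1
  have h2 : (aeval M S * aeval M A) *ᵥ w = w := by rw [h1, Matrix.one_mulVec]
  rw [← Matrix.mulVec_mulVec, hw, Matrix.mulVec_zero] at h2
  exact h2.symm

/-- the core of TU-D2A: an invariant totally isotropic subspace of `diag(U_0, …, U_{a-1}, 1)` has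
dimension at most `k / 2` -/
theorem d2a_core (hq : Fintype.card F = q ^ 2) (r : ℕ) (hr : r.Prime) (hrp : r ≠ p) {b a k n : ℕ}
    (hb0 : 0 < b) (hb : b = bOf (orderOf (q : ZMod r)))
    (e : (Fin b × Fin a) ⊕ Fin k ≃ Fin n)
    (U : Fin a → Matrix (Fin b) (Fin b) F) (P : Fin a → F[X])
    (hUpres : ∀ s, ∀ u v : Fin b → F,
      Cfsg.hermForm b F q (U s *ᵥ u) (U s *ᵥ v) = Cfsg.hermForm b F q u v)
    (hUr : ∀ s, U s ^ r = 1)
    (hUfpf : ∀ s, ∀ w : Fin b → F, U s *ᵥ w = w → w = 0)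
    (hPU : ∀ s, aeval (U s) (P s) = 0)
    (hcop : ∀ s s', s ≠ s' → IsCoprime (P s) (P s'))
    (W : Submodule F (Fin n → F)) (hWi : Inv (Matrix.toLin' (d2a_Y e U 1)) W)
    (hW : HIsotropic (stdHerm hq n) W) :
    2 * finrank F ↥W ≤ k := by
  have : Fact r.Prime := ⟨hr⟩
  have hq0 : q ≠ 0 := by
    have := Cfsg.Agent.Lib.Helper44.two_le_q_of_card hq
    omega
  have hrF : (r : F) ≠ 0 := glue_natCast_ne_zero r hr hrp
  have hXr : d2a_Y e U 1 ^ r = 1 := by
    rw [d2a_Y_pow, one_pow]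
    have : (fun s => U s ^ r) = 1 := by funext s; exact hUr s
    rw [this, d2a_Y_one]
  have hc := d2a_ctx hq r hr hrp (d2a_Y e U 1) (d2a_preserves q e U hUpres) hXr
  -- blockwise description of `P(g) w = 0`
  have hblock : ∀ (Q : F[X]) (w : Fin n → F),
      aeval (Matrix.toLin' (d2a_Y e U 1)) Q w = 0 →
      (∀ s, aeval (U s) Q *ᵥ (fun a' => w (e (Sum.inl (a', s)))) = 0) ∧
      (Q.eval 1 • fun j => w (e (Sum.inr j))) = 0 := by
    intro Q w hw
    rw [d2a_toLin_aeval, Matrix.toLin'_apply, d2a_aeval] at hw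
    have h1 := d2a_Y_mulVec e (fun s => aeval (U s) Q) (aeval (1 : Matrix (Fin k) (Fin k) F) Q) w
    rw [hw] at h1
    constructor
    · intro s
      funext a'
      exact (h1.1 a' s).symm
    · funext j
      have h2 := (h1.2 j).symm
      have h3 : aeval (1 : Matrix (Fin k) (Fin k) F) Q =
          algebraMap F (Matrix (Fin k) (Fin k) F) (Q.eval 1) := by
        rw [← Polynomial.aeval_algebraMap_apply_eq_algebraMap_eval, map_one]
      rw [h3, Matrix.algebraMap_eq_diagonal, Matrix.mulVec_diagonal] at h2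
      simpa using h2
  have heval1 : ∀ Q : F[X], Q ∣ cyclotomic r F → Q.eval 1 ≠ 0 := by
    intro Q hQ h0
    obtain ⟨R, hR⟩ := hQ
    have := congrArg (Polynomial.eval 1) hR
    rw [Polynomial.eval_one_cyclotomic_prime, Polynomial.eval_mul, h0, zero_mul] at this
    exact hrF this
  -- the hypothesis of `d2a_abs`
  have hyp : ∀ (Q : F[X]) (Y : Submodule F (Fin n → F)), Irreducible Q → Q ∣ cyclotomic r F →
      Inv (Matrix.toLin' (d2a_Y e U 1)) Y → Y ≠ ⊥ →
      (∀ v ∈ Y, aeval (Matrix.toLin' (d2a_Y e U 1)) Q v = 0) →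
      finrank F ↥Y = bOf (orderOf (q : ZMod r)) → ¬ HIsotropic (stdHerm hq n) Y := by
    intro Q Y hQirr hQdvd _ hY0 hQY hYfr hYiso
    obtain ⟨v, hvY, hv0⟩ := (Submodule.ne_bot_iff Y).mp hY0
    -- the identity coordinates of every vector of `Y` vanish
    have hid : ∀ w ∈ Y, ∀ j, w (e (Sum.inr j)) = 0 := by
      intro w hw j
      have h1 := (hblock Q w (hQY w hw)).2
      have h2 := congrFun h1 j
      simp only [Pi.smul_apply, smul_eq_mul, Pi.zero_apply] at h2
      exact (mul_eq_zero.mp h2).resolve_left (heval1 Q hQdvd)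
    -- some block of `v` is nonzero
    have hex : ∃ s0, (fun a' => v (e (Sum.inl (a', s0)))) ≠ 0 := by
      by_contra hcon
      push Not at hcon
      apply hv0
      funext i
      obtain ⟨j, rfl⟩ := e.surjective i
      rcases j with ⟨a', s⟩ | j
      · exact congrFun (hcon s) a'
      · exact hid v hvY j
    obtain ⟨s0, hs0⟩ := hex
    have hncop : ¬ IsCoprime Q (P s0) := by
      intro hcp
      exact hs0 (d2a_coprime_kill (U s0) Q (P s0) hcp (hPU s0) _ ((hblock Q v (hQY v hvY)).1 s0))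
    have hQP : Q ∣ P s0 := by
      by_contra h
      exact hncop ((Irreducible.coprime_iff_not_dvd hQirr).mpr h)
    -- the other blocks of every vector of `Y` vanish
    have hother : ∀ w ∈ Y, ∀ s, s ≠ s0 → ∀ a', w (e (Sum.inl (a', s))) = 0 := by
      intro w hw s hs a'
      have hcp : IsCoprime Q (P s) :=
        IsCoprime.of_isCoprime_of_dvd_left (hcop s0 s (Ne.symm hs)) hQP
      exact congrFun
        (d2a_coprime_kill (U s) Q (P s) hcp (hPU s) _ ((hblock Q w (hQY w hw)).1 s)) a'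
    -- the projection of `Y` to the block `s0` is bijective
    let π : ↥Y →ₗ[F] (Fin b → F) :=
      (LinearMap.funLeft F F (fun a' : Fin b => e (Sum.inl (a', s0)))).comp (Submodule.subtype _)
    have hπ : ∀ w, π w = fun a' => w.1 (e (Sum.inl (a', s0))) := fun w => rfl
    have hinj : Function.Injective π := by
      rw [← LinearMap.ker_eq_bot, LinearMap.ker_eq_bot']
      intro w hw
      apply Subtype.ext
      funext i
      obtain ⟨j, rfl⟩ := e.surjective i
      rcases j with ⟨a', s⟩ | j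
      · by_cases hs : s = s0
        · subst hs
          have := congrFun hw a'
          rw [hπ] at this
          exact this
        · exact hother w.1 w.2 s hs a'
      · exact hid w.1 w.2 j
    have hsurj : Function.Surjective π := by
      apply (LinearMap.injective_iff_surjective_of_finrank_eq_finrank _).mp hinj
      rw [hYfr, ← hb, Module.finrank_fin_fun]
    obtain ⟨w, hw⟩ := hsurj (Pi.single ⟨0, hb0⟩ 1)
    rw [hπ] at hw
    have h1 := hYiso w.1 w.2 w.1 w.2
    rw [stdHerm_apply, d1_herm_split q e] at h1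
    have h2 : ∑ j : Fin k, w.1 (e (Sum.inr j)) * (w.1 (e (Sum.inr j))) ^ q = 0 := by
      apply Finset.sum_eq_zero
      intro j _
      rw [hid w.1 w.2 j, zero_mul]
    have h3 : ∑ s : Fin a, Cfsg.hermForm b F q (fun a' => w.1 (e (Sum.inl (a', s))))
        (fun a' => w.1 (e (Sum.inl (a', s)))) = 1 := by
      rw [Finset.sum_eq_single s0]
      · rw [hw]
        have := Cfsg.Agent.Lib.Helper13.hermForm_single_single (F := F) b q hq0 ⟨0, hb0⟩ ⟨0, hb0⟩
        rw [if_pos rfl] at this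
        exact this
      · intro s _ hs
        have : (fun a' => w.1 (e (Sum.inl (a', s)))) = 0 := by
          funext a'
          exact hother w.1 w.2 s hs a'
        rw [this]
        unfold Cfsg.hermForm
        simp
      · intro h
        exact absurd (Finset.mem_univ s0) h
    rw [h2, h3, add_zero] at h1
    exact one_ne_zero h1
  have hWker := d2a_abs hc hr hyp hWi hW
  -- the fixed space is nondegenerate
  have hnd := nondeg_eigen hc (inv_top _) (hnondegOn_top (stdHerm_nondeg hq n)) 1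
    (by rw [map_one, mul_one])
  rw [one_smul] at hnd
  have hWZ : W ≤ ⊤ ⊓ LinearMap.ker (Matrix.toLin' (d2a_Y e U 1) - 1) := le_inf le_top hWker
  have h1 := finrank_isotropic_le (stdHerm_isHermitian hq n) hnd hWZ hW
  have h2 : finrank F ↥(⊤ ⊓ LinearMap.ker (Matrix.toLin' (d2a_Y e U 1) - 1)) ≤
      finrank F ↥(LinearMap.ker (Matrix.toLin' (d2a_Y e U 1) - 1)) :=
    Submodule.finrank_mono inf_le_right
  have h3 := d2a_finrank_ker_le e U hUfpf
  omega

end core

section top
variable {F : Type*} [Field F] [Fintype F] {p : ℕ} [Fact p.Prime] [CharP F p] {q : ℕ}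

/-- the arithmetic of TU-D2A -/
theorem d2a_arith (n m b s0 : ℕ) (hb0 : 0 < b) (hbm : b ≤ m)
    (h : n / b < s0 + 2 * (m / b)) : n - min s0 (n / b) * b < 2 * m := by
  have h1 : b * (n / b) + n % b = n := Nat.div_add_mod n b
  have h2 : n % b < b := Nat.mod_lt n hb0
  have h3 : b * (m / b) ≤ m := Nat.mul_div_le m b
  have h4 : 1 ≤ m / b := Nat.div_pos hbm hb0
  rcases le_total s0 (n / b) with hle | hle
  · rw [min_eq_left hle]
    have h5 : n / b + 1 ≤ s0 + 2 * (m / b) := h
    have h6 : b * (n / b + 1) ≤ b * (s0 + 2 * (m / b)) := Nat.mul_le_mul_left b h5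
    rw [mul_add, mul_one, mul_add] at h6
    have h7 : b * (2 * (m / b)) = 2 * (b * (m / b)) := by ring
    rw [h7] at h6
    have h8 : s0 * b = b * s0 := mul_comm _ _
    rw [h8]
    omega
  · rw [min_eq_right hle]
    have h8 : n / b * b = b * (n / b) := mul_comm _ _
    rw [h8]
    omega

/-- TU-D2A. -/
theorem bad_selfdual (hq : Fintype.card F = q ^ 2) (r : ℕ) (hr : r.Prime) (hr2 : r ≠ 2) (hrp : r ≠ p)
    (n m : ℕ) (hn : 3 ≤ n) (hm : 1 ≤ m) (hmn : 2 * m ≤ n) (i b c : ℕ)
    (hi : i = orderOf (q : ZMod r)) (hb : b = bOf i) (hc : c = cOf i) (hi4 : i % 4 = 2) (hi2 : 2 < i)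
    (hbm : b ≤ m) (h : n / b < (r - 1) / b + 2 * (m / b)) :
    ∃ x : Matrix.SpecialLinearGroup (Fin n) F, IsBad n q m r x := by
  have hbi : b = i / 2 := by
    rw [hb]
    unfold bOf
    rw [if_pos (Nat.even_iff.mpr (by omega))]
  have hcb : b = cOf i := by
    unfold cOf
    rw [if_neg (by omega), if_pos hi4]
    exact hbi
  have hb0 : 0 < b := by omega
  have hrq1 : ¬ r ∣ q + 1 := by
    intro hd
    have h1 : ((q : ZMod r) + 1) = 0 := by
      have := (ZMod.natCast_eq_zero_iff (q + 1) r).mpr hd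
      push_cast at this
      exact this
    have h2 : (q : ZMod r) ^ 2 = 1 := by
      have h3 : (q : ZMod r) = -1 := by linear_combination h1
      rw [h3]
      ring
    have h3 : orderOf (q : ZMod r) ∣ 2 := orderOf_dvd_of_pow_eq_one h2
    have h4 := Nat.le_of_dvd (by norm_num) h3
    omega
  have hq0 : q ≠ 0 := by
    have := Cfsg.Agent.Lib.Helper44.two_le_q_of_card hq
    omega
  have ha1 : min ((r - 1) / b) (n / b) ≤ (r - 1) / b := min_le_left _ _
  have ha2 : min ((r - 1) / b) (n / b) ≤ n / b := min_le_right _ _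
  have hab : min ((r - 1) / b) (n / b) * b ≤ n :=
    (Nat.mul_le_mul_right b ha2).trans (Nat.div_mul_le_self n b)
  have hk2m := d2a_arith n m b ((r - 1) / b) hb0 hbm h
  obtain ⟨a, haeq⟩ : ∃ a, a = min ((r - 1) / b) (n / b) := ⟨_, rfl⟩
  rw [← haeq] at ha1 hab hk2m
  obtain ⟨k, hkeq⟩ : ∃ k, k = n - a * b := ⟨_, rfl⟩
  rw [← hkeq] at hk2m
  have hcard : Fintype.card ((Fin b × Fin a) ⊕ Fin k) = n := by
    rw [Fintype.card_sum, Fintype.card_prod, Fintype.card_fin, Fintype.card_fin, Fintype.card_fin,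
      mul_comm]
    omega
  obtain ⟨e⟩ : Nonempty ((Fin b × Fin a) ⊕ Fin k ≃ Fin n) := ⟨Fintype.equivFinOfCardEq hcard⟩
  obtain ⟨U, P, hUP, hcop⟩ := d2a_family hq r hr hr2 hrp b (hi ▸ hb) (hi ▸ hcb) hrq1 a ha1
  have hUpres : ∀ s, ∀ u v : Fin b → F,
      Cfsg.hermForm b F q ((U s : Matrix (Fin b) (Fin b) F) *ᵥ u)
        ((U s : Matrix (Fin b) (Fin b) F) *ᵥ v) = Cfsg.hermForm b F q u v :=
    fun s => (Cfsg.Agent.Lib.Helper40.Herm.mem_GU_iff b (U s)).mp (hUP s).1
  have hUr : ∀ s, (U s : Matrix (Fin b) (Fin b) F) ^ r = 1 := by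
    intro s
    have := congrArg (fun x : GL (Fin b) F => (x : Matrix (Fin b) (Fin b) F)) (hUP s).2.1
    simpa using this
  have hUfpf : ∀ s, ∀ w : Fin b → F, (U s : Matrix (Fin b) (Fin b) F) *ᵥ w = w → w = 0 :=
    fun s => (hUP s).2.2.1
  have hUdet : ∀ s, (U s : Matrix (Fin b) (Fin b) F).det = 1 := by
    intro s
    have := congrArg (fun x : Fˣ => (x : F)) (hUP s).2.2.2.1
    simpa using this
  have hPU : ∀ s, aeval (U s : Matrix (Fin b) (Fin b) F) (P s) = 0 := fun s => (hUP s).2.2.2.2.2.2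
  obtain ⟨X, hXeq⟩ : ∃ X, X = d2a_Y e (fun s => (U s : Matrix (Fin b) (Fin b) F)) 1 := ⟨_, rfl⟩
  have hdet : X.det = 1 := by
    rw [hXeq, d2a_Y_det, Matrix.det_one, mul_one]
    exact Finset.prod_eq_one (fun s _ => hUdet s)
  have hpres : ∀ u v : Fin n → F,
      Cfsg.hermForm n F q (X *ᵥ u) (X *ᵥ v) = Cfsg.hermForm n F q u v := by
    rw [hXeq]
    exact d2a_preserves q e _ hUpres
  have hXr : X ^ r = 1 := by
    rw [hXeq, d2a_Y_pow, one_pow]
    have : (fun s => (U s : Matrix (Fin b) (Fin b) F) ^ r) = 1 := by funext s; exact hUr s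
    rw [this, d2a_Y_one]
  have hnofix : ¬ Fixes n q m X := by
    rintro ⟨W, hWm, hWiso, hWmap⟩
    have hWi : Inv (Matrix.toLin' X) W := (inv_iff_map_le _ W).mpr hWmap
    have hW : HIsotropic (stdHerm hq n) W := by
      intro x hx y hy
      rw [stdHerm_apply]
      exact hWiso x hx y hy
    rw [hXeq] at hWi
    have := d2a_core hq r hr hrp hb0 (hi ▸ hb) e _ P hUpres hUr hUfpf hPU hcop W hWi hW
    omega
  obtain ⟨x, hx⟩ : ∃ x : Matrix.SpecialLinearGroup (Fin n) F,
      (x : Matrix (Fin n) (Fin n) F) = X := ⟨⟨X, hdet⟩, rfl⟩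
  refine ⟨x, ?_, ⟨1, ?_⟩, ?_, hx ▸ hnofix⟩
  · intro u v
    have := hpres u v
    rw [← hx] at this
    exact this
  · rw [Matrix.SpecialLinearGroup.coe_pow, one_smul, hx]
    exact hXr
  · intro z hz
    rw [hx] at hz
    apply hnofix
    obtain ⟨W, -, hWiso, hWfr⟩ := exists_isotropic (stdHerm_isHermitian hq n)
      (hnondegOn_top (stdHerm_nondeg hq n)) m (by rw [finrank_top, Module.finrank_fin_fun]; exact hmn)
    refine ⟨W, hWfr, ?_, ?_⟩
    · intro u hu v hv
      have := hWiso u hu v hv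
      rwa [stdHerm_apply] at this
    · rintro _ ⟨v, hv, rfl⟩
      have hz' : X = z • (1 : Matrix (Fin n) (Fin n) F) := hz
      rw [hz', Matrix.toLin'_apply, Matrix.smul_mulVec, Matrix.one_mulVec]
      exact W.smul_mem z hv

end top

end Cfsg.Agent.Lib.Helper14.Tu
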